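import Groth.Agent.Lib.VeryAmple11.AmplePow

/-!
Morphisms into a projective bundle and invertible quotients of the inverse image.
-/

set_option autoImplicit false

universe u

open CategoryTheory Limits AlgebraicGeometry TopologicalSpace Opposite
open scoped HomogeneousIdeal

set_option backward.isDefEq.respectTransparency false

noncomputable section

namespace Groth.Agent.VA11

open Groth.Agent.M1

variable {S X : Scheme.{u}}

/-- Homomorphisms of modules are determined on affine opens. -/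
theorem hom_ext_affine {M N : S.Modules} (φ ψ : M ⟶ N)
    (h : ∀ (U : S.Opens), IsAffineOpen U → ∀ m : Γ(M, U), φ.app U m = ψ.app U m) : φ = ψ := by
  refine Scheme.Modules.hom_ext _ _ fun V => ?_
  ext t
  refine M1.section_ext _ _ fun x hx => ?_
  obtain ⟨W, hW, hxW, hWV⟩ := exists_isAffineOpen_mem_and_subset hx
  rw [← TopCat.Presheaf.germ_res_apply N.presheaf (homOfLE hWV) x hxW (φ.app V t),
    ← TopCat.Presheaf.germ_res_apply N.presheaf (homOfLE hWV) x hxW (ψ.app V t)]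
  refine congrArg _ ?_
  show mres N hWV (φ.app V t) = mres N hWV (ψ.app V t)
  rw [← app_mres, ← app_mres, h W hW]

/-- The inverse image of a section along a composite. -/
theorem pullbackComp_inv_pullSec {P : Scheme.{u}} (r : X ⟶ P) (p : P ⟶ S) (E : S.Modules) {U : S.Opens}
    (e : Γ(E, U)) :
    ((Scheme.Modules.pullbackComp r p).inv.app E).app ((r ≫ p) ⁻¹ᵁ U) (M2.pullSec (r ≫ p) E e) =
      M2.pullSec r ((Scheme.Modules.pullback p).obj E) (M2.pullSec p E e) := by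
  have h := unit_conjugateEquiv
    ((Scheme.Modules.pullbackPushforwardAdjunction p).comp (Scheme.Modules.pullbackPushforwardAdjunction r))
    (Scheme.Modules.pullbackPushforwardAdjunction (r ≫ p)) (Scheme.Modules.pullbackComp r p).inv E
  rw [Scheme.Modules.conjugateEquiv_pullbackComp_inv] at h
  exact (congrArg (fun ψ => ψ.app U e) h).symm

/-- Generating sections give an epimorphism from the inverse image. -/
theorem epi_of_gens {f : X ⟶ S} {L : X.Modules} (hL : PicF.IsInvertible L) {E : S.Modules}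
    {φ : E ⟶ (Scheme.Modules.pushforward f).obj L} (hg : Gens φ) :
    Epi (((Scheme.Modules.pullbackPushforwardAdjunction f).homEquiv E L).symm φ) := by
  let adj := Scheme.Modules.pullbackPushforwardAdjunction f
  let ψ := (adj.homEquiv E L).symm φ
  refine (epi_iff_stalk _).2 fun x a => ?_
  obtain ⟨U, m, hm⟩ := hg x
  have hxU : x ∈ f ⁻¹ᵁ U := gl_le (secs φ U m) hm
  have h1 : ψ.app (f ⁻¹ᵁ U) (M2.pullSec f E m) = secs φ U m :=
    congrArg (fun χ : E ⟶ (Scheme.Modules.pushforward f).obj L => χ.app U m)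
      ((adj.homEquiv_unit (f := ψ)).symm.trans ((adj.homEquiv E L).apply_symm_apply φ))
  obtain ⟨c, hc⟩ := ((mem_gl_iff hL (W := f ⁻¹ᵁ U) hxU).1 hm).2 a
  refine ⟨c • Amp.gm ((Scheme.Modules.pullback f).obj E) x (U := f ⁻¹ᵁ U) hxU (M2.pullSec f E m), ?_⟩
  refine ((M2.stMap ((M2.pmF X).map ψ) x).map_smul c _).trans ?_
  refine Eq.trans (congrArg (c • ·) ((M2.stMap_sg ((M2.pmF X).map ψ) hxU (M2.pullSec f E m)).trans
    (congrArg (fun z => Amp.gm L x (U := f ⁻¹ᵁ U) hxU z) h1))) hc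

section bundle

variable {P : Scheme.{u}} {E : S.Modules} {𝒮 : RelProj.QCGrAlg S} {j : E ⟶ 𝒮.toModule} {p : P ⟶ S}
  {chart : ∀ (U : S.Opens) (hU : IsAffineOpen U), ((p ⁻¹ᵁ U : P.Opens) : Scheme.{u}) ≅ Proj (𝒮.deg U hU)}
  {O1 : P.Modules}
  {lam : ∀ (U : S.Opens) (hU : IsAffineOpen U),
    O1 ⟶ (Scheme.Modules.pushforward (RelProj.emb p chart U hU)).obj (GrTwist.twist (𝒮.deg U hU) 1)}
  (hE : Coh.IsQCoh E) (hj : RelProj.IsGrSymAlg E 𝒮 j) (hP : RelProj.IsRelProj 𝒮 p chart)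
  (hO : RelProj.IsRelTwist 𝒮 p chart 1 O1 lam)

include hO in
/-- The canonical map takes the values `j(e) / 1`. -/
theorem app_eq_phi {φ : E ⟶ (Scheme.Modules.pushforward p).obj O1}
    (hφ : ∀ (U : S.Opens) (hU : IsAffineOpen U) (e : Γ(E, U))
      (y : ↥(RelProj.emb p chart U hU ⁻¹ᵁ (p ⁻¹ᵁ U))),
      GrTwist.val (V := RelProj.emb p chart U hU ⁻¹ᵁ (p ⁻¹ᵁ U))
          ((lam U hU).app (p ⁻¹ᵁ U) ((φ.app U) e)) y =
        algebraMap (𝒮.presheaf.obj (op U)) (GrTwist.Loc (𝒮.deg U hU) y.1)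
          ((j.app U) e : 𝒮.presheaf.obj (op U)))
    (U : S.Opens) (hU : IsAffineOpen U) (e : Γ(E, U)) :
    φ.app U e = phi hO U hU (j.app U e) (hj.2 U hU e) := by
  refine cval_ext hO U hU le_rfl fun y hy => ?_
  rw [cval_phi]
  refine Eq.trans (hφ U hU e ⟨y, hy⟩) ?_
  exact (Localization.mk_one_eq_algebraMap _).symm

include hE hO in
/-- The values `j(e) / 1` generate. -/
theorem gens_of_eq_phi {φ : E ⟶ (Scheme.Modules.pushforward p).obj O1}
    (h : ∀ (U : S.Opens) (hU : IsAffineOpen U) (e : Γ(E, U)),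
      φ.app U e = phi hO U hU (j.app U e) (hj.2 U hU e)) : Gens φ := fun x => by
  obtain ⟨U, hU, hx⟩ := RelProj11.exists_mem_preimage (p := p) x
  obtain ⟨a, ha, hxa⟩ := mem_dd_of_mem (chart := chart) (hU := hU) (isGenDegOne_of_isGrSymAlg hE hj) hx
  obtain ⟨e, he⟩ := (bijective_deg_one hE hj U hU).2 ⟨a, ha⟩
  obtain rfl : (show 𝒮.presheaf.obj (op U) from j.app U e) = a := congrArg Subtype.val he
  refine ⟨U, e, le_gl (dd_le U hU _) ?_ hxa⟩
  show Twist.IsGen O1 _ (mres O1 _ (φ.app U e))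
  rw [h U hU e]
  exact isGen_phi hO U hU _

variable {f : X ⟶ S} {L : X.Modules}

include hE hj hP hO in
/-- Generating sections give a morphism to the projective bundle inducing them. -/
theorem exists_morphism_of_gens {φ : E ⟶ (Scheme.Modules.pushforward f).obj L} (h : Gens φ) :
    ∃ (r : X ⟶ P) (hr : r ≫ p = f) (τ : (Scheme.Modules.pullback r).obj O1 ≅ L),
      ∀ (U : S.Opens) (hU : IsAffineOpen U) (e : Γ(E, U)),
        sig hO r τ U hU ⟨j.app U e, hj.2 U hU e⟩ =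
          mres L (show r ⁻¹ᵁ (p ⁻¹ᵁ U) ≤ f ⁻¹ᵁ U by rw [← hr]; rfl) (secs φ U e) := by
  have hgen := isGenDegOne_of_isGrSymAlg hE hj
  let eq1 := fun (U : S.Opens) (hU : IsAffineOpen U) => Equiv.ofBijective _ (bijective_deg_one hE hj U hU)
  have heq1 : ∀ (U : S.Opens) (hU : IsAffineOpen U) (a : 𝒮.deg U hU 1), j.app U ((eq1 U hU).symm a) = a.1 :=
    fun U hU a => congrArg Subtype.val ((eq1 U hU).apply_symm_apply a)
  let s := fun (U : S.Opens) (hU : IsAffineOpen U) (a : 𝒮.deg U hU 1) => secs φ U ((eq1 U hU).symm a)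
  let lft := fun (U : S.Opens) (hU : IsAffineOpen U) =>
    RingEquiv.ofBijective (SymAlg11.liftOn 𝒮.toQCAlg j U) (SymAlg11.bijective_liftOn hE hj.1 U hU)
  let psi := fun (U : S.Opens) (hU : IsAffineOpen U) (e : 𝒮.deg U hU 1) =>
    (SymAlg11.symLift ((ores (gl_le (s U hU e))).hom.comp (f.app U).hom)
      (AddMonoidHom.mk' (fun m : Γ(E, U) => cf (s U hU e) (secs φ U m))
        fun m m' => by rw [secs, map_add, cf_add])
      (fun r m => by
        show cf (s U hU e) (secs φ U (r • m)) = _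
        rw [secs_smul, cf_smul_right]; rfl)).comp (lft U hU).symm.toRingHom
  let G : GenData f L 𝒮 :=
    { s := s
      s_res := fun {U V} hU hV hle a => by
        show mres L (f.preimage_mono hle) (secs φ U _) = secs φ V _
        rw [secs_res]
        congr 1
        refine ((eq1 V hV).eq_symm_apply).2 (Subtype.ext ?_)
        show j.app V (mres E hle ((eq1 U hU).symm a)) = (𝒮.res hU hV hle a.1)
        rw [app_mres j hle]
        exact congrArg _ (heq1 U hU a)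
      cov := fun U hU x hx => by
        obtain ⟨U₀, m₀, hm₀⟩ := h x
        obtain ⟨m, hm⟩ := exists_mem_gl_of_nbhd hE φ hU hx hm₀
        exact ⟨eq1 U hU m, by simpa [s] using hm⟩
      psi := psi
      psi_one := fun U hU e a => by
        have h1 : (lft U hU).symm a.1 = SymmetricAlgebra.ι Γ(S, U) Γ(E, U) ((eq1 U hU).symm a) := by
          rw [RingEquiv.symm_apply_eq]
          exact ((SymAlg11.liftOn_ι _ _ U _).trans (heq1 U hU a)).symm
        show SymAlg11.symLift _ _ _ ((lft U hU).symm a.1) = _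
        rw [h1, SymAlg11.symLift_ι]
        rfl
      psi_str := fun U hU e r => by
        have h1 : (lft U hU).symm ((𝒮.str.app (op U)).hom r) = algebraMap Γ(S, U) (SymAlg11.SymOn E U) r := by
          rw [RingEquiv.symm_apply_eq]
          exact (SymAlg11.liftOn_algebraMap _ _ U r).symm
        show SymAlg11.symLift _ _ _ ((lft U hU).symm _) = _
        rw [h1, SymAlg11.symLift_algebraMap]
        rfl }
  obtain ⟨τ, hτ⟩ := G.exists_iso hgen hP hO
  refine ⟨G.toP hgen hP, G.toP_comp hgen hP, τ, fun U hU e => ?_⟩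
  have hr := G.toP_comp hgen hP
  let r := G.toP hgen hP
  let b : 𝒮.deg U hU 1 := ⟨j.app U e, hj.2 U hU e⟩
  have hb : G.s U hU b = secs φ U e := congrArg (secs φ U) ((eq1 U hU).symm_apply_apply e)
  have hle : r ⁻¹ᵁ (p ⁻¹ᵁ U) ≤ f ⁻¹ᵁ U := by rw [← hr]; rfl
  change sig hO r τ U hU b = mres L hle (secs φ U e)
  rw [← hb]
  refine modules_eq_of_locally_eq L _ (fun a : 𝒮.deg U hU 1 => r ⁻¹ᵁ dd p chart U hU a.1)
    (fun a => r.preimage_mono (dd_le U hU a.1)) (fun x hx => ?_) _ _ fun a => ?_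
  · obtain ⟨a, ha⟩ := G.cov U hU x (hle hx)
    exact Opens.mem_iSup.2 ⟨a, (G.preimage_dd_toP hgen hP U hU a).ge ha⟩
  have hga := G.preimage_dd_toP hgen hP U hU a
  have hsa : mres L (r.preimage_mono (dd_le U hU a.1)) (sig hO r τ U hU a) =
      mres L (hga.le.trans (gl_le _)) (G.s U hU a) := by
    have h1 : τ.hom.app (gl (G.s U hU a)) (mres _ hga.ge
        (M2.pullSec r O1 (mres O1 (dd_le U hU a.1) (phi hO U hU a.1 a.2)))) =
        mres L (gl_le _) (G.s U hU a) := hτ ⟨⟨U, hU⟩, a⟩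
    rw [app_mres, ← mres_sig hO r τ U hU a (dd_le U hU a.1), mres_mres] at h1
    have h2 := congrArg (mres L hga.le) h1
    rw [mres_mres, mres_mres] at h2
    exact h2
  show mres L (r.preimage_mono (dd_le U hU a.1)) (sig hO r τ U hU b) =
    mres L (r.preimage_mono (dd_le U hU a.1)) (mres L hle (G.s U hU b))
  have hc : r.app (dd p chart U hU a.1) (rat p chart U hU a.2 b.1) = ores hga.le (cf (G.s U hU a) (G.s U hU b)) := by
    rw [← G.psi_one, ← G.app_rat_toP hgen hP U hU a b.1, ores_ores, ores_id]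
  rw [sig_eq_smul hO r τ U hU a b, hsa, hc, mres_mres]
  exact cf_smul_res _ _ hga.le

include hE hj hP in
/-- A morphism to the projective bundle is determined by its sections. -/
theorem eq_of_sig {r₁ r₂ : X ⟶ P} (h₁ : r₁ ≫ p = f) (h₂ : r₂ ≫ p = f)
    (τ₁ : (Scheme.Modules.pullback r₁).obj O1 ≅ L) (τ₂ : (Scheme.Modules.pullback r₂).obj O1 ≅ L)
    (σ : ∀ (U : S.Opens), IsAffineOpen U → Γ(E, U) → Γ(L, f ⁻¹ᵁ U))
    (hs₁ : ∀ (U : S.Opens) (hU : IsAffineOpen U) (e : Γ(E, U)), sig hO r₁ τ₁ U hU ⟨j.app U e, hj.2 U hU e⟩ =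
      mres L (show r₁ ⁻¹ᵁ (p ⁻¹ᵁ U) ≤ f ⁻¹ᵁ U by rw [← h₁]; rfl) (σ U hU e))
    (hs₂ : ∀ (U : S.Opens) (hU : IsAffineOpen U) (e : Γ(E, U)), sig hO r₂ τ₂ U hU ⟨j.app U e, hj.2 U hU e⟩ =
      mres L (show r₂ ⁻¹ᵁ (p ⁻¹ᵁ U) ≤ f ⁻¹ᵁ U by rw [← h₂]; rfl) (σ U hU e)) :
    r₁ = r₂ := by
  have hgen := isGenDegOne_of_isGrSymAlg hE hj
  have hpre : ∀ {r : X ⟶ P} (hr : r ≫ p = f) (U : S.Opens), f ⁻¹ᵁ U ≤ r ⁻¹ᵁ (p ⁻¹ᵁ U) := fun hr U => by
    rw [← hr]; rfl
  have hdd : ∀ (U : S.Opens) (hU : IsAffineOpen U) (e : Γ(E, U)),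
      r₁ ⁻¹ᵁ dd p chart U hU (j.app U e) = gl (σ U hU e) ∧
        r₂ ⁻¹ᵁ dd p chart U hU (j.app U e) = gl (σ U hU e) := by
    intro U hU e
    refine ⟨?_, ?_⟩
    · rw [← gl_sig hO r₁ τ₁ hgen U hU ⟨j.app U e, hj.2 U hU e⟩, hs₁ U hU e, gl_mres]
      exact inf_eq_left.2 ((gl_le _).trans (hpre h₁ U))
    · rw [← gl_sig hO r₂ τ₂ hgen U hU ⟨j.app U e, hj.2 U hU e⟩, hs₂ U hU e, gl_mres]
      exact inf_eq_left.2 ((gl_le _).trans (hpre h₂ U))
  have hloc : ∀ x : X, ∃ V : X.Opens, x ∈ V ∧ V.ι ≫ r₁ = V.ι ≫ r₂ := by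
    intro x
    obtain ⟨U, hU, hxU⟩ := RelProj11.exists_mem_preimage (p := p) (r₁ x)
    obtain ⟨a, ha, hxa⟩ := mem_dd_of_mem (chart := chart) (hU := hU) hgen hxU
    obtain ⟨e, he⟩ := (bijective_deg_one hE hj U hU).2 ⟨a, ha⟩
    obtain rfl : (show 𝒮.presheaf.obj (op U) from j.app U e) = a := congrArg Subtype.val he
    let c₀ : 𝒮.presheaf.obj (op U) := j.app U e
    let D := dd p chart U hU c₀
    let V := gl (σ U hU e)
    refine ⟨V, (hdd U hU e).1.le hxa, ?_⟩
    have hD : IsAffineOpen D :=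
      (Proj.isAffineOpen_basicOpen (𝒮.deg U hU) c₀ (hj.2 U hU e) one_pos).image_of_isOpenImmersion _
    haveI : IsAffine (D : Scheme.{u}) := hD
    suffices r₁.resLE D V (hdd U hU e).1.ge = r₂.resLE D V (hdd U hU e).2.ge by
      rw [← Scheme.Hom.resLE_comp_ι r₁ (hdd U hU e).1.ge, this, Scheme.Hom.resLE_comp_ι]
    refine ext_of_isAffine ?_
    rw [Scheme.Hom.appTop, Scheme.Hom.appTop, Scheme.Hom.resLE_app_top, Scheme.Hom.resLE_app_top]
    congr 2
    have key : ∀ (r : X ⟶ P) (hr : r ≫ p = f) (τ : (Scheme.Modules.pullback r).obj O1 ≅ L)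
        (hs : ∀ e : Γ(E, U), sig hO r τ U hU ⟨j.app U e, hj.2 U hU e⟩ =
          mres L (show r ⁻¹ᵁ (p ⁻¹ᵁ U) ≤ f ⁻¹ᵁ U by rw [← hr]; rfl) (σ U hU e))
        (h : V ≤ r ⁻¹ᵁ D) (b : Γ(E, U)),
        r.appLE D V h (rat p chart U hU (hj.2 U hU e) (j.app U b)) = cf (σ U hU e) (σ U hU b) := by
      intro r hr τ hs h b
      have h1 := congrArg (mres L h) (sig_eq_smul hO r τ U hU ⟨j.app U e, hj.2 U hU e⟩ ⟨j.app U b, hj.2 U hU b⟩)
      rw [hs e, hs b, mres_smul, mres_mres, mres_mres, mres_mres, mres_mres] at h1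
      have h2 := ores_cf_eq (le_refl V) (s := σ U hU e) (t := σ U hU b) h1.symm
      rw [ores_id] at h2
      rw [h2, Scheme.Hom.appLE, ConcreteCategory.comp_apply]
    refine CommRingCat.hom_ext (RingHom.ext fun z => ?_)
    have hc₀ : c₀ ∈ 𝒮.deg U hU 1 := hj.2 U hU e
    have hsurj : Function.Surjective (rat p chart U hU hc₀) := by
      intro t
      haveI : IsIso ((RelProj.emb p chart U hU).app D) := inferInstance
      obtain ⟨w, hw⟩ := ((ConcreteCategory.bijective_of_isIso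
        (Proj.basicOpenIsoAway (𝒮.deg U hU) c₀ hc₀ one_pos).hom).2
          (ores (preimage_dd U hU c₀).ge ((RelProj.emb p chart U hU).app D t)))
      obtain ⟨a, rfl⟩ := dh_surjective (𝒮.deg U hU) hc₀ w
      refine ⟨a, (ConcreteCategory.bijective_of_isIso ((RelProj.emb p chart U hU).app D)).1 ?_⟩
      rw [app_rat]
      have hw' : Proj.awayToSection (𝒮.deg U hU) c₀ (dh (𝒮.deg U hU) hc₀ a) =
          ores (preimage_dd U hU c₀).ge ((RelProj.emb p chart U hU).app D t) := hw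
      rw [hw', ores_ores, ores_id]
    obtain ⟨a, rfl⟩ := hsurj z
    refine RingHom.congr_fun (f := (r₁.appLE D V (hdd U hU e).1.ge).hom.comp (rat p chart U hU hc₀))
      (g := (r₂.appLE D V (hdd U hU e).2.ge).hom.comp (rat p chart U hU hc₀)) ?_ a
    have hdeg1 : ∀ c ∈ 𝒮.deg U hU 1,
        r₁.appLE D V (hdd U hU e).1.ge (rat p chart U hU hc₀ c) =
          r₂.appLE D V (hdd U hU e).2.ge (rat p chart U hU hc₀ c) := by
      intro c hc
      obtain ⟨b, hb⟩ := (bijective_deg_one hE hj U hU).2 ⟨c, hc⟩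
      obtain rfl : (show 𝒮.presheaf.obj (op U) from j.app U b) = c := congrArg Subtype.val hb
      exact (key r₁ h₁ τ₁ (hs₁ U hU) _ b).trans (key r₂ h₂ τ₂ (hs₂ U hU) _ b).symm
    refine ringHom_ext_deg (hgen U hU) (fun c hc => ?_) hdeg1
    have h1 : rat p chart U hU hc₀ c₀ = 1 := by
      simp only [rat, RingHom.comp_apply, dh_self]
      simp
    have h3 := hdeg1 (c * c₀)
      (by simpa using SetLike.mul_mem_graded hc hc₀)
    rw [map_mul, h1, mul_one] at h3
    exact h3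
  choose V hxV hV using hloc
  refine Scheme.Cover.hom_ext (X.openCoverOfIsOpenCover V
    (top_le_iff.1 fun x _ => Opens.mem_iSup.2 ⟨x, hxV x⟩)) _ _ fun x => hV x

end bundle

end Groth.Agent.VA11
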