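import Groth.Agent.Lib.Twist.Gen

/-!
Generating loci of sections, their ratios, and the immersion criterion for a family of sections.
-/

set_option autoImplicit false

universe u v

open CategoryTheory Limits AlgebraicGeometry TopologicalSpace Opposite

set_option backward.isDefEq.respectTransparency false

noncomputable section

namespace Groth.Agent.VA11

open Groth.Agent.M1 Groth.Agent.Twist

variable {X : Scheme.{u}} {L : X.Modules} {W : X.Opens}

theorem ores_rfl {U : X.Opens} (r : Γ(X, U)) : ores (le_refl U) r = r := ores_id _ r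

/-- A unit multiple of a generator generates. -/
theorem isGen_smul_unit {V : X.Opens} {g : Γ(L, V)} (hg : IsGen L V g) {c : Γ(X, V)} (hc : IsUnit c) :
    IsGen L V (c • g) := by
  intro V' h
  have hu : IsUnit (ores h c) := hc.map (ores h).hom
  rw [show (fun r : Γ(X, V') => r • mres L h (c • g)) = (fun r => r • mres L h g) ∘ fun r => r * ores h c from
    funext fun r => by rw [mres_smul, Function.comp_apply, mul_smul]]
  exact (hg V' h).comp (Units.mulRight hu.unit).bijective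

/-- The largest open on which a section generates. -/
def gl (s : Γ(L, W)) : X.Opens := ⨆ V : {V : X.Opens // ∃ h : V ≤ W, IsGen L V (mres L h s)}, V.1

theorem gl_le (s : Γ(L, W)) : gl s ≤ W := iSup_le fun V => V.2.1

theorem le_gl {s : Γ(L, W)} {V : X.Opens} (h : V ≤ W) (hg : IsGen L V (mres L h s)) : V ≤ gl s :=
  le_iSup (fun V : {V : X.Opens // ∃ h : V ≤ W, IsGen L V (mres L h s)} => V.1) ⟨V, h, hg⟩

theorem mem_gl {s : Γ(L, W)} {x : X} :
    x ∈ gl s ↔ ∃ (V : X.Opens) (h : V ≤ W), x ∈ V ∧ IsGen L V (mres L h s) := by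
  rw [gl, Opens.mem_iSup]
  exact ⟨fun ⟨⟨V, h, hg⟩, hx⟩ => ⟨V, h, hx, hg⟩, fun ⟨V, h, hx, hg⟩ => ⟨⟨V, h, hg⟩, hx⟩⟩

theorem isGen_gl (s : Γ(L, W)) : IsGen L (gl s) (mres L (gl_le s) s) := by
  refine isGen_of_stalk fun x hx => ?_
  obtain ⟨V, h, hxV, hg⟩ := mem_gl.1 hx
  have := hg.stalk hxV
  simp only [germ_mres] at this ⊢
  exact this

theorem isGen_of_le_gl {s : Γ(L, W)} {V : X.Opens} (h : V ≤ gl s) : IsGen L V (mres L (h.trans (gl_le s)) s) := by
  have := (isGen_gl s).mres h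
  rwa [mres_mres] at this

theorem gl_mres {W' : X.Opens} (h : W' ≤ W) (s : Γ(L, W)) : gl (mres L h s) = gl s ⊓ W' := by
  apply le_antisymm
  · refine le_inf (le_gl ((gl_le _).trans h) ?_) (gl_le _)
    have := isGen_gl (mres L h s)
    rwa [mres_mres] at this
  · refine le_gl inf_le_right ?_
    rw [mres_mres]
    exact isGen_of_le_gl inf_le_left

/-- The ratio `t / s` where `s` generates. -/
def cf (s t : Γ(L, W)) : Γ(X, gl s) := ((isGen_gl s (gl s) le_rfl).2 (mres L (gl_le s) t)).choose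

theorem cf_smul (s t : Γ(L, W)) : cf s t • mres L (gl_le s) s = mres L (gl_le s) t := by
  have h := ((isGen_gl s (gl s) le_rfl).2 (mres L (gl_le s) t)).choose_spec
  change cf s t • mres L (le_refl (gl s)) (mres L (gl_le s) s) = _ at h
  rwa [mres_mres] at h

theorem cf_smul_res (s t : Γ(L, W)) {V : X.Opens} (h : V ≤ gl s) :
    ores h (cf s t) • mres L (h.trans (gl_le s)) s = mres L (h.trans (gl_le s)) t := by
  have := congrArg (mres L h) (cf_smul s t)
  rwa [mres_smul, mres_mres, mres_mres] at this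

theorem smul_inj {s : Γ(L, W)} {V : X.Opens} (h : V ≤ gl s) {a b : Γ(X, V)}
    (e : a • mres L (h.trans (gl_le s)) s = b • mres L (h.trans (gl_le s)) s) : a = b :=
  ((isGen_of_le_gl h) V le_rfl).1 (by simpa only [mres_mres] using e)

theorem ores_cf_eq {s t : Γ(L, W)} {V : X.Opens} (h : V ≤ gl s) {c : Γ(X, V)}
    (e : c • mres L (h.trans (gl_le s)) s = mres L (h.trans (gl_le s)) t) : ores h (cf s t) = c :=
  smul_inj h ((cf_smul_res s t h).trans e.symm)

theorem cf_self (s : Γ(L, W)) : cf s s = 1 := by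
  have h := ores_cf_eq (s := s) (t := s) le_rfl (c := 1) (one_smul _ _)
  rwa [ores_id] at h

theorem ores_cf_mul (s t w : Γ(L, W)) {V : X.Opens} (hs : V ≤ gl s) (ht : V ≤ gl t) :
    ores ht (cf t w) * ores hs (cf s t) = ores hs (cf s w) := by
  refine (ores_cf_eq hs ?_).symm
  rw [mul_smul, cf_smul_res s t hs]
  exact cf_smul_res t w ht

theorem gl_inf_gl (s t : Γ(L, W)) : gl s ⊓ gl t = X.basicOpen (cf s t) := by
  apply le_antisymm
  · have hu : IsUnit (ores (inf_le_left : gl s ⊓ gl t ≤ gl s) (cf s t)) := by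
      refine IsUnit.of_mul_eq_one_right (ores (inf_le_right : gl s ⊓ gl t ≤ gl t) (cf t s)) ?_
      rw [ores_cf_mul s t s inf_le_left inf_le_right, cf_self, map_one]
    have h := X.basicOpen_of_isUnit hu
    rw [show X.basicOpen (ores (inf_le_left : gl s ⊓ gl t ≤ gl s) (cf s t)) =
      (gl s ⊓ gl t) ⊓ X.basicOpen (cf s t) from Scheme.basicOpen_res X _ (homOfLE inf_le_left).op] at h
    exact inf_eq_left.1 h
  · refine le_inf (X.basicOpen_le _) (le_gl ((X.basicOpen_le _).trans (gl_le s)) ?_)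
    rw [← cf_smul_res s t (X.basicOpen_le (cf s t))]
    exact isGen_smul_unit (isGen_of_le_gl (X.basicOpen_le (cf s t))) (X.toRingedSpace.isUnit_res_basicOpen (cf s t))

theorem basicOpen_ores {U V : X.Opens} (h : V ≤ U) (a : Γ(X, U)) :
    X.basicOpen (ores h a) = V ⊓ X.basicOpen a := Scheme.basicOpen_res X a (homOfLE h).op

theorem ores_injective {U V : X.Opens} (h : V ≤ U) (h' : U ≤ V) : Function.Injective (ores h) := fun a b e => by
  obtain rfl := le_antisymm h h'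
  simpa using e

variable {R : Type u} [CommRing R] {κ : Type v}

/-- The ring of ratios with denominator the `e`-th section. -/
def ratSub (ρ : R →+* Γ(X, W)) (σ : κ → Γ(L, W)) (e : κ) : Subring Γ(X, gl (σ e)) :=
  Subring.closure (Set.range ((ores (gl_le (σ e))).hom.comp ρ) ∪ Set.range fun k => cf (σ e) (σ k))

variable {ρ : R →+* Γ(X, W)} {σ : κ → Γ(L, W)} {e : κ}

theorem base_mem_ratSub (r : R) : ores (gl_le (σ e)) (ρ r) ∈ ratSub ρ σ e :=
  Subring.subset_closure (Or.inl ⟨r, rfl⟩)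

theorem cf_mem_ratSub (k : κ) : cf (σ e) (σ k) ∈ ratSub ρ σ e := Subring.subset_closure (Or.inr ⟨k, rfl⟩)

theorem map_ratSub_le {T : Type*} [CommRing T] (f : Γ(X, gl (σ e)) →+* T) (P : Subring T)
    (h1 : ∀ r, f (ores (gl_le (σ e)) (ρ r)) ∈ P) (h2 : ∀ k, f (cf (σ e) (σ k)) ∈ P) {a : Γ(X, gl (σ e))}
    (ha : a ∈ ratSub ρ σ e) : f a ∈ P := by
  have : ratSub ρ σ e ≤ P.comap f := by
    rw [ratSub, Subring.closure_le]
    rintro _ (⟨r, rfl⟩ | ⟨k, rfl⟩)
    exacts [h1 r, h2 k]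
  exact this ha

/-- Fractions of elements of a subring with powers of one element as denominators. -/
def fracs {A T : Type*} [CommRing A] [CommRing T] (f : A →+* T) (P : Subring A) (b : A) (hb : b ∈ P) : Subring T where
  carrier := {t | ∃ (k : ℕ) (a : A), a ∈ P ∧ t * f b ^ k = f a}
  mul_mem' := by
    rintro s t ⟨k, a, ha, hs⟩ ⟨m, c, hc, ht⟩
    exact ⟨k + m, a * c, mul_mem ha hc, by rw [map_mul, ← hs, ← ht]; ring⟩
  one_mem' := ⟨0, 1, one_mem _, by simp⟩
  add_mem' := by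
    rintro s t ⟨k, a, ha, hs⟩ ⟨m, c, hc, ht⟩
    exact ⟨k + m, a * b ^ m + c * b ^ k, add_mem (mul_mem ha (pow_mem hb m)) (mul_mem hc (pow_mem hb k)),
      by rw [map_add, map_mul, map_mul, map_pow, map_pow, ← hs, ← ht]; ring⟩
  zero_mem' := ⟨0, 0, zero_mem _, by simp⟩
  neg_mem' := by
    rintro t ⟨k, a, ha, ht⟩
    exact ⟨k, -a, neg_mem ha, by rw [map_neg, ← ht, neg_mul]⟩

/-- The family of sections separates points and tangents near `x`. -/
def VAat (ρ : R →+* Γ(X, W)) (σ : κ → Γ(L, W)) (x : X) : Prop :=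
  ∃ e, ∃ (b : Γ(X, gl (σ e))) (hb : b ∈ ratSub ρ σ e), x ∈ X.basicOpen b ∧ IsAffineOpen (X.basicOpen b) ∧
    fracs (ores (X.basicOpen_le b)).hom (ratSub ρ σ e) b hb = ⊤

/-- The family of sections defines an immersion. -/
def VA (ρ : R →+* Γ(X, W)) (σ : κ → Γ(L, W)) : Prop := ∀ x ∈ W, VAat ρ σ x

theorem exists_shrink {x : X} {b : Γ(X, gl (σ e))} (hb : b ∈ ratSub ρ σ e) (hxb : x ∈ X.basicOpen b)
    (hA : IsAffineOpen (X.basicOpen b)) (hfr : fracs (ores (X.basicOpen_le b)).hom (ratSub ρ σ e) b hb = ⊤)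
    {O : X.Opens} (hx : x ∈ O) :
    ∃ (b' : Γ(X, gl (σ e))) (hb' : b' ∈ ratSub ρ σ e), x ∈ X.basicOpen b' ∧ X.basicOpen b' ≤ O ∧
      IsAffineOpen (X.basicOpen b') ∧ fracs (ores (X.basicOpen_le b')).hom (ratSub ρ σ e) b' hb' = ⊤ := by
  obtain ⟨h, hle, hxh⟩ := hA.exists_basicOpen_le ⟨x, hx⟩ hxb
  obtain ⟨k, a, ha, hk⟩ : h ∈ fracs (ores (X.basicOpen_le b)).hom (ratSub ρ σ e) b hb := hfr ▸ Subring.mem_top h
  have hu : IsUnit (ores (X.basicOpen_le b) b) := X.toRingedSpace.isUnit_res_basicOpen b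
  have he : X.basicOpen (a * b) = X.basicOpen h := by
    rw [Scheme.basicOpen_mul, inf_comm, ← basicOpen_ores (X.basicOpen_le b)]
    change X.basicOpen ((ores (X.basicOpen_le b)).hom a) = _
    rw [← hk, Scheme.basicOpen_mul, X.basicOpen_of_isUnit (hu.pow k)]
    exact inf_eq_left.2 (X.basicOpen_le h)
  refine ⟨a * b, mul_mem ha hb, he ▸ hxh, he ▸ hle, he ▸ hA.basicOpen h, ?_⟩
  have hle' : X.basicOpen (a * b) ≤ X.basicOpen b := he ▸ X.basicOpen_le h
  rw [eq_top_iff]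
  intro t _
  letI : Algebra Γ(X, X.basicOpen b) Γ(X, X.basicOpen h) := (ores (X.basicOpen_le h)).hom.toAlgebra
  haveI : IsLocalization.Away h Γ(X, X.basicOpen h) := hA.isLocalization_basicOpen h
  obtain ⟨m, t', ht'⟩ := IsLocalization.Away.surj h (ores he.ge t)
  obtain ⟨j, a', ha', hj⟩ : t' ∈ fracs (ores (X.basicOpen_le b)).hom (ratSub ρ σ e) b hb := hfr ▸ Subring.mem_top t'
  refine ⟨m + j, a' * b ^ (k * m) * a ^ j * b ^ m,
    mul_mem (mul_mem (mul_mem ha' (pow_mem hb _)) (pow_mem ha _)) (pow_mem hb _), ?_⟩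
  apply ores_injective he.ge he.le
  show ores he.ge _ = ores he.ge _
  have e1 := congrArg (ores (X.basicOpen_le h)) hk
  have e2 := congrArg (ores (X.basicOpen_le h)) hj
  have ht'' : ores he.ge t * ores (X.basicOpen_le h) h ^ m = ores (X.basicOpen_le h) t' := ht'
  simp only [map_mul, map_pow, ores_ores] at e1 e2 ht'' ⊢
  rw [← e1, ← e2, ← ht'']
  ring

/-- Passing to another family of sections whose ratios contain the old ones. -/
theorem VAat.mono {W' : X.Opens} {L' : X.Modules} {R' : Type u} [CommRing R'] {κ' : Type v}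
    {ρ' : R' →+* Γ(X, W')} {σ' : κ' → Γ(L', W')} {x : X} (h : VAat ρ σ x)
    (H : ∀ e, x ∈ gl (σ e) → ∃ (e' : κ') (hle : gl (σ' e') ≤ gl (σ e)), x ∈ gl (σ' e') ∧
      (∀ r, ores hle (ores (gl_le (σ e)) (ρ r)) ∈ ratSub ρ' σ' e') ∧
      ∀ k, ores hle (cf (σ e) (σ k)) ∈ ratSub ρ' σ' e') : VAat ρ' σ' x := by
  obtain ⟨e, b, hb, hxb, hA, hfr⟩ := h
  obtain ⟨e', hle, hxe', h1, h2⟩ := H e (X.basicOpen_le b hxb)
  obtain ⟨b', hb', hxb', hb'le, hA', hfr'⟩ := exists_shrink hb hxb hA hfr hxe'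
  have hbe : X.basicOpen (ores hle b') = X.basicOpen b' := by
    rw [basicOpen_ores, inf_eq_right]; exact hb'le
  refine ⟨e', ores hle b', map_ratSub_le (ores hle).hom _ h1 h2 hb', hbe ▸ hxb', hbe ▸ hA', ?_⟩
  rw [eq_top_iff]
  intro t _
  obtain ⟨k, a, ha, hk⟩ : ores hbe.ge t ∈ fracs (ores (X.basicOpen_le b')).hom (ratSub ρ σ e) b' hb' :=
    hfr' ▸ Subring.mem_top _
  refine ⟨k, ores hle a, map_ratSub_le (ores hle).hom _ h1 h2 ha, ?_⟩
  apply ores_injective hbe.ge hbe.le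
  show ores hbe.ge _ = ores hbe.ge _
  simp only [map_mul, map_pow, ores_ores] at hk ⊢
  exact hk

end Groth.Agent.VA11
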