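import Groth.Agent.Lib.VeryAmple11.Ops
import Groth.Agent.Lib.RelAmple18.Ops
import Groth.Agent.Lib.RelProj11.Twist

/-!
An embedding into a relative `Proj` makes the inverse image of `O(1)` relatively ample.
-/

set_option autoImplicit false

universe u

open CategoryTheory Limits AlgebraicGeometry TopologicalSpace Opposite

set_option backward.isDefEq.respectTransparency false

noncomputable section

namespace Groth.Agent.VA11

open Groth.Agent.M1

variable {S X P : Scheme.{u}}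

/-- A compact open covered by affine basic opens of its functions is quasi-affine. -/
theorem isQuasiAffine_of_basic (G : X.Opens) (hc : IsCompact (G : Set X))
    (h : ∀ x ∈ G, ∃ b : Γ(X, G), x ∈ X.basicOpen b ∧ IsAffineOpen (X.basicOpen b)) :
    (G : Scheme.{u}).IsQuasiAffine := by
  haveI : CompactSpace (G : Scheme.{u}) := isCompact_iff_compactSpace.1 hc
  refine Scheme.IsQuasiAffine.of_forall_exists_mem_basicOpen _ fun z => ?_
  obtain ⟨b, hb, hA⟩ := h z.1 z.2
  have he : G.ι ''ᵁ (G : Scheme.{u}).basicOpen (G.topIso.inv b) = X.basicOpen b := by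
    rw [Scheme.image_basicOpen, Scheme.Opens.ι_appIso, Scheme.Opens.topIso_inv]
    simp only [Iso.refl_inv]
    exact Scheme.basicOpen_res_eq X _ _
  refine ⟨G.topIso.inv b, ?_, ?_⟩
  · rw [← Scheme.Hom.isAffineOpen_iff_of_isOpenImmersion G.ι, he]
    exact hA
  · obtain ⟨z', hz', e⟩ := he.ge hb
    exact G.ι.isOpenEmbedding.injective e ▸ hz'

/-- Loci on an open subscheme. -/
theorem gl_restrict {L : X.Modules} {W : X.Opens} (s : Γ(L, W)) (s₀ : Γ(L.restrict W.ι, ⊤))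
    (hs₀ : (L.restrictAppIso W.ι ⊤).hom s₀ = mres L (le_of_eq (Scheme.Opens.ι_image_top W)) s) :
    gl s₀ = W.ι ⁻¹ᵁ gl s := by
  have key : ∀ (V : (W : Scheme.{u}).Opens) (r : Γ((W : Scheme.{u}), V)),
      (L.restrictAppIso W.ι V).hom (r • mres (L.restrict W.ι) (le_top : V ≤ ⊤) s₀) =
        (show Γ(X, W.ι ''ᵁ V) from r) • mres L (W.ι_image_le V) s := fun V r => by
    refine (M1.restrict_ι_smul L (show Γ(X, W.ι ''ᵁ V) from r) _).trans ?_
    congr 1
    refine Eq.trans ?_ (mres_mres L (le_of_eq (Scheme.Opens.ι_image_top W))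
      (W.ι.image_mono (le_top : V ≤ ⊤)) s)
    rw [← hs₀]
    rfl
  have hbij : ∀ V : (W : Scheme.{u}).Opens,
      (Function.Bijective fun r : Γ((W : Scheme.{u}), V) => r • mres (L.restrict W.ι) (le_top : V ≤ ⊤) s₀) ↔
        Function.Bijective fun r : Γ(X, W.ι ''ᵁ V) => r • mres L (W.ι_image_le V) s := fun V => by
    refine (Function.Bijective.of_comp_iff'
      (ConcreteCategory.bijective_of_isIso (L.restrictAppIso W.ι V).hom) _).symm.trans ?_
    refine Iff.of_eq (congrArg Function.Bijective (funext fun r => ?_))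
    exact key V r
  apply le_antisymm
  · intro z hz
    obtain ⟨V, hV, hzV, hg⟩ := mem_gl.1 hz
    refine le_gl (V := W.ι ''ᵁ V) (W.ι_image_le V) (fun V' hV' => ?_) ⟨z, hzV, rfl⟩
    obtain ⟨V', rfl⟩ : ∃ V₁, V' = W.ι ''ᵁ V₁ := ⟨W.ι ⁻¹ᵁ V', by
      rw [Scheme.Hom.image_preimage_eq_opensRange_inf, Scheme.Opens.opensRange_ι]
      exact (inf_eq_right.mpr (hV'.trans (W.ι_image_le V))).symm⟩
    have hb := hg V' (fun w hw => by simpa using hV' ⟨w, hw, rfl⟩)
    simp only [mres_mres] at hb ⊢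
    exact (hbij V').1 hb
  · refine le_gl le_top fun V hV => ?_
    have h1 : W.ι ''ᵁ V ≤ gl s := by rintro _ ⟨w, hw, rfl⟩; exact hV hw
    have h2 := isGen_of_le_gl h1 (W.ι ''ᵁ V) le_rfl
    simp only [mres_mres] at h2 ⊢
    exact (hbij V).2 h2

theorem genLocus_secHom {L : X.Modules} (hL : PicF.IsInvertible L) (s : Γ(L, ⊤)) :
    CohB1.genLocus L (M1.secHom s) = gl s :=
  Amp.genLocus_eq_of_forall hL _ _ fun x => by
    rw [Amp.gval_secHom]
    exact (mem_gl_iff hL (W := ⊤) trivial).symm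

variable {𝒮 : RelProj.QCGrAlg S} {p : P ⟶ S}
  {chart : ∀ (U : S.Opens) (hU : IsAffineOpen U), ((p ⁻¹ᵁ U : P.Opens) : Scheme.{u}) ≅ Proj (𝒮.deg U hU)}
  {O1 : P.Modules}
  {lam : ∀ (U : S.Opens) (hU : IsAffineOpen U),
    O1 ⟶ (Scheme.Modules.pushforward (RelProj.emb p chart U hU)).obj (GrTwist.twist (𝒮.deg U hU) 1)}

/-- Inverse images of `O(1)` along embeddings are relatively ample. -/
theorem isRelAmple_of_embedding (hgen : 𝒮.IsGenDegOne) (hL1 : RelProj.IsRelTwist 𝒮 p chart 1 O1 lam)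
    (g : X ⟶ P) (hemb : Topology.IsEmbedding g.base) [QuasiCompact (g ≫ p)] {L : X.Modules}
    (τ : (Scheme.Modules.pullback g).obj O1 ≅ L) : RelAmple.IsRelAmple (g ≫ p) L := by
  have hL : PicF.IsInvertible L :=
    M2.isInvertible_of_iso τ (PicLoc.isInvertible_pullback g (RelProj11.isInvertible_relTwist hgen hL1))
  refine (RA.isRelAmple_def _).2 fun U hU => ?_
  let W : X.Opens := (g ≫ p) ⁻¹ᵁ U
  haveI : CompactSpace (W : Scheme.{u}) := RA.compactSpace_of_isCompact (RA.isCompact_preimage (g ≫ p) hU)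
  let L₀ := L.restrict W.ι
  have hL₀ : PicF.IsInvertible L₀ := M2.isInvertible_restrict hL W.ι
  refine RA.isAmple_of_quasiAffine_loci hL₀ fun z => ?_
  obtain ⟨f, hf, hzf⟩ := mem_dd_of_mem (chart := chart) (hU := hU) hgen (z.2 : g z.1 ∈ p ⁻¹ᵁ U)
  let s : Γ(L, W) := sig hL1 g τ U hU ⟨f, hf⟩
  let s₀ : Γ(L₀, ⊤) := (L.restrictAppIso W.ι ⊤).inv (mres L (le_of_eq (Scheme.Opens.ι_image_top W)) s)
  have hgl : gl s = g ⁻¹ᵁ dd p chart U hU f := gl_sig hL1 g τ hgen U hU ⟨f, hf⟩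
  let G₀ : (W : Scheme.{u}).Opens := W.ι ⁻¹ᵁ gl s
  have hsec : Amp.HasSec L₀ 1 G₀ := by
    have h1 : CohB1.genLocus L₀ (M1.secHom s₀) = G₀ := (genLocus_secHom hL₀ s₀).trans (gl_restrict s s₀ ((L.restrictAppIso W.ι ⊤).inv_hom_id_apply _))
    exact h1 ▸ Amp.hasSec_of_iso (M2.tensorPowOne L₀).symm (M1.secHom s₀)
  have hzG : z ∈ G₀ := (show z.1 ∈ gl s from hgl.ge hzf)
  have hc₀ : IsCompact (G₀ : Set (W : Scheme.{u})) := by
    choose V hV hzV using fun w : (W : Scheme.{u}) =>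
      exists_isAffineOpen_mem_and_subset (show w ∈ (⊤ : (W : Scheme.{u}).Opens) from trivial)
    obtain ⟨t, ht⟩ := isCompact_univ.elim_finite_subcover (fun w => (V w : Set (W : Scheme.{u})))
      (fun w => (V w).isOpen) fun w _ => Set.mem_iUnion.2 ⟨w, (hzV w).1⟩
    have : (G₀ : Set (W : Scheme.{u})) = ⋃ w ∈ t, ((G₀ ⊓ V w : (W : Scheme.{u}).Opens) : Set _) := by
      ext w
      simp only [Set.mem_iUnion, Opens.coe_inf, Set.mem_inter_iff, exists_prop]
      refine ⟨fun hw => ?_, fun ⟨_, _, hw, _⟩ => hw⟩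
      have := ht (Set.mem_univ w)
      simp only [Set.mem_iUnion, exists_prop] at this
      obtain ⟨i, hi, hwi⟩ := this
      exact ⟨i, hi, hw, hwi⟩
    rw [this]
    exact t.isCompact_biUnion fun w _ => (Amp.isAffineOpen_inf_hasSec hL₀ hsec (hV w)).isCompact
  have hc : IsCompact (gl s : Set X) := by
    have : (gl s : Set X) = W.ι '' (G₀ : Set (W : Scheme.{u})) := by
      ext y
      exact ⟨fun hy => ⟨⟨y, gl_le s hy⟩, hy, rfl⟩, fun ⟨w, hw, e⟩ => e ▸ hw⟩
    rw [this]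
    exact hc₀.image W.ι.continuous
  have hqa : (gl s : Scheme.{u}).IsQuasiAffine := by
    refine isQuasiAffine_of_basic _ hc fun y hy => ?_
    obtain ⟨V, hV, hyV, hVle⟩ := exists_isAffineOpen_mem_and_subset hy
    obtain ⟨O, hO, hOV⟩ := hemb.isInducing.isOpen_iff.1 V.isOpen
    have hD : IsAffineOpen (dd p chart U hU f) :=
      (Proj.isAffineOpen_basicOpen (𝒮.deg U hU) f hf one_pos).image_of_isOpenImmersion _
    obtain ⟨c, hcO, hyc⟩ := hD.exists_basicOpen_le (V := ⟨O, hO⟩)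
      ⟨g y, (hOV.ge hyV : y ∈ g.base ⁻¹' O)⟩ (hgl.le hy)
    let b : Γ(X, gl s) := ores hgl.le (g.app _ c)
    have hb : X.basicOpen b = g ⁻¹ᵁ P.basicOpen c := by
      rw [basicOpen_ores, ← Scheme.preimage_basicOpen, inf_eq_right]
      exact (Scheme.Hom.preimage_mono g (P.basicOpen_le c)).trans hgl.ge
    refine ⟨b, hb.ge hyc, ?_⟩
    have hbV : X.basicOpen b ≤ V := fun w hw => hOV.le (hcO (hb.le hw) : g w ∈ O)
    have : X.basicOpen (ores (hVle : V ≤ gl s) b) = X.basicOpen b := by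
      rw [basicOpen_ores, inf_eq_right]; exact hbV
    exact this ▸ hV.basicOpen _
  refine ⟨0, G₀, hsec, hzG, ?_⟩
  haveI := hqa
  haveI : CompactSpace (G₀ : Scheme.{u}) := isCompact_iff_compactSpace.1 hc₀
  let j : (G₀ : Scheme.{u}) ⟶ gl s :=
    IsOpenImmersion.lift (gl s).ι (G₀.ι ≫ W.ι) (by
      rw [Scheme.Opens.range_ι]; rintro _ ⟨w, rfl⟩; exact w.2)
  haveI : IsOpenImmersion j := by
    have : j ≫ (gl s).ι = G₀.ι ≫ W.ι := IsOpenImmersion.lift_fac _ _ _
    haveI : IsOpenImmersion (j ≫ (gl s).ι) := this ▸ inferInstance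
    exact IsOpenImmersion.of_comp j (gl s).ι
  exact Scheme.IsQuasiAffine.of_isImmersion j

/-- Very ample implies ample. -/
theorem isRelAmple_of_isRelVeryAmple {f : X ⟶ S} [QuasiCompact f] {L : X.Modules}
    (h : RelProj.IsRelVeryAmple f L) : RelAmple.IsRelAmple f L := by
  obtain ⟨E, hE, 𝒮, j, hj, P, p, chart, hP, O1, lam, hL, i, hi, rfl, ⟨e⟩⟩ := h
  exact isRelAmple_of_embedding (isGenDegOne_of_isGrSymAlg hE hj) hL i i.isEmbedding e.symm

/-- A module with a very ample positive power is ample. -/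
theorem isRelAmple_of_tensorPow {f : X ⟶ S} [QuasiCompact f] {L : X.Modules} (hL : PicF.IsInvertible L)
    {n : ℕ} (hn : 0 < n) (h : RelProj.IsRelVeryAmple f (CohB1.tensorPow L n)) : RelAmple.IsRelAmple f L :=
  (RA.isRelAmple_def f).2 fun U hU =>
    (RA.ampleOn_tensorPow_iff hL hn).1 ((RA.isRelAmple_def f).1 (isRelAmple_of_isRelVeryAmple h) U hU)

end Groth.Agent.VA11
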