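import Groth.Agent.Lib.VeryAmple11.IdealAmple
import Groth.Agent.Lib.QAGen11.Basic

/-!
Relative ampleness from the generation of twisted submodules of the structure sheaf.
-/

set_option autoImplicit false

universe u

open CategoryTheory Limits AlgebraicGeometry TopologicalSpace Opposite

set_option backward.isDefEq.respectTransparency false

noncomputable section

namespace Groth.Agent.VA11

open Groth.Agent.M1

variable {X Y : Scheme.{u}}

/-- The map from a twisted submodule of the structure sheaf to the twist. -/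
def subIncl {P : X.Modules} (φ : P ⟶ Coh.structureModule X) (M : X.Modules) : CohB1.tensorMod P M ⟶ M :=
  M2.tensorMap φ (𝟙 M) ≫ actHom M

theorem subIncl_tsec {P : X.Modules} (φ : P ⟶ Coh.structureModule X) (M : X.Modules) {U : X.Opens}
    (a : Γ(P, U)) (w : Γ(M, U)) :
    (subIncl φ M).app U (M2.tsec _ M a w) = (show Γ(X, U) from φ.app U a) • w := by
  rw [subIncl, comp_app_apply, M2.tensorMap_tsec, actHom_tsec]
  rfl

/-- Where the submodule has no unit, no twisted section generates. -/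
theorem not_gen_subIncl {P : X.Modules} (φ : P ⟶ Coh.structureModule X) {M : X.Modules}
    (hM : PicF.IsInvertible M) {y : X}
    (hy : ∀ (U : X.Opens) (a : Γ(P, U)), y ∈ U → y ∉ X.basicOpen (show Γ(X, U) from φ.app U a))
    {V : X.Opens} (hyV : y ∈ V) (z : Γ(CohB1.tensorMod P M, V)) :
    ¬ Amp.Gen (Amp.gm M y hyV ((subIncl φ M).app V z)) := by
  intro hgen
  let c := subIncl φ M
  have key : ∀ z : ((CohB1.tensorMod P M).presheaf.stalk y : Type u),
      ∀ g : (M.presheaf.stalk y : Type u), Amp.Gen g → ∃ d : X.presheaf.stalk y,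
        d ∈ IsLocalRing.maximalIdeal (X.presheaf.stalk y) ∧ M2.stMap ((M2.pmF X).map c) y z = d • g := by
    intro z g hg
    obtain ⟨z, rfl⟩ := (M2.stalkEquiv P M y).symm.surjective z
    induction z using TensorProduct.induction_on with
    | zero => exact ⟨0, Submodule.zero_mem _, by rw [map_zero, map_zero, zero_smul]⟩
    | add a b ha hb =>
      obtain ⟨d, hd, ha⟩ := ha
      obtain ⟨d', hd', hb⟩ := hb
      exact ⟨d + d', add_mem hd hd', by rw [map_add, map_add, ha, hb, add_smul]⟩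
    | tmul a l =>
      obtain ⟨V₁, hy₁, a', rfl⟩ := P.presheaf.exists_germ_eq a
      obtain ⟨V₂, hy₂, l', rfl⟩ := M.presheaf.exists_germ_eq l
      let W : X.Opens := V₁ ⊓ V₂
      have hyW : y ∈ W := ⟨hy₁, hy₂⟩
      let a'' := M2.res P (inf_le_left : W ≤ V₁) a'
      let l'' := M2.res M (inf_le_right : W ≤ V₂) l'
      obtain ⟨e', he'⟩ := hg.2 (Amp.gm M y hyW l'')
      let ga : X.presheaf.stalk y := X.presheaf.germ W y hyW (show Γ(X, W) from φ.app W a'')
      have hga : ga ∈ IsLocalRing.maximalIdeal (X.presheaf.stalk y) := by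
        rw [IsLocalRing.mem_maximalIdeal]
        exact fun hu => hy W a'' hyW ((Scheme.mem_basicOpen X _ y hyW).2 hu)
      refine ⟨ga * e', Ideal.mul_mem_right _ _ hga, ?_⟩
      have h5 : (M2.stalkEquiv P M y).symm
          (P.presheaf.germ V₁ y hy₁ a' ⊗ₜ M.presheaf.germ V₂ y hy₂ l') =
          Amp.gm _ y hyW (M2.tsec P M a'' l'') := by
        rw [LinearEquiv.symm_apply_eq]
        refine Eq.trans ?_ (M2.stalkEquiv_tsec _ _ y hyW a'' l'').symm
        congr 1
        · exact (TopCat.Presheaf.germ_res_apply _ (homOfLE inf_le_left) y hyW a').symm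
        · exact (TopCat.Presheaf.germ_res_apply _ (homOfLE inf_le_right) y hyW l').symm
      erw [h5, M2.stMap_sg ((M2.pmF X).map c) hyW]
      show Amp.gm M y hyW (c.app W (M2.tsec _ _ a'' l'')) = _
      rw [subIncl_tsec, Amp.gm_smul, ← he', smul_smul]
  obtain ⟨g, hg⟩ := Amp.exists_stalk_gen hM y
  obtain ⟨d, hd, hd'⟩ := key (Amp.gm _ y hyV z) g hg
  have h6 : Amp.gm M y hyV (c.app V z) = d • g := by
    rw [← hd']
    exact (M2.stMap_sg ((M2.pmF X).map c) hyV z).symm
  rw [h6, hg.ne_zero_smul] at hgen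
  exact hd hgen

/-- With an epimorphic counit, some twisted section generates at a point where the submodule is everything. -/
theorem exists_gen_subIncl (f : X ⟶ Y) {P : X.Modules} (φ : P ⟶ Coh.structureModule X) {M : X.Modules}
    (hM : PicF.IsInvertible M) {x : X} {U : X.Opens} (hx : x ∈ U) (a : Γ(P, U))
    (ha : φ.app U a = (show Γ(Coh.structureModule X, U) from (1 : Γ(X, U))))
    [Epi ((Scheme.Modules.pullbackPushforwardAdjunction f).counit.app (CohB1.tensorMod P M))] :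
    ∃ (V : Y.Opens) (t : Γ(CohB1.tensorMod P M, f ⁻¹ᵁ V)) (hxV : f x ∈ V),
      Amp.Gen (Amp.gm M x (U := f ⁻¹ᵁ V) hxV ((subIncl φ M).app (f ⁻¹ᵁ V) t)) := by
  by_contra hne
  push Not at hne
  let c := subIncl φ M
  let η := (Scheme.Modules.pullbackPushforwardAdjunction (X.fromSpecResidueField x)).unit.app M
  have h0 : c ≫ η = 0 := by
    refine (cancel_epi ((Scheme.Modules.pullbackPushforwardAdjunction f).counit.app (CohB1.tensorMod P M))).1 ?_
    rw [comp_zero]
    apply ((Scheme.Modules.pullbackPushforwardAdjunction f).homEquiv _ _).injective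
    simp only [Adjunction.homEquiv_unit, Functor.map_zero, comp_zero, Functor.map_comp,
      Adjunction.right_triangle_components_assoc]
    refine Scheme.Modules.hom_ext _ _ fun V => ?_
    ext t
    exact RA.pullSec_residue_eq_zero hM x (U := f ⁻¹ᵁ V) (c.app (f ⁻¹ᵁ V) t) fun hx' hg => hne V t hx' hg
  obtain ⟨V, e, hxV, hVU, -, he⟩ := Amp.exists_isGenerator hM (V := U) hx
  have h2 : M2.pullSec (X.fromSpecResidueField x) M e = 0 := by
    have h3 : c.app V (M2.tsec _ M (mres P hVU a) e) = e := by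
      rw [show c = subIncl φ M from rfl, subIncl_tsec, app_mres, ha]
      erw [mres_one hVU]
      exact one_smul _ e
    have h4 := congrArg (fun χ => χ.app V (M2.tsec P M (mres P hVU a) e)) h0
    simp only [comp_app_apply, h3] at h4
    exact h4
  let y : Spec (X.residueField x) := default
  have hy : X.fromSpecResidueField x y ∈ V := by rw [X.fromSpecResidueField_apply x y]; exact hxV
  have hg := Amp.gen_of_isGenerator he hy
  rw [← Amp.gen_pullSec_iff (X.fromSpecResidueField x) hM hy, h2] at hg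
  exact Amp.not_gen_zero (PicLoc.isInvertible_pullback (X.fromSpecResidueField x) hM) y
    (by rwa [show Amp.gm _ y hy (0 : Γ((Scheme.Modules.pullback (X.fromSpecResidueField x)).obj M, _)) = 0 from
      map_zero _] at hg)

/-- Relatively ample, if twists of submodules of finite type of the structure sheaf are generated
relative to the base. -/
theorem isRelAmple_of_sub_counit [CompactSpace X] [QuasiSeparatedSpace X] (f : X ⟶ Y) [QuasiCompact f]
    {L : X.Modules} (hL : PicF.IsInvertible L)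
    (h : ∀ (J : X.Modules) (i : J ⟶ Coh.structureModule X), Mono i → Coh.IsQCoh J → CohB1.IsFT J →
      ∃ n : ℕ, 0 < n ∧
        Epi ((Scheme.Modules.pullbackPushforwardAdjunction f).counit.app (CohB1.tensorMod J (CohB1.tensorPow L n)))) :
    RelAmple.IsRelAmple f L := by
  classical
  refine (RA.isRelAmple_def f).2 fun V hV => ?_
  let W := f ⁻¹ᵁ V
  haveI hWc : CompactSpace (W : Scheme.{u}) := RA.compactSpace_of_isCompact (RA.isCompact_preimage f hV)
  haveI : QuasiSeparatedSpace (W : Scheme.{u}) := QuasiSeparatedSpace.of_isOpenEmbedding W.ι.isOpenEmbedding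
  refine Amp.isAmple_iff.2 ⟨M2.isInvertible_restrict hL _, hWc, fun z => ?_⟩
  obtain ⟨U, hU, hxU, hUW⟩ := exists_isAffineOpen_mem_and_subset (show z.1 ∈ W from z.2)
  let Z : Closeds X := ⟨(U : Set X)ᶜ, U.isOpen.isClosed_compl⟩
  let J := Scheme.IdealSheafData.vanishingIdeal Z
  have h1 : (1 : Γ(X, U)) ∈ J.ideal ⟨U, hU⟩ := by
    rw [show J.ideal ⟨U, hU⟩ = PrimeSpectrum.vanishingIdeal (hU.fromSpec ⁻¹' (Z : Set X)) from rfl,
      PrimeSpectrum.mem_vanishingIdeal]
    intro w hw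
    exact (hw (hU.range_fromSpec.le ⟨w, rfl⟩)).elim
  obtain ⟨one', hone⟩ := (M2.range_idealIncl J ⟨U, hU⟩).ge h1
  obtain ⟨q, hq, hqf, hmem⟩ := exists_ft_sub_mem (M2.isQCoh_idealMod J) (κ := PUnit.{u + 1}) (fun _ => U)
    (fun _ => hU.isCompact) (fun _ => one')
  obtain ⟨b, hb⟩ := hmem PUnit.unit
  haveI : Mono (ClSub.idealModι J) := inferInstanceAs (Mono (kernel.ι (ClSub.toSubscheme J)))
  haveI : Mono q.i := q.mono
  let φ : q.P ⟶ Coh.structureModule X := q.i ≫ ClSub.idealModι J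
  have hφ1 : φ.app U b = (show Γ(Coh.structureModule X, U) from (1 : Γ(X, U))) := by
    simp only [φ, comp_app_apply, hb]
    exact hone
  have hout : ∀ y : X, y ∉ U → ∀ (D : X.Opens) (a : Γ(q.P, D)), y ∈ D →
      y ∉ X.basicOpen (show Γ(X, D) from φ.app D a) := by
    intro y hy D a hyD hmemb
    obtain ⟨A, hA, hyA, hAD⟩ := exists_isAffineOpen_mem_and_subset hyD
    have hsupp : y ∈ J.support := Scheme.IdealSheafData.le_support_iff_le_vanishingIdeal.2 le_rfl
      (show y ∈ Z from hy)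
    have hmem' : M2.idealIncl J (q.i.app A (mres q.P hAD a)) ∈ J.ideal ⟨A, hA⟩ :=
      (M2.range_idealIncl J ⟨A, hA⟩).le ⟨_, rfl⟩
    have hnb := (Scheme.mem_zeroLocus_iff (X := X) _ y).1
      ((Scheme.IdealSheafData.mem_support_iff_of_mem (U := ⟨A, hA⟩) hyA).1 hsupp) _ hmem'
    apply hnb
    show y ∈ X.basicOpen (show Γ(X, A) from φ.app A (mres q.P hAD a))
    rw [app_mres]
    exact (X.basicOpen_res _ (homOfLE hAD).op).ge ⟨hyA, hmemb⟩
  obtain ⟨n, hn, hepi⟩ := h q.P φ inferInstance hq hqf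
  haveI := hepi
  let M := CohB1.tensorPow L n
  have hM : PicF.IsInvertible M := Amp.isInvertible_tensorPow hL _
  have hPM : Coh.IsQCoh (CohB1.tensorMod q.P M) := M2.isQCoh_tensor hq (Twist.isQCoh_of_isInvertible hM)
  obtain ⟨V', t, hxV', ht⟩ := exists_gen_subIncl f φ hM hxU b hφ1
  obtain ⟨r, hr, hzr⟩ := hV.exists_basicOpen_le (V := V') ⟨f z.1, hxV'⟩ z.2
  let r' : Γ(X, W) := f.app V r
  have hr' : X.basicOpen r' ≤ f ⁻¹ᵁ V' := (Scheme.preimage_basicOpen f r).ge.trans (f.preimage_mono hr)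
  have hxr : z.1 ∈ X.basicOpen r' := (Scheme.preimage_basicOpen f r).le hzr
  obtain ⟨t₀, u, hu, ht₀⟩ := QAGen11.exists_section_unit_smul (CohB1.tensorMod q.P M) W r'
    (mres _ hr' t)
  let s : Γ(M, W) := (subIncl φ M).app W t₀
  have hsx : Amp.Gen (Amp.gm M z.1 (U := W) z.2 s) := by
    have e : mres M (X.basicOpen_le r') s = u • mres M hr' ((subIncl φ M).app (f ⁻¹ᵁ V') t) := by
      simp only [s]
      rw [← app_mres, ht₀, Scheme.Modules.Hom.app_smul, app_mres]
    have e' := congrArg (Amp.gm M z.1 (U := X.basicOpen r') hxr) e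
    rw [Amp.gm_res, Amp.gm_smul, Amp.gm_res] at e'
    rw [e', Amp.gen_smul_iff hM]
    exact ⟨hu.map (X.presheaf.germ _ z.1 hxr).hom, ht⟩
  let sW : Γ((Scheme.Modules.pullback W.ι).obj M, (⊤ : (W : Scheme.{u}).Opens)) :=
    mres _ (show (⊤ : (W : Scheme.{u}).Opens) ≤ W.ι ⁻¹ᵁ W from fun w _ => w.2) (M2.pullSec W.ι M s)
  have hPM' := PicLoc.isInvertible_pullback W.ι hM
  let G := CohB1.genLocus _ (M1.secHom sW)
  have hG : ∀ w : (W : Scheme.{u}), w ∈ G ↔ Amp.Gen (Amp.gm M w.1 (U := W) w.2 s) := by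
    intro w
    rw [show w ∈ G ↔ _ from Amp.mem_genLocus_iff hPM' _, Amp.gval_secHom]
    simp only [sW, Amp.gm_res]
    exact Amp.gen_pullSec_iff W.ι hM _ s
  have hsec : Amp.HasSec (L.restrict W.ι) n G :=
    Amp.hasSec_of_iso (M2.pullTensorPowIso W.ι L n ≪≫
      M2.tensorPowIso ((Scheme.Modules.restrictFunctorIsoPullback W.ι).app L).symm n) _
  obtain ⟨m, rfl⟩ := Nat.exists_eq_succ_of_ne_zero hn.ne'
  refine ⟨m, G, hsec, (hG z).2 hsx, ?_⟩
  have hGU : G ≤ W.ι ⁻¹ᵁ U := by
    intro w hw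
    by_contra hwU
    exact not_gen_subIncl φ hM (fun D a hD => hout w.1 hwU D a hD) w.2 t₀ ((hG w).1 hw)
  have hUA : IsAffineOpen (W.ι ⁻¹ᵁ U) := by
    rw [← W.ι.isAffineOpen_iff_of_isOpenImmersion, Scheme.Hom.image_preimage_eq_opensRange_inf,
      Scheme.Opens.opensRange_ι, inf_eq_right.2 (show U ≤ W from hUW)]
    exact hU
  have := Amp.isAffineOpen_inf_hasSec (M2.isInvertible_restrict hL _) hsec hUA
  rwa [inf_eq_left.2 hGU] at this

/-- Global generation over opens covering the image makes the counit an epimorphism. -/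
theorem epi_counit_of_cover (f : X ⟶ Y) (G : X.Modules) {ι : Type*} (V : ι → Y.Opens)
    (hV : ∀ x : X, ∃ i, f x ∈ V i) (h : ∀ i, Curv2.IsGloballyGenerated (G.restrict (f ⁻¹ᵁ V i).ι)) :
    Epi ((Scheme.Modules.pullbackPushforwardAdjunction f).counit.app G) := by
  let adj := Scheme.Modules.pullbackPushforwardAdjunction f
  refine ⟨fun {C} u v huv => ?_⟩
  have e : (Scheme.Modules.pushforward f).map u = (Scheme.Modules.pushforward f).map v := by
    have := congrArg (adj.homEquiv _ C) huv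
    simpa [adj, Adjunction.homEquiv_unit] using this
  have h1 : ∀ i, (Scheme.Modules.restrictFunctor (f ⁻¹ᵁ V i).ι).map u =
      (Scheme.Modules.restrictFunctor (f ⁻¹ᵁ V i).ι).map v := fun i => by
    obtain ⟨κ, p, hp⟩ := h i
    haveI := hp
    refine (cancel_epi p).1 (Sigma.hom_ext _ _ fun k => M1.unit_hom_ext ?_)
    rw [← Category.assoc, ← Category.assoc, M1.comp_app_apply, M1.comp_app_apply]
    let sec : Γ(G.restrict (f ⁻¹ᵁ V i).ι, ⊤) :=
      (Sigma.ι (fun _ : κ => Coh.structureModule _) k ≫ p).app ⊤ (M1.one ⊤)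
    change u.app _ sec = v.app _ sec
    have e' := congrArg (fun ψ : (Scheme.Modules.pushforward f).obj G ⟶ (Scheme.Modules.pushforward f).obj C =>
      ψ.app (V i) (M1.mres G (M1.image_ι_top (f ⁻¹ᵁ V i)).ge sec)) e
    have e'' := congrArg (fun z => M1.mres C (M1.image_ι_top (f ⁻¹ᵁ V i)).le z) e'
    change M1.mres C _ (u.app (f ⁻¹ᵁ V i) _) = M1.mres C _ (v.app (f ⁻¹ᵁ V i) _) at e''
    rw [← M1.app_mres, ← M1.app_mres] at e''
    erw [M1.mres_mres, M1.mres_id] at e''
    exact e''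
  refine Scheme.Modules.hom_ext _ _ fun D => ?_
  ext t
  refine M1.section_ext _ _ fun x hx => ?_
  obtain ⟨i, hxi⟩ := hV x
  let W : X.Opens := (f ⁻¹ᵁ V i).ι ''ᵁ ((f ⁻¹ᵁ V i).ι ⁻¹ᵁ D)
  have hW : W ≤ D := (Scheme.Hom.image_preimage_eq_opensRange_inf (f ⁻¹ᵁ V i).ι D).le.trans inf_le_right
  have hxW : x ∈ W := ⟨⟨x, hxi⟩, hx, rfl⟩
  have e₂ : u.app W (M1.mres G hW t) = v.app W (M1.mres G hW t) :=
    congrArg (fun ψ : (Scheme.Modules.restrictFunctor (f ⁻¹ᵁ V i).ι).obj G ⟶
        (Scheme.Modules.restrictFunctor (f ⁻¹ᵁ V i).ι).obj C =>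
      ψ.app ((f ⁻¹ᵁ V i).ι ⁻¹ᵁ D) (M1.mres G hW t)) (h1 i)
  erw [M1.app_mres, M1.app_mres] at e₂
  rw [← TopCat.Presheaf.germ_res_apply C.presheaf (homOfLE hW) x hxW (u.app D t),
    ← TopCat.Presheaf.germ_res_apply C.presheaf (homOfLE hW) x hxW (v.app D t)]
  exact congrArg _ e₂

/-- Large twists by a relatively ample module are generated relative to the base. -/
theorem exists_epi_counit [CompactSpace X] (f : X ⟶ Y) [QuasiCompact f] {L : X.Modules}
    (hL : RelAmple.IsRelAmple f L) (F : X.Modules) (hF : Coh.IsQCoh F) (hFT : CohB1.IsFT F) :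
    ∃ n₀ : ℕ, ∀ n, n₀ ≤ n →
      Epi ((Scheme.Modules.pullbackPushforwardAdjunction f).counit.app (CohB1.tensorMod F (CohB1.tensorPow L n))) := by
  classical
  obtain ⟨T, hT⟩ := isCompact_univ.elim_finite_subcover (fun U : Y.affineOpens => (f ⁻¹ᵁ U.1 : Set X))
    (fun U => (f ⁻¹ᵁ U.1).isOpen) fun x _ => by
      obtain ⟨U, hU, hy, -⟩ := exists_isAffineOpen_mem_and_subset (show f x ∈ (⊤ : Y.Opens) from trivial)
      exact Set.mem_iUnion.2 ⟨⟨U, hU⟩, hy⟩
  have key : ∀ U : T, ∃ n₀ : ℕ, ∀ n, n₀ ≤ n → Curv2.IsGloballyGenerated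
      (CohB1.tensorMod (F.restrict (f ⁻¹ᵁ U.1.1).ι)
        (CohB1.tensorPow (L.restrict (f ⁻¹ᵁ U.1.1).ι) n)) := fun U =>
    RA.exists_globallyGenerated ((RA.isRelAmple_def f).1 hL U.1.1 U.1.2) _
      (M1.isQCoh_restrict hF _) (M1.isFT_restrict hFT _)
  choose n₀ hn₀ using key
  refine ⟨Finset.univ.sup n₀, fun m hm => epi_counit_of_cover f _ (fun U : T => U.1.1) (fun x => ?_) fun U => ?_⟩
  · obtain ⟨U, hU, hx⟩ := Set.mem_iUnion₂.1 (hT (Set.mem_univ x))
    exact ⟨⟨U, hU⟩, hx⟩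
  · obtain ⟨κ, p, hp⟩ := hn₀ U m ((Finset.le_sup (Finset.mem_univ U)).trans hm)
    exact ⟨κ, p ≫ (M2.restrictTensorIso (f ⁻¹ᵁ U.1.1).ι _ _ ≪≫
      M2.tensorIso (Iso.refl _) (M2.restrictTensorPowIso _ L m)).inv, @epi_comp _ _ _ _ _ p hp _ inferInstance⟩

end Groth.Agent.VA11
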