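import Groth.Agent.Lib.SymAlg11.Sheaf
import Groth.Agent.Lib.QuotProj11.OfAffine
import Groth.Prelude.Def_RelProj2
import Mathlib.RingTheory.GradedAlgebra.Basic
import Mathlib.Algebra.TrivSqZeroExt.Basic

/-!
The graded symmetric algebra of a quasi-coherent module.
-/

set_option autoImplicit false

universe u

open CategoryTheory Limits AlgebraicGeometry TopologicalSpace Opposite
open scoped DirectSum

set_option backward.isDefEq.respectTransparency false

noncomputable section

namespace Groth.Agent.VA11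

section ring

variable (R M : Type u) [CommRing R] [AddCommGroup M] [Module R M]

/-- The symmetric powers. -/
abbrev symPiece (n : ℕ) : Submodule R (SymmetricAlgebra R M) := LinearMap.range (SymmetricAlgebra.ι R M) ^ n

instance symPiece_gradedMonoid : SetLike.GradedMonoid (symPiece R M) :=
  Submodule.nat_power_gradedMonoid (LinearMap.range (SymmetricAlgebra.ι R M))

/-- The inclusion in degree one. -/
def symGι : M →ₗ[R] ⨁ i : ℕ, symPiece R M i :=
  DirectSum.lof R ℕ (fun i => symPiece R M i) 1 ∘ₗ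
    (SymmetricAlgebra.ι R M).codRestrict _ fun m => by simpa only [pow_one] using LinearMap.mem_range_self _ m

theorem symGι_apply (m : M) :
    symGι R M m = DirectSum.of (fun i : ℕ => symPiece R M i) 1
      ⟨SymmetricAlgebra.ι R M m, by simpa only [pow_one] using LinearMap.mem_range_self _ m⟩ :=
  rfl

/-- The decomposition map. -/
def symLiftι : SymmetricAlgebra R M →ₐ[R] ⨁ i : ℕ, symPiece R M i :=
  SymmetricAlgebra.lift (symGι R M)

theorem symLiftι_eq (i : ℕ) (x : symPiece R M i) :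
    symLiftι R M x = DirectSum.of (fun i => symPiece R M i) i x := by
  obtain ⟨x, hx⟩ := x
  dsimp only [Subtype.coe_mk, DirectSum.lof_eq_of]
  induction hx using Submodule.pow_induction_on_left' with
  | algebraMap => simp_rw [AlgHom.commutes, DirectSum.algebraMap_apply]; rfl
  | add _ _ _ _ _ ihx ihy => simp_rw [map_add, ihx, ihy, ← map_add]; rfl
  | mem_mul _ hm _ _ _ ih =>
      obtain ⟨_, rfl⟩ := hm
      simp_rw [map_mul, ih, symLiftι, SymmetricAlgebra.lift_ι_apply, symGι_apply R M, DirectSum.of_mul_of]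
      exact DirectSum.of_eq_of_gradedMonoid_eq (Sigma.subtype_ext (add_comm _ _) rfl)

instance symGradedAlgebra : GradedAlgebra (symPiece R M) :=
  GradedAlgebra.ofAlgHom _ (symLiftι R M)
    (SymmetricAlgebra.algHom_ext (LinearMap.ext fun m => by
      simp only [LinearMap.comp_apply, AlgHom.toLinearMap_apply, AlgHom.comp_apply, AlgHom.id_apply, symLiftι]
      change DirectSum.coeAlgHom _ (SymmetricAlgebra.lift (symGι R M) (SymmetricAlgebra.ι R M m)) = SymmetricAlgebra.ι R M m
      rw [SymmetricAlgebra.lift_ι_apply, symGι_apply R M, DirectSum.coeAlgHom_of]))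
    (symLiftι_eq R M)

/-- The symmetric powers, as additive subgroups. -/
def symDeg (n : ℕ) : AddSubgroup (SymmetricAlgebra R M) := (symPiece R M n).toAddSubgroup

theorem mem_symDeg {n : ℕ} {x : SymmetricAlgebra R M} : x ∈ symDeg R M n ↔ x ∈ symPiece R M n := Iff.rfl

instance symDeg_gradedMonoid : SetLike.GradedMonoid (symDeg R M) where
  one_mem := SetLike.one_mem_graded (symPiece R M)
  mul_mem _ _ _ _ ha hb := SetLike.mul_mem_graded (A := symPiece R M) ha hb

instance symDeg_gradedRing : GradedRing (symDeg R M) where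
  decompose' := DirectSum.decompose (symPiece R M)
  left_inv := DirectSum.Decomposition.left_inv (ℳ := symPiece R M)
  right_inv := DirectSum.Decomposition.right_inv (ℳ := symPiece R M)

theorem algebraMap_mem_symDeg (r : R) : algebraMap R (SymmetricAlgebra R M) r ∈ symDeg R M 0 :=
  SetLike.algebraMap_mem_graded (symPiece R M) r

theorem ι_mem_symDeg (m : M) : SymmetricAlgebra.ι R M m ∈ symDeg R M 1 := by
  rw [mem_symDeg, symPiece, pow_one]
  exact LinearMap.mem_range_self _ m

theorem exists_ι_of_mem {x : SymmetricAlgebra R M} (hx : x ∈ symDeg R M 1) :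
    ∃ m, SymmetricAlgebra.ι R M m = x := by
  rw [mem_symDeg, symPiece, pow_one] at hx
  exact hx

theorem exists_algebraMap_of_mem {x : SymmetricAlgebra R M} (hx : x ∈ symDeg R M 0) :
    ∃ r, algebraMap R (SymmetricAlgebra R M) r = x := by
  rw [mem_symDeg, symPiece, pow_zero, Submodule.one_eq_range] at hx
  exact hx

theorem ι_injective : Function.Injective (SymmetricAlgebra.ι R M) := by
  letI : Module Rᵐᵒᵖ M := Module.compHom _ ((RingHom.id R).fromOpposite mul_comm)
  haveI : IsCentralScalar R M := ⟨fun r m => rfl⟩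
  intro a b h
  have h' := congrArg (SymmetricAlgebra.lift (TrivSqZeroExt.inrHom R M)) h
  rw [SymmetricAlgebra.lift_ι_apply, SymmetricAlgebra.lift_ι_apply] at h'
  exact TrivSqZeroExt.inr_injective h'

variable {R M} in
/-- A ring map respecting scalars and generators respects the degrees. -/
theorem map_symDeg {T τ : Type*} [CommRing T] [SetLike τ T] [AddSubgroupClass τ T] (𝒯 : ℕ → τ)
    [SetLike.GradedMonoid 𝒯] (g : SymmetricAlgebra R M →+* T) (h0 : ∀ r, g (algebraMap R _ r) ∈ 𝒯 0)
    (h1 : ∀ m, g (SymmetricAlgebra.ι R M m) ∈ 𝒯 1) {n : ℕ} {x : SymmetricAlgebra R M}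
    (hx : x ∈ symDeg R M n) : g x ∈ 𝒯 n := by
  rw [mem_symDeg] at hx
  induction hx using Submodule.pow_induction_on_left' with
  | algebraMap r => exact h0 r
  | add _ _ _ _ _ ihx ihy => rw [map_add]; exact add_mem ihx ihy
  | mem_mul _ hm i _ _ ih =>
      obtain ⟨_, rfl⟩ := hm
      rw [map_mul, Nat.succ_eq_add_one, add_comm i 1]
      exact SetLike.mul_mem_graded (h1 _) ih

end ring

variable {S : Scheme.{u}} {E : S.Modules}

open SymAlg11

theorem symRes_mem {U V : S.Opens} (h : V ≤ U) {n : ℕ} {x : SymOn E U}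
    (hx : x ∈ symDeg Γ(S, U) Γ(E, U) n) : symRes E h x ∈ symDeg Γ(S, V) Γ(E, V) n :=
  map_symDeg (symDeg Γ(S, V) Γ(E, V)) (symRes E h)
    (fun r => by rw [symRes_algebraMap]; exact algebraMap_mem_symDeg _ _ _)
    (fun m => by rw [symRes_ι]; exact ι_mem_symDeg _ _ _) hx

/-- The degrees on the affine opens. -/
abbrev symAffDeg (E : S.Modules) (U : S.AffineZariskiSite) : ℕ → AddSubgroup ((symAff E).obj (op U)) :=
  symDeg Γ(S, U.1) Γ(E, U.1)

instance symAffDeg_graded (U : S.AffineZariskiSite) : GradedRing (symAffDeg E U) :=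
  symDeg_gradedRing Γ(S, U.1) Γ(E, U.1)

variable (hE : Coh.IsQCoh E)

/-- The graded symmetric algebra. -/
def symGr : RelProj.QCGrAlg S :=
  QuotProj11.grAlg (coequifibered_symStr hE) (symAffDeg E)
    (fun i _ _ hx => symRes_mem (Scheme.AffineZariskiSite.toOpens_mono i.le) hx)
    (fun _ r => algebraMap_mem_symDeg _ _ r)

theorem isGrSymAlg_symGr : RelProj.IsGrSymAlg E (symGr hE) (symGen hE) := by
  refine ⟨isSymAlg_symQC hE, fun U hU m => ?_⟩
  show QuotProj11.affEquiv (coequifibered_symStr hE) ⟨U, hU⟩ ((symGen hE).app U m) ∈ symDeg Γ(S, U) Γ(E, U) 1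
  rw [symGen_app hE U hU]
  show symEquiv hE U hU ((symEquiv hE U hU).symm _) ∈ _
  rw [RingEquiv.apply_symm_apply]
  exact ι_mem_symDeg _ _ m

section any

variable {𝒮 : RelProj.QCGrAlg S} {j : E ⟶ 𝒮.toModule} (hj : RelProj.IsGrSymAlg E 𝒮 j)

include hj in
theorem liftOn_mem (U : S.Opens) (hU : IsAffineOpen U) {n : ℕ} {x : SymOn E U}
    (hx : x ∈ symDeg Γ(S, U) Γ(E, U) n) : liftOn 𝒮.toQCAlg j U x ∈ 𝒮.deg U hU n :=
  map_symDeg (𝒮.deg U hU) (liftOn 𝒮.toQCAlg j U)
    (fun r => by rw [liftOn_algebraMap]; exact 𝒮.str_mem U hU r)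
    (fun m => by rw [liftOn_ι]; exact hj.2 U hU m) hx

include hE hj in
theorem isGenDegOne_of_isGrSymAlg : 𝒮.IsGenDegOne := by
  intro U hU
  rw [eq_top_iff]
  intro y hy
  clear hy
  obtain ⟨x, rfl⟩ := (bijective_liftOn hE hj.1 U hU).2 y
  induction x using SymmetricAlgebra.induction with
  | algebraMap r =>
    rw [liftOn_algebraMap]
    exact Subring.subset_closure (Or.inl (𝒮.str_mem U hU r))
  | ι m =>
    rw [liftOn_ι]
    exact Subring.subset_closure (Or.inr (hj.2 U hU m))
  | mul a b ha hb => rw [map_mul]; exact mul_mem ha hb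
  | add a b ha hb => rw [map_add]; exact add_mem ha hb

include hE hj in
theorem exists_of_mem_deg (U : S.Opens) (hU : IsAffineOpen U) {n : ℕ} {y : 𝒮.presheaf.obj (op U)}
    (hy : y ∈ 𝒮.deg U hU n) : ∃ x ∈ symDeg Γ(S, U) Γ(E, U) n, liftOn 𝒮.toQCAlg j U x = y := by
  classical
  obtain ⟨x, rfl⟩ := (bijective_liftOn hE hj.1 U hU).2 y
  refine ⟨DirectSum.decompose (symDeg Γ(S, U) Γ(E, U)) x n, SetLike.coe_mem _, ?_⟩
  let g : symDeg Γ(S, U) Γ(E, U) →+*ᵍ 𝒮.deg U hU :=
    { liftOn 𝒮.toQCAlg j U with map_mem := fun hx => liftOn_mem hj U hU hx }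
  show g (DirectSum.decompose (symDeg Γ(S, U) Γ(E, U)) x n : SymOn E U) = liftOn 𝒮.toQCAlg j U x
  rw [GradedRingHom.map_directSumDecompose, DirectSum.decompose_of_mem_same (𝒮.deg U hU) (x := g x) hy]
  rfl

include hE hj in
/-- The degree one part is the module. -/
theorem bijective_deg_one (U : S.Opens) (hU : IsAffineOpen U) :
    Function.Bijective fun m : Γ(E, U) => (⟨j.app U m, hj.2 U hU m⟩ : 𝒮.deg U hU 1) := by
  refine ⟨fun a b hab => ι_injective _ _ ((bijective_liftOn hE hj.1 U hU).1 ?_), fun y => ?_⟩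
  · rw [liftOn_ι, liftOn_ι]
    exact congrArg Subtype.val hab
  · obtain ⟨x, hx, hxy⟩ := exists_of_mem_deg hE hj U hU y.2
    obtain ⟨m, rfl⟩ := exists_ι_of_mem _ _ hx
    rw [liftOn_ι] at hxy
    exact ⟨m, Subtype.ext hxy⟩

end any

end Groth.Agent.VA11
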