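import Groth.Agent.Lib.TensorMod.Hom
import Groth.Agent.Lib.TensorMod.PullTensor

/-!
Values on pure tensors of the structural isomorphisms of the tensor product.
-/

set_option autoImplicit false

universe u

open CategoryTheory MonoidalCategory Limits AlgebraicGeometry TopologicalSpace Opposite TensorProduct

set_option backward.isDefEq.respectTransparency false

noncomputable section

namespace Groth.Agent.VA11

open Groth.Agent.M2

variable {X : Scheme.{u}}

theorem shf_map_unitS {P Q : PM X.presheaf} (f : P ⟶ Q) {U : X.Opens} (z : P.obj (op U)) :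
    ((shf X).map f).app U ((unitS P).app (op U) z) = (unitS Q).app (op U) (f.app (op U) z) :=
  (congrArg (fun φ => φ.app (op U) z) (unitS_naturality f)).symm

theorem shfPmIso_unitS (M : X.Modules) {U : X.Opens} (s : Γ(M, U)) :
    (shfPmIso M).hom.app U ((unitS (pm M)).app (op U) s) = s :=
  congrArg (fun φ => φ.app (op U) s) ((adjS X).right_triangle_components M)

theorem tensorRUnit_tsec (M : X.Modules) {U : X.Opens} (s : Γ(M, U)) (r : Γ(Coh.structureModule X, U)) :
    (tensorRUnit M).hom.app U (tsec M (Coh.structureModule X) s r) = (show Γ(X, U) from r) • s := by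
  show (shfPmIso M).hom.app U (((shf X).map (ρ_ (pm M)).hom).app U ((unitS _).app (op U) _)) = _
  refine (congrArg ((shfPmIso M).hom.app U) (shf_map_unitS _ _)).trans ?_
  refine (shfPmIso_unitS M _).trans ?_
  rfl

theorem tensorAssoc_tsec (L M N : X.Modules) {U : X.Opens} (a : Γ(L, U)) (b : Γ(M, U)) (c : Γ(N, U)) :
    (tensorAssoc L M N).hom.app U (tsec (CohB1.tensorMod L M) N (tsec L M a b) c) =
      tsec L (CohB1.tensorMod M N) a (tsec M N b c) := by
  have h1 : (shfWhiskerIso' (pm L ⊗ pm M) (pm N)).hom.app U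
      ((unitS _).app (op U) (tm (pm L ⊗ pm M) (pm N) (tm (pm L) (pm M) a b) c)) =
      tsec (CohB1.tensorMod L M) N (tsec L M a b) c :=
    (shf_map_unitS (unitS (pm L ⊗ pm M) ⊗ₘ 𝟙 (pm N)) _).trans rfl
  rw [← h1]
  show ((shfWhiskerIso (pm L) (pm M ⊗ pm N)).hom).app U (((shf X).map (α_ (pm L) (pm M) (pm N)).hom).app U
    ((shfWhiskerIso' (pm L ⊗ pm M) (pm N)).inv.app U ((shfWhiskerIso' (pm L ⊗ pm M) (pm N)).hom.app U _))) = _
  have h2 : ∀ z, (shfWhiskerIso' (pm L ⊗ pm M) (pm N)).inv.app U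
      ((shfWhiskerIso' (pm L ⊗ pm M) (pm N)).hom.app U z) = z := fun z => by
    exact congrArg (fun φ => φ.app U z) (shfWhiskerIso' (pm L ⊗ pm M) (pm N)).hom_inv_id
  rw [h2]
  refine (congrArg ((shfWhiskerIso (pm L) (pm M ⊗ pm N)).hom.app U) (shf_map_unitS _ _)).trans ?_
  exact (shf_map_unitS (𝟙 (pm L) ⊗ₘ unitS (pm M ⊗ pm N)) _).trans rfl

/-- Every section of a tensor product is locally a sum of pure tensors. -/
theorem exists_res_eq_unitS (M N : X.Modules) {U : X.Opens} (a : Γ(CohB1.tensorMod M N, U)) {x : X} (hx : x ∈ U) :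
    ∃ (V : X.Opens) (hV : V ≤ U) (z : (pm M ⊗ pm N).obj (op V)), x ∈ V ∧
      res (CohB1.tensorMod M N) hV a = (unitS (pm M ⊗ pm N)).app (op V) z := by
  obtain ⟨b, hb⟩ := (bijective_stMap_unitS (pm M ⊗ pm N) x).2 ((CohB1.tensorMod M N).presheaf.germ U x hx a)
  obtain ⟨W, hW, z, rfl⟩ := exists_sg (pm M ⊗ pm N) b
  rw [stMap_sg] at hb
  obtain ⟨V, hxV, iW, iU, h⟩ := (CohB1.tensorMod M N).presheaf.germ_eq x hW hx _ _ hb
  refine ⟨V, iU.le, rs (pm M ⊗ pm N) iW.le z, hxV, ?_⟩
  exact (h.symm).trans (PresheafOfModules.naturality_apply (unitS (pm M ⊗ pm N)) iW.op z).symm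

/-- Maps out of a threefold tensor product agreeing on pure tensors agree. -/
theorem tensor_hom_ext₃ {A B C K : X.Modules} {φ ψ : CohB1.tensorMod (CohB1.tensorMod A B) C ⟶ K}
    (h : ∀ (U : X.Opens) (a : Γ(A, U)) (b : Γ(B, U)) (c : Γ(C, U)),
      φ.app U (tsec _ C (tsec A B a b) c) = ψ.app U (tsec _ C (tsec A B a b) c)) : φ = ψ := by
  refine tensorMod_hom_ext fun U s c => M1.section_ext _ _ fun x hx => ?_
  obtain ⟨V, hV, z, hxV, hz⟩ := exists_res_eq_unitS A B s hx
  rw [← TopCat.Presheaf.germ_res_apply K.presheaf (homOfLE hV) x hxV,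
    ← TopCat.Presheaf.germ_res_apply K.presheaf (homOfLE hV) x hxV]
  refine congrArg _ ?_
  show M1.mres K hV (φ.app U _) = M1.mres K hV (ψ.app U _)
  rw [← M1.app_mres, ← M1.app_mres]
  show φ.app V (res _ hV _) = ψ.app V (res _ hV _)
  rw [res_tsec, hz]
  clear hz
  induction z using tensor_induction (pm A) (pm B) (U := V) with
  | zero =>
    rw [show (unitS (pm A ⊗ pm B)).app (op V) 0 = 0 from map_zero _]
    have : tsec (CohB1.tensorMod A B) C (0 : Γ(CohB1.tensorMod A B, V)) (res C hV c) = 0 := by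
      have h0 := tsec_smul_left (M := CohB1.tensorMod A B) (N := C) (0 : Γ(X, V)) 0 (res C hV c)
      rwa [zero_smul, zero_smul] at h0
    erw [this, map_zero, map_zero]
  | tm' a b => exact h V a b _
  | add a b ha hb =>
    rw [show (unitS (pm A ⊗ pm B)).app (op V) (a + b) = _ + _ from map_add _ _ _]
    erw [tsec_add_left, map_add, map_add]
    exact congrArg₂ (· + ·) ha hb

/-- The identity pullback on sections. -/
theorem pullbackId_hom_pullSec (M : X.Modules) {U : X.Opens} (s : Γ(M, U)) :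
    ((Scheme.Modules.pullbackId X).hom.app M).app U (pullSec (𝟙 X) M s) = s := by
  have h := unit_conjugateEquiv .id (Scheme.Modules.pullbackPushforwardAdjunction (𝟙 X))
    (Scheme.Modules.pullbackId X).hom M
  rw [Scheme.Modules.conjugateEquiv_pullbackId_hom] at h
  exact (congrArg (fun ψ => ψ.app U s) h).symm

end Groth.Agent.VA11
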