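import Groth.Agent.Lib.VeryAmple11.Univ2
import Groth.Agent.Lib.VeryAmple11.TsecRules
import Groth.Agent.Lib.CohFound.ModQuot

/-!
Projective bundles of twisted modules.
-/

set_option autoImplicit false

universe u

open CategoryTheory Limits AlgebraicGeometry TopologicalSpace Opposite
open scoped HomogeneousIdeal

set_option backward.isDefEq.respectTransparency false

noncomputable section

namespace Groth.Agent.VA11

open Groth.Agent.M1

variable {S P Q R : Scheme.{u}} {E E' E'' N N' : S.Modules} {p : P ⟶ S} {q : Q ⟶ S} {q' : R ⟶ S}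
  {OP : P.Modules} {OQ : Q.Modules} {OR : R.Modules}
  {φP : E ⟶ (Scheme.Modules.pushforward p).obj OP} {φQ : E' ⟶ (Scheme.Modules.pushforward q).obj OQ}
  {φR : E'' ⟶ (Scheme.Modules.pushforward q').obj OR}

/-- Inverse images of morphisms, on inverse images of sections. -/
theorem map_pullSec {X Y : Scheme.{u}} (f : Y ⟶ X) {M K : X.Modules} (χ : M ⟶ K) {V : X.Opens} (s : Γ(M, V)) :
    ((Scheme.Modules.pullback f).map χ).app (f ⁻¹ᵁ V) (M2.pullSec f M s) = M2.pullSec f K (χ.app V s) :=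
  (congrArg (fun φ => φ.app V s) ((Scheme.Modules.pullbackPushforwardAdjunction f).unit.naturality χ)).symm

theorem comp_map_pullSec {X Y Z : Scheme.{u}} (i : Z ⟶ Y) (i' : Y ⟶ X) {M : X.Modules} {K : Y.Modules}
    (χ : (Scheme.Modules.pullback i').obj M ⟶ K) {V : X.Opens} (s : Γ(M, V)) :
    ((Scheme.Modules.pullback i).map χ).app ((i ≫ i') ⁻¹ᵁ V)
        (((Scheme.Modules.pullbackComp i i').inv.app M).app ((i ≫ i') ⁻¹ᵁ V) (M2.pullSec (i ≫ i') M s)) =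
      M2.pullSec i K (χ.app (i' ⁻¹ᵁ V) (M2.pullSec i' M s)) := by
  rw [pullbackComp_inv_pullSec]
  exact map_pullSec i χ (M2.pullSec i' M s)

theorem comp_congr_pullSec {X Y Z : Scheme.{u}} (i : Z ⟶ Y) (q : Y ⟶ X) {p : Z ⟶ X} (hi : i ≫ q = p)
    (M : X.Modules) {V : X.Opens} (s : Γ(M, V)) :
    ((Scheme.Modules.pullbackComp i q).app M ≪≫ (Scheme.Modules.pullbackCongr hi).app M).hom.app
        (i ⁻¹ᵁ (q ⁻¹ᵁ V)) (M2.pullSec i _ (M2.pullSec q M s)) =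
      mres _ (show i ⁻¹ᵁ (q ⁻¹ᵁ V) ≤ p ⁻¹ᵁ V by rw [← hi]; rfl) (M2.pullSec p M s) := by
  subst hi
  rw [← pullbackComp_inv_pullSec]
  have h := congrArg (fun φ => φ.app ((i ≫ q) ⁻¹ᵁ V) (M2.pullSec (i ≫ q) M s))
    ((Scheme.Modules.pullbackComp i q).inv_hom_id_app M)
  simp only [Iso.trans_hom, Iso.app_hom, Scheme.Modules.pullbackCongr, eqToIso_refl, Iso.refl_hom,
    NatTrans.id_app, Category.comp_id]
  exact h.trans (mres_id _ _ _).symm

theorem pullbackStructureIso_pullSec {X Y : Scheme.{u}} (g : X ⟶ Y) {V : Y.Opens}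
    (r : Γ(Coh.structureModule Y, V)) :
    (PicLoc.pullbackStructureIso g).hom.app (g ⁻¹ᵁ V) (M2.pullSec g (Coh.structureModule Y) r) =
      (show Γ(Coh.structureModule X, g ⁻¹ᵁ V) from g.app V (show Γ(Y, V) from r)) := by
  have h := congrArg (fun φ : SheafOfModules.unit Y.ringCatSheaf ⟶
      (SheafOfModules.pushforward g.toRingCatSheafHom).obj (SheafOfModules.unit X.ringCatSheaf) => φ.val.app (op V) r)
    (((SheafOfModules.pullbackPushforwardAdjunction g.toRingCatSheafHom).homEquiv _ _).apply_symm_apply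
      (SheafOfModules.unitToPushforwardObjUnit g.toRingCatSheafHom))
  exact h

theorem back_tsec {X Y : Scheme.{u}} (p : X ⟶ Y) {A : X.Modules} {N N' : Y.Modules}
    (c : CohB1.tensorMod N N' ≅ Coh.structureModule Y) {V : Y.Opens} (a : Γ(A, p ⁻¹ᵁ V)) (n : Γ(N, V))
    (n' : Γ(N', V)) :
    (M2.tensorAssoc A ((Scheme.Modules.pullback p).obj N) ((Scheme.Modules.pullback p).obj N') ≪≫
      M2.tensorIso (Iso.refl A) ((M2.pullTensorIso p N N').symm ≪≫ (Scheme.Modules.pullback p).mapIso c ≪≫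
        PicLoc.pullbackStructureIso p) ≪≫ M2.tensorRUnit A).hom.app (p ⁻¹ᵁ V)
      (M2.tsec _ _ (M2.tsec A _ a (M2.pullSec p N n)) (M2.pullSec p N' n')) =
      p.app V (show Γ(Y, V) from c.hom.app V (M2.tsec N N' n n')) • a := by
  have h3 : (M2.pullTensorIso p N N').inv.app (p ⁻¹ᵁ V)
      (M2.tsec ((Scheme.Modules.pullback p).obj N) ((Scheme.Modules.pullback p).obj N')
        (M2.pullSec p N n) (M2.pullSec p N' n')) = M2.pullSec p _ (M2.tsec N N' n n') := by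
    rw [← M2.pullCmp_pullSec p N N' n n']
    exact congrArg (fun χ => χ.app (p ⁻¹ᵁ V) (M2.pullSec p _ (M2.tsec N N' n n')))
      (M2.pullTensorIso p N N').hom_inv_id
  simp only [Iso.trans_hom, comp_app_apply]
  rw [tensorAssoc_tsec]
  refine (congrArg ((M2.tensorRUnit A).hom.app _) (M2.tensorMap_tsec _ _ _ _)).trans ?_
  refine (tensorRUnit_tsec A _ _).trans ?_
  refine congrArg (fun z : Γ(X, p ⁻¹ᵁ V) => z • a) ?_
  dsimp only [Iso.trans_hom, Iso.symm_hom, Functor.mapIso_hom]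
  rw [comp_app_apply, comp_app_apply]
  refine (congrArg ((PicLoc.pullbackStructureIso p).hom.app _)
    ((congrArg (((Scheme.Modules.pullback p).map c.hom).app _) h3).trans (map_pullSec p c.hom _))).trans ?_
  exact pullbackStructureIso_pullSec p _

/-- The value of the composite of two twist maps. -/
theorem comp_twist_value {P Q S : Scheme.{u}} {p : P ⟶ S} {q : Q ⟶ S} {OP : P.Modules} {OQ : Q.Modules}
    {N N' : S.Modules} (i : P ⟶ Q) (hi : i ≫ q = p) (i' : Q ⟶ P) (hi' : i' ≫ p = q)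
    (τ : (Scheme.Modules.pullback i).obj OQ ≅ CohB1.tensorMod OP ((Scheme.Modules.pullback p).obj N))
    (τ' : (Scheme.Modules.pullback i').obj OP ≅ CohB1.tensorMod OQ ((Scheme.Modules.pullback q).obj N'))
    (c : CohB1.tensorMod N N' ≅ Coh.structureModule S) {U : S.Opens} (a a' : Γ(OP, p ⁻¹ᵁ U))
    (b : Γ(OQ, q ⁻¹ᵁ U)) (n : Γ(N, U)) (n' : Γ(N', U))
    (h1 : τ.hom.app (i ⁻¹ᵁ (q ⁻¹ᵁ U)) (M2.pullSec i OQ b) =
      mres _ (show i ⁻¹ᵁ (q ⁻¹ᵁ U) ≤ p ⁻¹ᵁ U by rw [← hi]; rfl)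
        (M2.tsec OP ((Scheme.Modules.pullback p).obj N) a' (M2.pullSec p N n)))
    (h2 : τ'.hom.app (i' ⁻¹ᵁ (p ⁻¹ᵁ U)) (M2.pullSec i' OP a) =
      mres _ (show i' ⁻¹ᵁ (p ⁻¹ᵁ U) ≤ q ⁻¹ᵁ U by rw [← hi']; rfl)
        (M2.tsec OQ ((Scheme.Modules.pullback q).obj N') b (M2.pullSec q N' n'))) :
    (((Scheme.Modules.pullbackComp i i').app OP).symm ≪≫ (Scheme.Modules.pullback i).mapIso τ' ≪≫
      M2.pullTensorIso i OQ _ ≪≫ M2.tensorIso τ ((Scheme.Modules.pullbackComp i q).app N' ≪≫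
        (Scheme.Modules.pullbackCongr hi).app N') ≪≫
      (M2.tensorAssoc OP _ _ ≪≫ M2.tensorIso (Iso.refl OP) ((M2.pullTensorIso p N N').symm ≪≫
        (Scheme.Modules.pullback p).mapIso c ≪≫ PicLoc.pullbackStructureIso p) ≪≫ M2.tensorRUnit OP)).hom.app
      ((i ≫ i') ⁻¹ᵁ (p ⁻¹ᵁ U)) (M2.pullSec (i ≫ i') OP a) =
    mres OP (show (i ≫ i') ⁻¹ᵁ (p ⁻¹ᵁ U) ≤ p ⁻¹ᵁ U by
        rw [← Scheme.Hom.comp_preimage (i ≫ i') p, Category.assoc, hi', hi])
      (p.app U (show Γ(S, U) from c.hom.app U (M2.tsec N N' n n')) • a') := by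
  have hle : (i ≫ i') ⁻¹ᵁ (p ⁻¹ᵁ U) ≤ i ⁻¹ᵁ (q ⁻¹ᵁ U) :=
    i.preimage_mono (show i' ⁻¹ᵁ (p ⁻¹ᵁ U) ≤ q ⁻¹ᵁ U by rw [← hi']; rfl)
  have hle' : i ⁻¹ᵁ (q ⁻¹ᵁ U) ≤ p ⁻¹ᵁ U := by rw [← hi]; rfl
  rw [← back_tsec p c a' n n']
  generalize hback : (M2.tensorAssoc OP _ _ ≪≫ M2.tensorIso (Iso.refl OP) ((M2.pullTensorIso p N N').symm ≪≫
        (Scheme.Modules.pullback p).mapIso c ≪≫ PicLoc.pullbackStructureIso p) ≪≫ M2.tensorRUnit OP) = back
  generalize hcmp : ((Scheme.Modules.pullbackComp i q).app N' ≪≫ (Scheme.Modules.pullbackCongr hi).app N') = cmp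
  have hc : cmp.hom.app (i ⁻¹ᵁ (q ⁻¹ᵁ U)) (M2.pullSec i _ (M2.pullSec q N' n')) =
      mres _ hle' (M2.pullSec p N' n') := hcmp ▸ comp_congr_pullSec i q hi N' n'
  -- on the smaller open
  have e2 : ((Scheme.Modules.pullback i).map τ'.hom).app ((i ≫ i') ⁻¹ᵁ (p ⁻¹ᵁ U))
      (((Scheme.Modules.pullbackComp i i').inv.app OP).app ((i ≫ i') ⁻¹ᵁ (p ⁻¹ᵁ U)) (M2.pullSec (i ≫ i') OP a)) =
      mres _ hle (M2.pullSec i _ (M2.tsec OQ ((Scheme.Modules.pullback q).obj N') b (M2.pullSec q N' n'))) :=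
    (comp_map_pullSec i i' τ'.hom a).trans ((congrArg (M2.pullSec i _) h2).trans (mres_pullSec i (show i' ⁻¹ᵁ (p ⁻¹ᵁ U) ≤ q ⁻¹ᵁ U by rw [← hi']; rfl) _).symm)
  have e3 : (M2.tensorIso τ cmp).hom.app (i ⁻¹ᵁ (q ⁻¹ᵁ U)) ((M2.pullTensorIso i OQ _).hom.app (i ⁻¹ᵁ (q ⁻¹ᵁ U))
      (M2.pullSec i _ (M2.tsec OQ ((Scheme.Modules.pullback q).obj N') b (M2.pullSec q N' n')))) =
      mres _ hle' (M2.tsec _ _ (M2.tsec OP ((Scheme.Modules.pullback p).obj N) a' (M2.pullSec p N n))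
        (M2.pullSec p N' n')) := by
    refine (congrArg ((M2.tensorIso τ cmp).hom.app _) (M2.pullCmp_pullSec i OQ _ _ _)).trans ?_
    refine (M2.tensorMap_tsec _ _ _ _).trans ?_
    rw [h1, hc]
    exact (M2.res_tsec _ _ _).symm
  simp only [Iso.trans_hom, Iso.symm_hom, Iso.app_inv, Functor.mapIso_hom, comp_app_apply]
  refine (congrArg (fun z => back.hom.app ((i ≫ i') ⁻¹ᵁ (p ⁻¹ᵁ U))
    ((M2.tensorIso τ cmp).hom.app _ ((M2.pullTensorIso i OQ _).hom.app _ z))) e2).trans ?_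
  refine (congrArg (fun z => back.hom.app ((i ≫ i') ⁻¹ᵁ (p ⁻¹ᵁ U))
    ((M2.tensorIso τ cmp).hom.app _ z)) (app_mres _ hle _)).trans ?_
  refine (congrArg (back.hom.app ((i ≫ i') ⁻¹ᵁ (p ⁻¹ᵁ U))) ((app_mres _ hle _).trans
    (congrArg (mres _ hle) e3))).trans ?_
  refine (app_mres _ hle _).trans ?_
  refine (congrArg (mres _ hle) (app_mres _ hle' _)).trans ?_
  exact mres_mres _ _ _ _

/-- `i` corresponds to twisting by `N` through `θ`. -/
def IsTwistMap (φP : E ⟶ (Scheme.Modules.pushforward p).obj OP) (φQ : E' ⟶ (Scheme.Modules.pushforward q).obj OQ)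
    (θ : CohB1.tensorMod E N ≅ E') (i : P ⟶ Q) (hi : i ≫ q = p)
    (τ : (Scheme.Modules.pullback i).obj OQ ≅ CohB1.tensorMod OP ((Scheme.Modules.pullback p).obj N)) : Prop :=
  ∀ (U : S.Opens) (e : Γ(E, U)) (n : Γ(N, U)),
    τ.hom.app (i ⁻¹ᵁ (q ⁻¹ᵁ U)) (M2.pullSec i OQ (φQ.app U (θ.hom.app U (M2.tsec E N e n)))) =
      mres _ (show i ⁻¹ᵁ (q ⁻¹ᵁ U) ≤ p ⁻¹ᵁ U by rw [← hi]; rfl)
        (M2.tsec OP ((Scheme.Modules.pullback p).obj N) (φP.app U e) (M2.pullSec p N n))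

/-- The sections `θ(e ⊗ n) ↦ φ(e) ⊗ p^* n` of a twist, generating. -/
theorem exists_gens_twist (hOP : PicF.IsInvertible OP) (hN : PicF.IsInvertible N) (hg : Gens φP)
    (θ : CohB1.tensorMod E N ≅ E') :
    ∃ σ : E' ⟶ (Scheme.Modules.pushforward p).obj (CohB1.tensorMod OP ((Scheme.Modules.pullback p).obj N)),
      Gens σ ∧ ∀ (U : S.Opens) (e : Γ(E, U)) (n : Γ(N, U)),
        σ.app U (θ.hom.app U (M2.tsec E N e n)) =
          M2.tsec OP ((Scheme.Modules.pullback p).obj N) (φP.app U e) (M2.pullSec p N n) := by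
  let adj := Scheme.Modules.pullbackPushforwardAdjunction p
  let θP := (adj.homEquiv E OP).symm φP
  haveI : Epi θP := epi_of_gens hOP hg
  haveI := CohFound.epi_tensorMap θP ((Scheme.Modules.pullback p).obj N)
  let a : (Scheme.Modules.pullback p).obj E' ⟶ CohB1.tensorMod OP ((Scheme.Modules.pullback p).obj N) :=
    (Scheme.Modules.pullback p).map θ.inv ≫ M2.pullCmp p E N ≫ M2.tensorMap θP (𝟙 _)
  haveI : Epi a := inferInstanceAs (Epi (_ ≫ _ ≫ _))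
  refine ⟨adj.homEquiv E' _ a, gens_of_epi (M2.isInvertible_tensor hOP (PicLoc.isInvertible_pullback p hN)) a,
    fun U e n => ?_⟩
  rw [adj.homEquiv_unit]
  show a.app (p ⁻¹ᵁ U) (M2.pullSec p E' (θ.hom.app U (M2.tsec E N e n))) = _
  have h1 : ((Scheme.Modules.pullback p).map θ.inv).app (p ⁻¹ᵁ U)
      (M2.pullSec p E' (θ.hom.app U (M2.tsec E N e n))) =
      M2.pullSec p (CohB1.tensorMod E N) (M2.tsec E N e n) := by
    refine (congrArg (fun χ => χ.app U (θ.hom.app U (M2.tsec E N e n))) (adj.unit.naturality θ.inv)).symm.trans ?_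
    show M2.pullSec p _ (θ.inv.app U (θ.hom.app U (M2.tsec E N e n))) = _
    rw [← comp_app_apply, θ.hom_inv_id]
    rfl
  have h2 : θP.app (p ⁻¹ᵁ U) (M2.pullSec p E e) = φP.app U e :=
    congrArg (fun χ : E ⟶ (Scheme.Modules.pushforward p).obj OP => χ.app U e)
      ((adj.homEquiv_unit (f := θP)).symm.trans ((adj.homEquiv E OP).apply_symm_apply φP))
  simp only [a, comp_app_apply]
  erw [h1, M2.pullCmp_pullSec, M2.tensorMap_tsec, h2]
  rfl

/-- Twist maps exist, for a bundle of the twisted module. -/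
theorem exists_isTwistMap {𝒯 : RelProj.QCGrAlg S} {k : E' ⟶ 𝒯.toModule}
    {chartQ : ∀ (U : S.Opens) (hU : IsAffineOpen U), ((q ⁻¹ᵁ U : Q.Opens) : Scheme.{u}) ≅ Proj (𝒯.deg U hU)}
    {lamQ : ∀ (U : S.Opens) (hU : IsAffineOpen U),
      OQ ⟶ (Scheme.Modules.pushforward (RelProj.emb q chartQ U hU)).obj (GrTwist.twist (𝒯.deg U hU) 1)}
    (hE' : Coh.IsQCoh E') (hk : RelProj.IsGrSymAlg E' 𝒯 k) (hQ : RelProj.IsRelProj 𝒯 q chartQ)
    (hO : RelProj.IsRelTwist 𝒯 q chartQ 1 OQ lamQ) (hφQ : IsCan hk hO φQ)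
    (hOP : PicF.IsInvertible OP) (hN : PicF.IsInvertible N) (hg : Gens φP) (θ : CohB1.tensorMod E N ≅ E') :
    ∃ (i : P ⟶ Q) (hi : i ≫ q = p)
      (τ : (Scheme.Modules.pullback i).obj OQ ≅ CohB1.tensorMod OP ((Scheme.Modules.pullback p).obj N)),
      IsTwistMap φP φQ θ i hi τ := by
  obtain ⟨σ, hσ, hv⟩ := exists_gens_twist hOP hN hg θ
  obtain ⟨i, hi, τ, hτ⟩ := exists_morphism_can hE' hk hQ hO hφQ hσ
  refine ⟨i, hi, τ, fun U e n => ?_⟩
  rw [hτ, hv]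

set_option maxHeartbeats 800000 in
/-- Twisting by `N` and then by an inverse is the identity. -/
theorem twist_comp_eq_id {𝒮 : RelProj.QCGrAlg S} {j : E ⟶ 𝒮.toModule}
    {chart : ∀ (U : S.Opens) (hU : IsAffineOpen U), ((p ⁻¹ᵁ U : P.Opens) : Scheme.{u}) ≅ Proj (𝒮.deg U hU)}
    {lam : ∀ (U : S.Opens) (hU : IsAffineOpen U),
      OP ⟶ (Scheme.Modules.pushforward (RelProj.emb p chart U hU)).obj (GrTwist.twist (𝒮.deg U hU) 1)}
    (hE : Coh.IsQCoh E) (hj : RelProj.IsGrSymAlg E 𝒮 j) (hP : RelProj.IsRelProj 𝒮 p chart)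
    (hO : RelProj.IsRelTwist 𝒮 p chart 1 OP lam) (hφP : IsCan hj hO φP)
    (θ : CohB1.tensorMod E N ≅ E') (θ' : CohB1.tensorMod E' N' ≅ E)
    (c : CohB1.tensorMod N N' ≅ Coh.structureModule S)
    (hθ : ∀ (U : S.Opens) (e : Γ(E, U)) (n : Γ(N, U)) (n' : Γ(N', U)),
      θ'.hom.app U (M2.tsec E' N' (θ.hom.app U (M2.tsec E N e n)) n') =
        (show Γ(S, U) from c.hom.app U (M2.tsec N N' n n')) • e)
    {i : P ⟶ Q} {hi : i ≫ q = p}
    {τ : (Scheme.Modules.pullback i).obj OQ ≅ CohB1.tensorMod OP ((Scheme.Modules.pullback p).obj N)}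
    (hτ : IsTwistMap φP φQ θ i hi τ)
    {i' : Q ⟶ P} {hi' : i' ≫ p = q}
    {τ' : (Scheme.Modules.pullback i').obj OP ≅ CohB1.tensorMod OQ ((Scheme.Modules.pullback q).obj N')}
    (hτ' : IsTwistMap φQ φP θ' i' hi' τ') : i ≫ i' = 𝟙 P := by
  let pN := (Scheme.Modules.pullback p).obj N
  let pN' := (Scheme.Modules.pullback p).obj N'
  let cP : CohB1.tensorMod pN pN' ≅ Coh.structureModule P :=
    (M2.pullTensorIso p N N').symm ≪≫ (Scheme.Modules.pullback p).mapIso c ≪≫ PicLoc.pullbackStructureIso p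
  let back : CohB1.tensorMod (CohB1.tensorMod OP pN) pN' ≅ OP :=
    M2.tensorAssoc OP pN pN' ≪≫ M2.tensorIso (Iso.refl OP) cP ≪≫ M2.tensorRUnit OP
  let cmp : (Scheme.Modules.pullback i).obj ((Scheme.Modules.pullback q).obj N') ≅ pN' :=
    (Scheme.Modules.pullbackComp i q).app N' ≪≫ (Scheme.Modules.pullbackCongr hi).app N'
  let τr : (Scheme.Modules.pullback (i ≫ i')).obj OP ≅ OP :=
    ((Scheme.Modules.pullbackComp i i').app OP).symm ≪≫ (Scheme.Modules.pullback i).mapIso τ' ≪≫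
      M2.pullTensorIso i OQ _ ≪≫ M2.tensorIso τ cmp ≪≫ back
  have hr : (i ≫ i') ≫ p = p := by rw [Category.assoc, hi', hi]
  obtain ⟨ω, hω⟩ := exists_comp_unit φP (i ≫ i') τr hr
  obtain ⟨σ, hσ⟩ := exists_comp_unit φP (𝟙 P) ((Scheme.Modules.pullbackId P).app OP) (Category.id_comp p)
  have hωσ : ω = σ := by
    let Φ : CohB1.tensorMod (CohB1.tensorMod E N) N' ≅ E := M2.tensorIso θ (Iso.refl N') ≪≫ θ'
    refine (cancel_epi Φ.hom).1 (tensor_hom_ext₃ fun U e n n' => ?_)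
    rw [comp_app_apply, comp_app_apply]
    have hΦ : Φ.hom.app U (M2.tsec _ N' (M2.tsec E N e n) n') =
        (show Γ(S, U) from c.hom.app U (M2.tsec N N' n n')) • e := by
      simp only [Φ, Iso.trans_hom, comp_app_apply]
      erw [M2.tensorMap_tsec]
      exact hθ U e n n'
    rw [hΦ]
    set r := (show Γ(S, U) from c.hom.app U (M2.tsec N N' n n')) with hrdef
    erw [hω, hσ]
    have hi0 : (i ≫ i') ⁻¹ᵁ (p ⁻¹ᵁ U) ≤ i ⁻¹ᵁ (q ⁻¹ᵁ U) := by
      rw [← hi']; rfl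
    -- the composite
    have key : τr.hom.app ((i ≫ i') ⁻¹ᵁ (p ⁻¹ᵁ U)) (M2.pullSec (i ≫ i') OP (φP.app U (r • e))) =
        mres OP (show (i ≫ i') ⁻¹ᵁ (p ⁻¹ᵁ U) ≤ p ⁻¹ᵁ U by
          rw [← Scheme.Hom.comp_preimage (i ≫ i') p, hr]) (φP.app U (r • e)) := by
      have h2 := hτ' U (θ.hom.app U (M2.tsec E N e n)) n'
      rw [hθ U e n n'] at h2
      exact (comp_twist_value i hi i' hi' τ τ' c _ _ _ n n' (hτ U e n) h2).trans
        (congrArg (mres OP _) (φP.app_smul r e).symm)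
    erw [key, mres_mres, mres_id]
    rw [show ((Scheme.Modules.pullbackId P).app OP).hom = (Scheme.Modules.pullbackId P).hom.app OP from rfl]
    erw [pullbackId_hom_pullSec, mres_id]
  subst hωσ
  exact eq_of_can hE hj hP hO hφP hr (Category.id_comp p) τr ((Scheme.Modules.pullbackId P).app OP) ω
    (fun U _ e => by erw [hω, mres_mres, mres_id]) (fun U _ e => by erw [hσ, mres_mres, mres_id]; rfl)

end Groth.Agent.VA11
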