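import Groth.Agent.Lib.VeryAmple11.Ample
import Groth.Agent.Lib.QuotProj11.Proper
import Groth.Agent.Lib.ModM1.Coh
import Groth.Agent.Lib.ModM1.Local

/-!
Projective morphisms are the proper morphisms with a relatively very ample module
given by a module of finite type.
-/

set_option autoImplicit false

universe u

open CategoryTheory Limits AlgebraicGeometry TopologicalSpace Opposite

set_option backward.isDefEq.respectTransparency false

noncomputable section

namespace Groth.Agent.VA11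

open Groth.Agent.M1

variable {S X : Scheme.{u}} {f' : X ⟶ S}

/-- The degree one part, as a module. -/
theorem exists_degOne (𝒮 : RelProj.QCGrAlg S) :
    ∃ (E : S.Modules) (j : E ⟶ 𝒮.toModule), Coh.IsQCoh E ∧ ∀ (U : S.Opens) (hU : IsAffineOpen U),
      Function.Injective (j.app U) ∧
        ∀ a : 𝒮.presheaf.obj (op U), a ∈ 𝒮.deg U hU 1 ↔ ∃ m, j.app U m = a := by
  classical
  let cst : ∀ (U : S.Opens), Γ(𝒮.toModule, U) → 𝒮.presheaf.obj (op U) := fun U a => a
  let pr : ∀ (U : S.Opens) (hU : IsAffineOpen U), Γ(𝒮.toModule, U) → Γ(𝒮.toModule, U) := fun U hU a =>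
    show Γ(𝒮.toModule, U) from (DirectSum.decompose (𝒮.deg U hU) (cst U a) 1 : 𝒮.presheaf.obj (op U))
  let g : ∀ U : S.Opens, IsAffineOpen U → Γ(𝒮.toModule, U) →+ Γ(𝒮.toModule, U) := fun U hU =>
    AddMonoidHom.mk' (pr U hU) fun a b => by
      show (DirectSum.decompose (𝒮.deg U hU) (cst U a + cst U b) 1 : 𝒮.presheaf.obj (op U)) = _
      rw [DirectSum.decompose_add]; rfl
  obtain ⟨π, hπ⟩ := exists_hom_of_affine 𝒮.toModule 𝒮.toModule g
    (fun U hU r a => by
      show (DirectSum.decompose (𝒮.deg U hU) ((𝒮.str.app (op U)).hom r * cst U a) (0 + 1) : 𝒮.presheaf.obj (op U)) =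
        (𝒮.str.app (op U)).hom r * cst U (pr U hU a)
      rw [DirectSum.coe_decompose_mul_of_left_mem_of_le (𝒮.deg U hU) (𝒮.str_mem U hU r) (Nat.zero_le _)])
    (fun {U V} hU hV hle a =>
      GradedRingHom.map_directSumDecompose (f := 𝒮.res hU hV hle) (x := cst U a) (i := 1))
  have hq : Coh.IsQCoh 𝒮.toModule := QC.isQCoh_toModule _
  refine ⟨kernel (π - 𝟙 _), kernel.ι _, isQCoh_kernel hq hq _, fun U hU => ?_⟩
  have hev : ∀ a : Γ(𝒮.toModule, U), (π - 𝟙 𝒮.toModule).app U a = pr U hU a - a := fun a => by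
    show π.app U a - a = _
    rw [hπ U hU a]
    rfl
  refine ⟨?_, fun a => ⟨fun ha => ?_, ?_⟩⟩
  · intro m m' h
    exact app_injective (kernel.ι (π - 𝟙 𝒮.toModule)) U h
  · refine sections_exact (S := ShortComplex.mk _ _ (kernel.condition (π - 𝟙 𝒮.toModule)))
      (ShortComplex.exact_kernel _) U (show Γ(𝒮.toModule, U) from a) ?_
    show (π - 𝟙 𝒮.toModule).app U a = 0
    rw [hev, sub_eq_zero]
    exact DirectSum.decompose_of_mem_same (𝒮.deg U hU) ha
  · rintro ⟨m, rfl⟩
    have h0 : (π - 𝟙 𝒮.toModule).app U ((kernel.ι (π - 𝟙 𝒮.toModule)).app U m) = 0 :=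
      congrArg (fun t : kernel (π - 𝟙 𝒮.toModule) ⟶ 𝒮.toModule => t.app U m) (kernel.condition (π - 𝟙 𝒮.toModule))
    rw [hev, sub_eq_zero] at h0
    rw [← h0]
    exact SetLike.coe_mem _

/-- The data attached to a projective morphism. -/
theorem exists_vamp_of_isProjective {f : X ⟶ S} (h : RelProj.IsProjective f) :
    ∃ (L : X.Modules) (E : S.Modules) (φ : E ⟶ (Scheme.Modules.pushforward f).obj L),
      PicF.IsInvertible L ∧ Coh.IsQCoh E ∧ CohB1.IsFT E ∧
        ∀ U : S.Opens, IsAffineOpen U → VA (f.app U).hom (secs φ U) := by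
  classical
  obtain ⟨𝒮, P, p, chart, e, hgen, hft, hP, rfl⟩ := h
  obtain ⟨O1, lam, hL⟩ := RelProj11.exists_isRelTwist hP 1
  obtain ⟨E, j, hE, hj⟩ := exists_degOne 𝒮
  let i := e.hom
  let L := (Scheme.Modules.pullback i).obj O1
  let τ : (Scheme.Modules.pullback i).obj O1 ≅ L := Iso.refl _
  have hmem : ∀ (U : S.Opens) (hU : IsAffineOpen U) (m : Γ(E, U)), j.app U m ∈ 𝒮.deg U hU 1 :=
    fun U hU m => ((hj U hU).2 _).2 ⟨m, rfl⟩
  let g : ∀ U : S.Opens, IsAffineOpen U → Γ(E, U) →+ Γ((Scheme.Modules.pushforward (i ≫ p)).obj L, U) :=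
    fun U hU => AddMonoidHom.mk' (fun m => sig hL i τ U hU ⟨j.app U m, hmem U hU m⟩) fun m m' => by
      simp only [sig, map_add]
      rw [phi_add hL U hU (hmem U hU m) (hmem U hU m'), M2.pullSec_add, map_add]
  obtain ⟨φ, hφ⟩ := exists_hom_of_affine E _ g
    (fun U hU r m => by
      show τ.hom.app _ (M2.pullSec i O1 (phi hL U hU _ _)) =
        i.app (p ⁻¹ᵁ U) (p.app U r) • (τ.hom.app _ (M2.pullSec i O1 (phi hL U hU _ _)) : Γ(L, i ⁻¹ᵁ (p ⁻¹ᵁ U)))
      have e1 : j.app U (r • m) = (𝒮.str.app (op U)).hom r * (show 𝒮.presheaf.obj (op U) from j.app U m) :=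
        j.app_smul r m
      simp only [e1]
      rw [phi_str_mul hP hL hgen U hU r (hmem U hU m), M2.pullSec_smul, Scheme.Modules.Hom.app_smul])
    (fun {U V} hU hV hle m => by
      show mres L (i.preimage_mono (p.preimage_mono hle)) (sig hL i τ U hU _) = sig hL i τ V hV _
      rw [mres_sig hL i τ U hU _ (p.preimage_mono hle), phi_res hL hP hU hV hle]
      simp only [sig]
      congr 3
      exact (app_mres j hle m).symm)
  refine ⟨L, E, φ, Twist.isInvertible_pullback i (RelProj11.isInvertible_relTwist hgen hL), hE, ?_, fun U hU => ?_⟩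
  · refine isFT_of_finite_sections hE fun U hU => ?_
    obtain ⟨T, hT, hc⟩ := hft U hU
    choose m hm using fun t : T => ((hj U hU).2 t.1).1 (hT t.2)
    refine ⟨⟨T.attach.image m, eq_top_iff.2 fun x _ => ?_⟩⟩
    obtain ⟨c, hx⟩ := hc _ (hmem U hU x)
    have : x = ∑ t ∈ T.attach, c t.1 • m t := (hj U hU).1 (by
      rw [map_sum]
      refine hx.trans ((Finset.sum_attach T _).symm.trans (Finset.sum_congr rfl fun t _ => ?_))
      refine Eq.trans ?_ (j.app_smul (c t.1) (m t)).symm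
      exact congrArg ((𝒮.str.app (op U)).hom (c t.1) * ·) (hm t).symm)
    rw [this]
    exact Submodule.sum_mem _ fun t ht => Submodule.smul_mem _ _
      (Submodule.subset_span (Finset.mem_image_of_mem m ht))
  · refine va_congr (f := i ≫ p) (σ := fun a : 𝒮.deg U hU 1 => sig hL i τ U hU a)
      (fun a => (((hj U hU).2 a.1).1 a.2).choose) (fun a => ?_) (va_of_immersion hL i τ hgen U hU)
    show φ.app U _ = _
    rw [hφ U hU]
    show sig hL i τ U hU _ = _
    congr 1
    exact Subtype.ext (((hj U hU).2 a.1).1 a.2).choose_spec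

/-- The degree one part of the symmetric algebra of a module of finite type is of finite type. -/
theorem isFTDeg_one_of_isGrSymAlg {E : S.Modules} (hE : Coh.IsQCoh E) (hFT : CohB1.IsFT E)
    {𝒮 : RelProj.QCGrAlg S} {j : E ⟶ 𝒮.toModule} (hj : RelProj.IsGrSymAlg E 𝒮 j) : 𝒮.IsFTDeg 1 := by
  classical
  intro U hU
  haveI := finite_sections hE hFT hU
  obtain ⟨s, hs⟩ := Module.Finite.fg_top (R := Γ(S, U)) (M := Γ(E, U))
  have hb := bijective_deg_one hE hj U hU
  let jj : Γ(E, U) → 𝒮.presheaf.obj (op U) := fun m => j.app U m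
  have hinj : Function.Injective jj := fun a b h => hb.1 (Subtype.ext h)
  refine ⟨s.image jj, fun t ht => ?_, fun x hx => ?_⟩
  · obtain ⟨m, -, rfl⟩ := Finset.mem_image.1 ht
    exact hj.2 U hU m
  · obtain ⟨m, hm⟩ := hb.2 ⟨x, hx⟩
    obtain ⟨c, -, hc⟩ := Submodule.mem_span_finset.1 (hs.ge (trivial : m ∈ (⊤ : Submodule Γ(S, U) Γ(E, U))))
    refine ⟨fun t => if h : ∃ k, jj k = t then c h.choose else 0, ?_⟩
    rw [Finset.sum_image fun a _ b _ h => hinj h]
    have hx' : jj m = x := congrArg Subtype.val hm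
    rw [← hx']
    refine (congrArg jj hc.symm).trans ?_
    refine (map_sum (j.app U).hom _ _).trans (Finset.sum_congr rfl fun k _ => ?_)
    have hk : ∃ k', jj k' = jj k := ⟨k, rfl⟩
    simp only [dif_pos hk]
    rw [hinj hk.choose_spec]
    exact j.app_smul (c k) k

theorem isProjective_of_isRelProj {E : S.Modules} (hE : Coh.IsQCoh E) (hFT : CohB1.IsFT E)
    {𝒮 : RelProj.QCGrAlg S} {j : E ⟶ 𝒮.toModule} (hj : RelProj.IsGrSymAlg E 𝒮 j) {P : Scheme.{u}} {p : P ⟶ S}
    {chart : ∀ (U : S.Opens) (hU : IsAffineOpen U), ((p ⁻¹ᵁ U : P.Opens) : Scheme.{u}) ≅ Proj (𝒮.deg U hU)}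
    (hP : RelProj.IsRelProj 𝒮 p chart) : RelProj.IsProjective p :=
  ⟨𝒮, P, p, chart, Iso.refl _, isGenDegOne_of_isGrSymAlg hE hj, isFTDeg_one_of_isGrSymAlg hE hFT hj, hP,
    Category.id_comp _⟩

/-- Proper and very ample by a module of finite type: a closed immersion into a projective bundle. -/
theorem exists_closedImmersion_of_vamp {f : X ⟶ S} [IsProper f] {L : X.Modules} {E : S.Modules}
    (hE : Coh.IsQCoh E) (hFT : CohB1.IsFT E) {φ : E ⟶ (Scheme.Modules.pushforward f).obj L} (h : VAmp φ)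
    {𝒮 : RelProj.QCGrAlg S} {j : E ⟶ 𝒮.toModule} (hj : RelProj.IsGrSymAlg E 𝒮 j) {P : Scheme.{u}} {p : P ⟶ S}
    {chart : ∀ (U : S.Opens) (hU : IsAffineOpen U), ((p ⁻¹ᵁ U : P.Opens) : Scheme.{u}) ≅ Proj (𝒮.deg U hU)}
    (hP : RelProj.IsRelProj 𝒮 p chart) : ∃ i : X ⟶ P, IsClosedImmersion i ∧ i ≫ p = f := by
  obtain ⟨O1, lam, hL⟩ := RelProj11.exists_isRelTwist hP 1
  obtain ⟨i, hi, rfl, -⟩ := exists_immersion_of_vamp hE h hj hP hL
  haveI := QuotProj11.isProper_of_isRelProj hP (isGenDegOne_of_isGrSymAlg hE hj)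
    (isFTDeg_one_of_isGrSymAlg hE hFT hj)
  haveI : IsProper i := IsProper.of_comp i p
  exact ⟨i, IsClosedImmersion.of_isPreimmersion i i.isClosedMap.isClosed_range, rfl⟩

/-- Proper and very ample by a module of finite type is projective. -/
theorem isProjective_of_vamp {f : X ⟶ S} [IsProper f] {L : X.Modules} {E : S.Modules}
    (hE : Coh.IsQCoh E) (hFT : CohB1.IsFT E) {φ : E ⟶ (Scheme.Modules.pushforward f).obj L} (h : VAmp φ) :
    RelProj.IsProjective f := by
  obtain ⟨P, p, chart, hP⟩ := RelProj11.exists_isRelProj (symGr hE)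
  obtain ⟨i, hi, rfl⟩ := exists_closedImmersion_of_vamp hE hFT h (isGrSymAlg_symGr hE) hP
  exact QuotProj11.isProjective_comp_of_isClosedImmersion i
    (isProjective_of_isRelProj hE hFT (isGrSymAlg_symGr hE) hP)

theorem isRelVeryAmple_of_isProjective {f : X ⟶ S} (h : RelProj.IsProjective f) :
    ∃ L : X.Modules, PicF.IsInvertible L ∧ RelProj.IsRelVeryAmple f L := by
  obtain ⟨L, E, φ, hL, hE, -, hva⟩ := exists_vamp_of_isProjective h
  exact ⟨L, hL, isRelVeryAmple_of_vamp hE φ (vamp_of_forall hva)⟩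

/-- Cancellation for projective morphisms. -/
theorem isProjective_of_comp {Y Z : Scheme.{u}} (f : X ⟶ Y) (g : Y ⟶ Z) [IsSeparated g]
    (h : RelProj.IsProjective (f ≫ g)) : RelProj.IsProjective f := by
  haveI := QuotProj11.isProper_of_isProjective h
  haveI : IsProper f := IsProper.of_comp f g
  obtain ⟨L, E, φ, -, hE, hFT, hva⟩ := exists_vamp_of_isProjective h
  obtain ⟨φ', hφ'⟩ := exists_vamp_of_comp f g hva
  exact isProjective_of_vamp (isQCoh_pullback g hE) (isFT_pullback g hFT) hφ'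

/-- The sections of the direct image give the criterion, if any module does. -/
theorem va_id_of_va {f : X ⟶ S} {L : X.Modules} {E : S.Modules}
    {φ : E ⟶ (Scheme.Modules.pushforward f).obj L} {U : S.Opens} (h : VA (f.app U).hom (secs φ U)) :
    VA (f.app U).hom (secs (𝟙 ((Scheme.Modules.pushforward f).obj L)) U) :=
  va_congr (f := f) (σ := secs φ U) (fun m => φ.app U m) (fun _ => rfl) h

/-- The structure sheaf is very ample for an affine morphism, by the sections over the affine opens. -/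
theorem va_unit [IsAffineHom f'] : ∀ U : S.Opens, IsAffineOpen U →
    VA (f'.app U).hom (secs (𝟙 ((Scheme.Modules.pushforward f').obj (Coh.structureModule X))) U) :=
  fun U hU x hx => by
  let e : Γ((Scheme.Modules.pushforward f').obj (Coh.structureModule X), U) :=
    show Γ(X, f' ⁻¹ᵁ U) from 1
  let s := secs (𝟙 ((Scheme.Modules.pushforward f').obj (Coh.structureModule X))) U e
  have hs1 : ∀ {V : X.Opens} (hV : V ≤ f' ⁻¹ᵁ U) (c : Γ(X, V)),
      c • mres (Coh.structureModule X) hV s = (show Γ(Coh.structureModule X, V) from c) := fun hV c => by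
    show c * (X.presheaf.map (homOfLE hV).op).hom (1 : Γ(X, f' ⁻¹ᵁ U)) = c
    rw [map_one, mul_one]
  have hgl : gl s = f' ⁻¹ᵁ U := le_antisymm (gl_le s)
    (le_gl le_rfl (Twist.IsGen.mres (show Twist.IsGen (Coh.structureModule X) (f' ⁻¹ᵁ U) s from
      fun V hV => ⟨fun a b h => (hs1 hV a).symm.trans (h.trans (hs1 hV b)), fun a => ⟨a, hs1 hV a⟩⟩) le_rfl))
  refine ⟨e, 1, one_mem _, ?_, ?_, ?_⟩
  · rw [Scheme.basicOpen_of_isUnit _ isUnit_one]; exact hgl.ge hx
  · rw [Scheme.basicOpen_of_isUnit _ isUnit_one, hgl]; exact hU.preimage f'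
  · rw [eq_top_iff]
    intro t _
    have hle : f' ⁻¹ᵁ U ≤ X.basicOpen (1 : Γ(X, gl s)) := by
      rw [Scheme.basicOpen_of_isUnit _ isUnit_one]; exact hgl.ge
    let a : Γ((Scheme.Modules.pushforward f').obj (Coh.structureModule X), U) :=
      show Γ(X, f' ⁻¹ᵁ U) from ores hle t
    refine ⟨0, cf s (secs (𝟙 _) U a), cf_mem_ratSub _, ?_⟩
    rw [pow_zero, mul_one]
    have hc : cf s (secs (𝟙 _) U a) = ores (gl_le s) (ores hle t) := by
      refine (ores_eq_cf ?_).symm
      refine (hs1 _ _).trans ?_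
      rfl
    show t = ores (X.basicOpen_le _) (cf s (secs (𝟙 _) U a))
    rw [hc]
    exact (((congrArg _ (ores_ores _ _ t)).trans ((ores_ores _ _ t).trans (ores_id _ _)))).symm

end Groth.Agent.VA11
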