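import Groth.Agent.Lib.VeryAmple11.Locality
import Groth.Agent.Lib.RelAmple18.Generation
import Groth.Agent.Lib.TensorMod.Hom
import Groth.Agent.Lib.Ample18.Sections

/-!
Large powers of a relatively ample module are relatively very ample.
-/

set_option autoImplicit false

universe u

open CategoryTheory Limits AlgebraicGeometry TopologicalSpace Opposite

set_option backward.isDefEq.respectTransparency false

noncomputable section

namespace Groth.Agent.VA11

open Groth.Agent.M1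

variable {X Y : Scheme.{u}}

/-- Multiplication of sections of a module by functions, as a map out of the tensor product. -/
def actHom (M : X.Modules) : CohB1.tensorMod (Coh.structureModule X) M ⟶ M :=
  M2.mkHom
    { f := fun U a w => (show Γ(X, U) from a) • w
      add_left := fun _ _ _ _ => add_smul _ _ _
      smul_left := fun _ _ _ _ => mul_smul _ _ _
      add_right := fun _ _ _ _ => smul_add _ _ _
      smul_right := fun _ _ _ _ => smul_comm _ _ _
      compat := fun {U V} h a w => (mres_smul M h (show Γ(X, U) from a) w).symm }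

theorem actHom_tsec (M : X.Modules) {U : X.Opens} (a : Γ(Coh.structureModule X, U)) (w : Γ(M, U)) :
    (actHom M).app U (M2.tsec _ M a w) = (show Γ(X, U) from a) • w := M2.mkHom_tsec _ a w

/-- A global section as a generator on its locus. -/
theorem gl_gval {M : X.Modules} (hM : PicF.IsInvertible M) (s : Coh.structureModule X ⟶ M) :
    gl (W := ⊤) (Amp.gval s) = CohB1.genLocus M s := by
  ext y
  exact (mem_gl_iff hM (W := ⊤) trivial).trans (Amp.mem_genLocus_iff hM s).symm

theorem gl_pw {M : X.Modules} (hM : PicF.IsInvertible M) {W : X.Opens} (t : Γ(M, W)) (n : ℕ) :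
    gl (Amp.pw t (n + 1)) = gl t := by
  ext y
  refine ⟨fun h => ?_, fun h => ?_⟩
  · have hy := gl_le (Amp.pw t (n + 1)) h
    exact (mem_gl_iff hM hy).2 ((Amp.gen_pw_succ hM hy t n).1
      ((mem_gl_iff (Amp.isInvertible_tensorPow hM (n + 1)) hy).1 h))
  · have hy := gl_le t h
    exact (mem_gl_iff (Amp.isInvertible_tensorPow hM (n + 1)) hy).2
      ((Amp.gen_pw_succ hM hy t n).2 ((mem_gl_iff hM hy).1 h))

/-- An affine locus whose functions become sections after a multiplication. -/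
theorem exists_vaat_pow [IsAffine Y] (f : X ⟶ Y) [LocallyOfFiniteType f] [CompactSpace X] [QuasiSeparatedSpace X]
    {M : X.Modules} (hM : PicF.IsInvertible M) (s : Coh.structureModule X ⟶ M)
    (hA : IsAffineOpen (CohB1.genLocus M s)) :
    ∃ n₀ : ℕ, ∀ n, n₀ ≤ n → ∀ y ∈ CohB1.genLocus M s,
      VAat (f.app ⊤).hom (secs (𝟙 ((Scheme.Modules.pushforward f).obj (CohB1.tensorPow M n))) ⊤) y := by
  classical
  let G := CohB1.genLocus M s
  let φ₀ : Γ(Y, ⊤) →+* Γ(X, G) := (ores (le_top : G ≤ ⊤)).hom.comp (f.app ⊤).hom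
  have h2 : φ₀.FiniteType := f.finiteType_appLE (isAffineOpen_top _) hA le_top
  letI := φ₀.toAlgebra
  obtain ⟨T, hT⟩ := h2.out
  haveI := M2.isQCoh_of_isFinLocFree (M2.isFinLocFree_of_isInvertible (PicLoc.isInvertible_structureModule X))
  choose n₁ hn₁ using fun a : T => Amp.exists_extend_genLocus hM s (Coh.structureModule X)
    (show Γ(Coh.structureModule X, G) from a.1)
  refine ⟨Finset.univ.sup n₁ + 1, fun n hn y hy => ?_⟩
  obtain ⟨n', rfl⟩ : ∃ n', n = n' + 1 := ⟨n - 1, by omega⟩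
  choose t ht using fun a : T => hn₁ a (n' + 1) ((Finset.le_sup (Finset.mem_univ a)).trans (by omega))
  let N := CohB1.tensorPow M (n' + 1)
  let e : Γ((Scheme.Modules.pushforward f).obj N, ⊤) := Amp.pw (Amp.gval s) (n' + 1)
  let σ := secs (𝟙 ((Scheme.Modules.pushforward f).obj N)) (⊤ : Y.Opens)
  have hgl : gl (σ e) = G := (gl_pw hM (Amp.gval s) n').trans (gl_gval hM s)
  have hcf : ∀ a : T, ores hgl.ge (cf (σ e) (σ ((actHom N).app ⊤ (t a)))) = a.1 := fun a => by
    refine ores_cf_eq hgl.ge ?_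
    show _ = mres N (le_top : G ≤ ⊤) ((actHom N).app ⊤ (t a))
    rw [← app_mres]
    refine Eq.trans ?_ (congrArg ((actHom N).app G) (ht a)).symm
    rw [actHom_tsec]
    congr 1
    exact Amp.res_pw _ _ _
  have hb : X.basicOpen (1 : Γ(X, gl (σ e))) = G := by
    rw [Scheme.basicOpen_of_isUnit _ isUnit_one, hgl]
  refine ⟨e, 1, one_mem _, hb.ge hy, hb ▸ hA, ?_⟩
  let P := fracs (ores (X.basicOpen_le (1 : Γ(X, gl (σ e))))).hom (ratSub (f.app ⊤).hom σ e) 1 (one_mem _)
  have hP : ∀ c ∈ ratSub (f.app ⊤).hom σ e, ores (X.basicOpen_le (1 : Γ(X, gl (σ e)))) c ∈ P := fun c hc =>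
    ⟨0, c, hc, by rw [pow_zero, mul_one]⟩
  let P' : Subalgebra Γ(Y, ⊤) Γ(X, G) :=
    { P.comap (ores hb.le).hom with
      algebraMap_mem' := fun r => by
        show ores hb.le (ores (le_top : G ≤ ⊤) (f.app ⊤ r)) ∈ P
        convert hP _ (base_mem_ratSub (ρ := (f.app ⊤).hom) (σ := σ) (e := e) r) using 1
        simp only [ores_ores]
        rfl }
  have h5 : Algebra.adjoin Γ(Y, ⊤) (↑T : Set Γ(X, G)) ≤ P' := Algebra.adjoin_le fun a ha => by
    show ores hb.le a ∈ P
    convert hP _ (cf_mem_ratSub (ρ := (f.app ⊤).hom) (σ := σ) (e := e) ((actHom N).app ⊤ (t ⟨a, ha⟩))) using 1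
    exact (congrArg (ores hb.le) (hcf ⟨a, ha⟩).symm).trans (ores_ores _ _ _)
  rw [eq_top_iff]
  intro c _
  have h6 : ores hb.le (ores hb.ge c) ∈ P := h5 (by rw [hT]; exact Algebra.mem_top)
  rwa [ores_ores, ores_id] at h6

/-- Over an affine base: one large power separates. -/
theorem exists_vamp_pow [IsAffine Y] (f : X ⟶ Y) [LocallyOfFiniteType f] [QuasiCompact f] {L : X.Modules}
    (h : CohB1.IsAmple L) : ∃ m : ℕ, 0 < m ∧ RelProj.IsRelVeryAmple f (CohB1.tensorPow L m) := by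
  classical
  haveI : QuasiSeparatedSpace X := Amp.quasiSeparatedSpace_of_isAmple h
  obtain ⟨hL, hX, hcov⟩ := Amp.isAmple_iff.1 h
  haveI := hX
  choose k H hH hxH hA using hcov
  obtain ⟨T, hT⟩ := isCompact_univ.elim_finite_subcover (fun x => (H x : Set X)) (fun x => (H x).isOpen)
    fun x _ => Set.mem_iUnion.2 ⟨x, hxH x⟩
  let N := ∏ x ∈ T, (k x + 1)
  have hN : 0 < N := Finset.prod_pos fun y _ => Nat.succ_pos _
  have hH' : ∀ x : T, Amp.HasSec L N (H x) := fun x => by
    obtain ⟨c, hc⟩ := Finset.dvd_prod_of_mem (fun y => k y + 1) x.2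
    have hN' := hN
    rw [show N = (k x + 1) * c from hc] at hN' ⊢
    obtain ⟨c', rfl⟩ := Nat.exists_eq_succ_of_ne_zero (n := c) (fun h0 => by simp [h0] at hN')
    exact (hH x).powPow hL c'
  choose s hs using hH'
  have hM : PicF.IsInvertible (CohB1.tensorPow L N) := Amp.isInvertible_tensorPow hL N
  choose n₀ hn₀ using fun x : T => exists_vaat_pow f hM (s x) ((hs x).symm ▸ hA x)
  let n := Finset.univ.sup n₀ + 1
  refine ⟨N * n, Nat.mul_pos hN (Nat.succ_pos _), ?_⟩
  have hva : VAmp (𝟙 ((Scheme.Modules.pushforward f).obj (CohB1.tensorPow (CohB1.tensorPow L N) n))) := fun y => by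
    obtain ⟨x, hx, hyx⟩ := Set.mem_iUnion₂.1 (hT (Set.mem_univ y))
    exact ⟨⊤, isAffineOpen_top Y, hn₀ ⟨x, hx⟩ n ((Finset.le_sup (Finset.mem_univ _)).trans (Nat.le_succ _)) y
      ((hs ⟨x, hx⟩).symm ▸ hyx)⟩
  haveI : IsSeparated f := RA.isSeparated_of_isRelAmple f ((RA.isRelAmple_iff_isAmple f).2 h)
  exact isRelVeryAmple_of_iso (M2.tensorPowPow L N n)
    (isRelVeryAmple_of_vamp
      (isQCoh_push f (Twist.isQCoh_of_isInvertible (Amp.isInvertible_tensorPow hM n))) _ hva)

/-- Generated by global sections gives generating sections. -/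
theorem gens_of_genLocus (f : X ⟶ Y) {M : X.Modules} (hM : PicF.IsInvertible M)
    (h : ∀ x, ∃ t : Coh.structureModule X ⟶ M, x ∈ CohB1.genLocus M t) :
    Gens (𝟙 ((Scheme.Modules.pushforward f).obj M)) := fun x => by
  obtain ⟨t, ht⟩ := h x
  refine ⟨⊤, ?_⟩
  have m : Γ(M, ⊤) := Amp.gval t
  exact ⟨_, (gl_gval hM t).ge ht⟩

/-- Over an affine base: all large powers, twisted by any invertible module, are very ample. -/
theorem exists_forall_isRelVeryAmple [IsAffine Y] (f : X ⟶ Y) [LocallyOfFiniteType f] [QuasiCompact f]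
    {L L' : X.Modules} (h : CohB1.IsAmple L) (hL' : PicF.IsInvertible L') :
    ∃ n₀ : ℕ, ∀ n, n₀ ≤ n → RelProj.IsRelVeryAmple f (CohB1.tensorMod (CohB1.tensorPow L n) L') := by
  have hL := h.1
  haveI := h.2.1
  obtain ⟨m, -, hm⟩ := exists_vamp_pow f h
  obtain ⟨N₀, hN⟩ := RA.exists_gen_all h hL'
  haveI : IsSeparated f := RA.isSeparated_of_isRelAmple f ((RA.isRelAmple_iff_isAmple f).2 h)
  refine ⟨m + N₀, fun n hn => ?_⟩
  have hT : PicF.IsInvertible (CohB1.tensorMod L' (CohB1.tensorPow L (n - m))) :=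
    M2.isInvertible_tensor hL' (Amp.isInvertible_tensorPow hL _)
  refine isRelVeryAmple_of_iso ?_ (isRelVeryAmple_tensor (Amp.isInvertible_tensorPow hL m) hT hm
    (isQCoh_push f (Twist.isQCoh_of_isInvertible hT)) _ (gens_of_genLocus f hT (hN (n - m) (by omega))))
  exact M2.tensorIso (Iso.refl _) (M2.tensorComm _ _) ≪≫ (M2.tensorAssoc _ _ _).symm ≪≫
    M2.tensorIso ((M2.tensorPowAdd L m (n - m)).symm ≪≫ eqToIso (by rw [show m + (n - m) = n by omega]))
      (Iso.refl L')

/-- Over a quasi-compact base, all large powers of a relatively ample module, twisted, are very ample. -/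
theorem eventually_tensor_isRelVeryAmple [CompactSpace Y] (f : X ⟶ Y) [QuasiCompact f] [LocallyOfFiniteType f]
    {L L' : X.Modules} (hL' : PicF.IsInvertible L') (h : RelAmple.IsRelAmple f L) :
    ∃ n₀ : ℕ, ∀ n, n₀ ≤ n → RelProj.IsRelVeryAmple f (CohB1.tensorMod (CohB1.tensorPow L n) L') := by
  classical
  have hL := RA.isInvertible_of_isRelAmple f h
  obtain ⟨T, hT⟩ := isCompact_univ.elim_finite_subcover (fun U : Y.affineOpens => (U.1 : Set Y))
    (fun U => U.1.isOpen) fun y _ => by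
      obtain ⟨U, hU, hy, -⟩ := exists_isAffineOpen_mem_and_subset (show y ∈ (⊤ : Y.Opens) from trivial)
      exact Set.mem_iUnion.2 ⟨⟨U, hU⟩, hy⟩
  have key : ∀ U : T, ∃ n₀ : ℕ, ∀ n, n₀ ≤ n → RelProj.IsRelVeryAmple (f ∣_ U.1.1)
      ((CohB1.tensorMod (CohB1.tensorPow L n) L').restrict (f ⁻¹ᵁ U.1.1).ι) := fun U => by
    haveI : IsAffine (U.1.1 : Scheme.{u}) := U.1.2
    obtain ⟨n₀, hn⟩ := exists_forall_isRelVeryAmple (f ∣_ U.1.1) ((RA.isRelAmple_def f).1 h U.1.1 U.1.2)
      (M2.isInvertible_restrict hL' (f ⁻¹ᵁ U.1.1).ι)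
    exact ⟨n₀, fun n h1 => isRelVeryAmple_of_iso
      (M2.tensorIso (M2.restrictTensorPowIso _ L n).symm (Iso.refl _) ≪≫ (M2.restrictTensorIso _ _ _).symm)
      (hn n h1)⟩
  choose n₀ hn using key
  refine ⟨Finset.univ.sup n₀, fun n h1 => isRelVeryAmple_of_cover
    (M2.isInvertible_tensor (Amp.isInvertible_tensorPow hL n) hL') (fun U : T => U.1.1) ?_
    fun U => hn U n ((Finset.le_sup (Finset.mem_univ U)).trans h1)⟩
  refine top_le_iff.1 fun y _ => ?_
  obtain ⟨U, hU, hy⟩ := Set.mem_iUnion₂.1 (hT (Set.mem_univ y))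
  exact Opens.mem_iSup.2 ⟨⟨U, hU⟩, hy⟩

/-- Over a quasi-compact base, all large powers of a relatively ample module are very ample. -/
theorem eventually_isRelVeryAmple [CompactSpace Y] (f : X ⟶ Y) [QuasiCompact f] [LocallyOfFiniteType f]
    {L : X.Modules} (h : RelAmple.IsRelAmple f L) :
    ∃ n₀ : ℕ, 0 < n₀ ∧ ∀ n, n₀ ≤ n → RelProj.IsRelVeryAmple f (CohB1.tensorPow L n) := by
  obtain ⟨n₀, hn⟩ := eventually_tensor_isRelVeryAmple f (PicLoc.isInvertible_structureModule X) h
  exact ⟨n₀ + 1, Nat.succ_pos _, fun n h1 => isRelVeryAmple_of_iso (M2.tensorRUnit _) (hn n (by omega))⟩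

end Groth.Agent.VA11
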