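import Groth.Agent.Lib.VeryAmple11.Locality
import Groth.Agent.Lib.ModM1.Extend

/-!
The module of sections can be taken of finite type.
-/

set_option autoImplicit false

universe u

open CategoryTheory Limits AlgebraicGeometry TopologicalSpace Opposite

set_option backward.isDefEq.respectTransparency false

noncomputable section

namespace Groth.Agent.VA11

open Groth.Agent.M1

section ft_sub

variable {X : Scheme.{u}}

/-- A sum of two quasi-coherent modules of finite type is of finite type. -/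
theorem isFT_biprod {M N : X.Modules} (hM : Coh.IsQCoh M) (hM' : CohB1.IsFT M) (hN : Coh.IsQCoh N)
    (hN' : CohB1.IsFT N) : CohB1.IsFT (M ⊞ N) := by
  refine M1.isFT_of_finite_sections (M1.isQCoh_biprod hM hN) fun U hU => ?_
  have := M1.finite_sections hM hM' hU
  have := M1.finite_sections hN hN' hU
  let g : Γ(M, U) × Γ(N, U) →ₗ[Γ(X, U)] Γ(M ⊞ N, U) :=
    { toFun := fun s => (biprod.inl : M ⟶ M ⊞ N).app U s.1 + (biprod.inr : N ⟶ M ⊞ N).app U s.2
      map_add' := fun a b => by simp only [Prod.fst_add, Prod.snd_add, map_add]; abel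
      map_smul' := fun r a => by
        simp only [Prod.smul_fst, Prod.smul_snd, Scheme.Modules.Hom.app_smul, RingHom.id_apply, smul_add] }
  refine Module.Finite.of_surjective g fun s => ⟨((biprod.fst : M ⊞ N ⟶ M).app U s, (biprod.snd : M ⊞ N ⟶ N).app U s), ?_⟩
  exact congrArg (fun φ : M ⊞ N ⟶ M ⊞ N => φ.app U s) biprod.total

/-- Sections over quasi-compact opens lie in a submodule of finite type. -/
theorem exists_ft_sub_mem [CompactSpace X] [QuasiSeparatedSpace X] {I : X.Modules} (hI : Coh.IsQCoh I)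
    {κ : Type u} [Finite κ] (W : κ → X.Opens) (hW : ∀ k, IsCompact (W k : Set X))
    (a : ∀ k, Γ(I, W k)) : ∃ q : M1.Sub I, Coh.IsQCoh q.P ∧ CohB1.IsFT q.P ∧
      ∀ k, q.mem (W k) (a k) := by
  classical
  have h1 : ∀ k, ∃ q : M1.Sub I, Coh.IsQCoh q.P ∧ CohB1.IsFT q.P ∧ q.mem (W k) (a k) := by
    intro k
    let a' : Γ(I.restrict (W k).ι, ⊤) := M1.mres I (M1.image_ι_top (W k)).le (a k)
    let g : (M1.fr PUnit.{u + 1} : ((W k : X.Opens) : Scheme.{u}).Modules) ⟶ I.restrict (W k).ι :=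
      M1.freeHom fun _ => a'
    let H := M1.Sub.im g
    have hHq : Coh.IsQCoh H.P := M1.Sub.isQCoh_im g (M1.isQCoh_fr _ _) (M1.isQCoh_restrict hI _)
    have hHf : CohB1.IsFT H.P := M1.Sub.isFT_im g (M1.isFT_fr _ _)
    let p := M1.Sub.ext (W k).ι H
    have hp : M1.Sub.FTOn p (W k) := by
      obtain ⟨e, -⟩ := M1.Sub.exists_iso (p.res (W k).ι) H (M1.Sub.mem_res_ext (W k).ι H)
      exact ⟨M1.isQCoh_of_isIso e.symm hHq, M1.isFT_of_isIso e.symm hHf⟩
    obtain ⟨q, hq1, hq2, hag⟩ := M1.Sub.exists_extend_qcqs hI p (W k) (hW k) hp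
    refine ⟨q, hq1, hq2, (hag _ le_rfl _).1 ((p.mem_congr (M1.image_ι_top (W k)).symm (a k)).1 ?_)⟩
    refine (M1.Sub.mem_res (W k).ι p ⊤ a').1 ((M1.Sub.mem_res_ext (W k).ι H ⊤ a').2 ?_)
    have e : g.app ⊤ ((M1.ιF (X := ((W k : X.Opens) : Scheme.{u})) PUnit.unit).app ⊤ (M1.one ⊤)) = a' := by
      rw [← M1.comp_app_apply, M1.ιF_freeHom, M1.secHom_app_one]
    exact e ▸ M1.Sub.im_mem_app g ⊤ _
  choose q hq1 hq2 hq3 using h1
  suffices ∀ l : List κ, ∃ r : M1.Sub I, Coh.IsQCoh r.P ∧ CohB1.IsFT r.P ∧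
      ∀ k ∈ l, r.mem (W k) (a k) by
    have hl := this
    have := Fintype.ofFinite κ
    obtain ⟨r, h1, h2, h3⟩ := hl Finset.univ.toList
    exact ⟨r, h1, h2, fun k => h3 k (by simp)⟩
  intro l
  induction l with
  | nil =>
    let z : (M1.fr PEmpty.{u + 1} : X.Modules) ⟶ I := M1.freeHom fun i => i.elim
    exact ⟨M1.Sub.im z, M1.Sub.isQCoh_im z (M1.isQCoh_fr _ _) hI, M1.Sub.isFT_im z (M1.isFT_fr _ _),
      by simp⟩
  | cons k l ih =>
    obtain ⟨r, hr1, hr2, hr3⟩ := ih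
    let φ : (q k).P ⊞ r.P ⟶ I := biprod.desc (q k).i r.i
    refine ⟨M1.Sub.im φ, M1.Sub.isQCoh_im φ (M1.isQCoh_biprod (hq1 k) hr1) hI,
      M1.Sub.isFT_im φ (isFT_biprod (hq1 k) (hq2 k) hr1 hr2), fun k' hk' => ?_⟩
    rcases List.mem_cons.1 hk' with rfl | hk'
    · obtain ⟨b, hb⟩ := hq3 k'
      rw [← hb, ← show biprod.inl ≫ φ = (q k').i from biprod.inl_desc _ _, M1.comp_app_apply]
      exact M1.Sub.im_mem_app φ _ _
    · obtain ⟨b, hb⟩ := hr3 k' hk'
      rw [← hb, ← show biprod.inr ≫ φ = r.i from biprod.inr_desc _ _, M1.comp_app_apply]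
      exact M1.Sub.im_mem_app φ _ _

end ft_sub

variable {S X : Scheme.{u}}

/-- The ring of ratios of finitely many of the sections. -/
def ratFin {R : Type u} [CommRing R] {κ : Type u} {L : X.Modules} {W : X.Opens} (ρ : R →+* Γ(X, W))
    (σ : κ → Γ(L, W)) (e : κ) (T : Finset κ) : Subring Γ(X, gl (σ e)) :=
  Subring.closure (Set.range ((ores (gl_le (σ e))).hom.comp ρ) ∪ (fun k => cf (σ e) (σ k)) '' (T : Set κ))

theorem exists_finset_mem {R : Type u} [CommRing R] {κ : Type u} {L : X.Modules} {W : X.Opens}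
    {ρ : R →+* Γ(X, W)} {σ : κ → Γ(L, W)} {e : κ} {a : Γ(X, gl (σ e))} (ha : a ∈ ratSub ρ σ e) :
    ∃ T : Finset κ, a ∈ ratFin ρ σ e T := by
  classical
  have hm : ∀ {T T' : Finset κ}, T ⊆ T' → ratFin ρ σ e T ≤ ratFin ρ σ e T' := fun h =>
    Subring.closure_mono (Set.union_subset_union_right _ (Set.image_mono (Finset.coe_subset.2 h)))
  induction ha using Subring.closure_induction with
  | mem x hx =>
    rcases hx with hx | ⟨k, rfl⟩
    · exact ⟨∅, Subring.subset_closure (Or.inl hx)⟩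
    · exact ⟨{k}, Subring.subset_closure (Or.inr ⟨k, Finset.mem_singleton_self k, rfl⟩)⟩
  | zero => exact ⟨∅, zero_mem _⟩
  | one => exact ⟨∅, one_mem _⟩
  | add x y _ _ hx hy =>
    obtain ⟨T, hT⟩ := hx
    obtain ⟨T', hT'⟩ := hy
    exact ⟨T ∪ T', add_mem (hm Finset.subset_union_left hT) (hm Finset.subset_union_right hT')⟩
  | neg x _ hx =>
    obtain ⟨T, hT⟩ := hx
    exact ⟨T, neg_mem hT⟩
  | mul x y _ _ hx hy =>
    obtain ⟨T, hT⟩ := hx
    obtain ⟨T', hT'⟩ := hy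
    exact ⟨T ∪ T', mul_mem (hm Finset.subset_union_left hT) (hm Finset.subset_union_right hT')⟩

/-- Near a point finitely many sections suffice. -/
theorem exists_finset_vaat_self {f : X ⟶ S} [LocallyOfFiniteType f] {L : X.Modules} {E : S.Modules}
    {φ : E ⟶ (Scheme.Modules.pushforward f).obj L} {U : S.Opens} (hU : IsAffineOpen U) {x : X}
    (h : VAat (f.app U).hom (secs φ U) x) :
    ∃ (T : Finset Γ(E, U)) (O : X.Opens), x ∈ O ∧
      ∀ y ∈ O, VAat (f.app U).hom (fun m : T => secs φ U m.1) y := by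
  classical
  obtain ⟨e, b, hb, hxb, hA, hfr⟩ := h
  let σ := secs φ U
  let D := X.basicOpen b
  have hDU : D ≤ f ⁻¹ᵁ U := (X.basicOpen_le b).trans (gl_le (σ e))
  letI := (f.appLE U D hDU).hom.toAlgebra
  obtain ⟨G, hG⟩ := (show (f.appLE U D hDU).hom.FiniteType from f.finiteType_appLE hU hA hDU).out
  have hG' : ∀ t : G, ∃ (k : ℕ) (a : Γ(X, gl (σ e))), a ∈ ratSub (f.app U).hom σ e ∧
      t.1 * ores (X.basicOpen_le b) b ^ k = ores (X.basicOpen_le b) a := fun t => by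
    obtain ⟨k, a, ha, hk⟩ : t.1 ∈ fracs (ores (X.basicOpen_le b)).hom (ratSub (f.app U).hom σ e) b hb :=
      hfr ▸ Subring.mem_top _
    exact ⟨k, a, ha, hk⟩
  choose k a ha hk using hG'
  choose Ta hTa using fun t : G => exists_finset_mem (ha t)
  obtain ⟨Tb, hTb⟩ := exists_finset_mem hb
  let T : Finset Γ(E, U) := insert e (Tb ∪ Finset.univ.biUnion Ta)
  refine ⟨T, D, hxb, fun y hy => ?_⟩
  let e₀ : T := ⟨e, Finset.mem_insert_self _ _⟩
  let σT : T → Γ(L, f ⁻¹ᵁ U) := fun m => σ m.1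
  have hle : ∀ T' : Finset Γ(E, U), T' ⊆ T → ratFin (f.app U).hom σ e T' ≤ ratSub (f.app U).hom σT e₀ := fun T' hT' => by
    rw [ratFin, Subring.closure_le]
    rintro _ (⟨r, rfl⟩ | ⟨m, hm, rfl⟩)
    · exact base_mem_ratSub (σ := σT) (e := e₀) r
    · exact cf_mem_ratSub (σ := σT) (e := e₀) ⟨m, hT' hm⟩
  have hb' : b ∈ ratSub (f.app U).hom σT e₀ :=
    hle Tb (Finset.subset_union_left.trans (Finset.subset_insert _ _)) hTb
  show VAat (f.app U).hom σT y
  refine ⟨e₀, b, hb', hy, hA, ?_⟩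
  let P := fracs (ores (X.basicOpen_le b)).hom (ratSub (f.app U).hom σT e₀) b hb'
  let P' : Subalgebra Γ(S, U) Γ(X, D) :=
    { P with
      algebraMap_mem' := fun r => ⟨0, _, base_mem_ratSub (ρ := (f.app U).hom) (σ := σT) (e := e₀) r, by
        rw [pow_zero, mul_one]
        show ores hDU (f.app U r) = ores _ (ores _ (f.app U r))
        rw [ores_ores]⟩ }
  have h5 : Algebra.adjoin Γ(S, U) (↑G : Set Γ(X, D)) ≤ P' := Algebra.adjoin_le fun t ht =>
    ⟨k ⟨t, ht⟩, a ⟨t, ht⟩, hle (Ta ⟨t, ht⟩) ((Finset.subset_biUnion_of_mem Ta (Finset.mem_univ _)).trans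
      (Finset.subset_union_right.trans (Finset.subset_insert _ _))) (hTa ⟨t, ht⟩), hk ⟨t, ht⟩⟩
  exact eq_top_iff.2 fun c _ => h5 (by rw [hG]; exact Algebra.mem_top)

/-- Near a point the sections of any module containing finitely many given ones suffice. -/
theorem exists_finset_vaat {f : X ⟶ S} [LocallyOfFiniteType f] {L : X.Modules} {E : S.Modules}
    {φ : E ⟶ (Scheme.Modules.pushforward f).obj L} {U : S.Opens} (hU : IsAffineOpen U) {x : X}
    (h : VAat (f.app U).hom (secs φ U) x) :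
    ∃ (T : Finset Γ(E, U)) (O : X.Opens), x ∈ O ∧ ∀ {E' : S.Modules} (g : E' ⟶ E),
      (∀ m ∈ T, ∃ m', g.app U m' = m) → ∀ y ∈ O, VAat (f.app U).hom (secs (g ≫ φ) U) y := by
  classical
  obtain ⟨T, O, hxO, hO⟩ := exists_finset_vaat_self hU h
  refine ⟨T, O, hxO, fun {E'} g hg y hy => ?_⟩
  let σT : T → Γ(L, f ⁻¹ᵁ U) := fun m => secs φ U m.1
  have hva : VAat (f.app U).hom σT y := hO y hy
  choose pre hpre using fun m : T => hg m.1 m.2
  have hs : ∀ m : T, secs (g ≫ φ) U (pre m) = σT m := fun m => congrArg (φ.app U) (hpre m)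
  refine hva.mono fun m hm => ⟨pre m, (gl_congr (hs m)).le, (gl_congr (hs m)).ge hm, fun r => ?_, fun j => ?_⟩
  · rw [ores_ores]
    exact base_mem_ratSub r
  · rw [cf_ores_congr (hs m) (hs j)]
    exact cf_mem_ratSub _

/-- Over a quasi-compact quasi-separated base the module of sections can be taken of finite type. -/
theorem exists_ft_sub_vamp [CompactSpace S] [QuasiSeparatedSpace S] {f : X ⟶ S} [QuasiCompact f]
    [LocallyOfFiniteType f] {L : X.Modules} {E : S.Modules} (hE : Coh.IsQCoh E)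
    {φ : E ⟶ (Scheme.Modules.pushforward f).obj L} (h : VAmp φ) :
    ∃ (E' : S.Modules) (g : E' ⟶ E), Mono g ∧ Coh.IsQCoh E' ∧ CohB1.IsFT E' ∧ VAmp (g ≫ φ) := by
  classical
  haveI : CompactSpace X := QuasiCompact.compactSpace_of_compactSpace f
  choose U hU hva using h
  choose T O hxO hO using fun x => exists_finset_vaat (hU x) (hva x)
  obtain ⟨s, hs⟩ := isCompact_univ.elim_finite_subcover (fun x => (O x : Set X)) (fun x => (O x).isOpen)
    fun x _ => Set.mem_iUnion.2 ⟨x, hxO x⟩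
  obtain ⟨q, hq, hqf, hmem⟩ := exists_ft_sub_mem hE (κ := Σ x : s, T x.1)
    (fun k => U k.1.1) (fun k => (hU k.1.1).isCompact) (fun k => k.2.1)
  refine ⟨q.P, q.i, inferInstance, hq, hqf, fun y => ?_⟩
  obtain ⟨x, hx, hy⟩ := Set.mem_iUnion₂.1 (hs (Set.mem_univ y))
  exact ⟨U x, hU x, hO x q.i (fun m hm => hmem ⟨⟨x, hx⟩, m, hm⟩) y hy⟩

theorem exists_ft_vamp [CompactSpace S] [QuasiSeparatedSpace S] {f : X ⟶ S} [QuasiCompact f]
    [LocallyOfFiniteType f] {L : X.Modules} (h : RelProj.IsRelVeryAmple f L) :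
    ∃ (E : S.Modules) (φ : E ⟶ (Scheme.Modules.pushforward f).obj L),
      Coh.IsQCoh E ∧ CohB1.IsFT E ∧ VAmp φ := by
  obtain ⟨E, φ, hE, hva⟩ := exists_va_of_isRelVeryAmple h
  obtain ⟨E', g, -, hE', hft, hva'⟩ := exists_ft_sub_vamp hE (vamp_of_forall hva)
  exact ⟨E', g ≫ φ, hE', hft, hva'⟩

/-- Proper with a relatively ample module over a quasi-compact quasi-separated base is projective. -/
theorem isProjective_of_isProper_of_isRelVeryAmple [CompactSpace S] [QuasiSeparatedSpace S] {f : X ⟶ S}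
    [IsProper f] {L : X.Modules} (h : RelProj.IsRelVeryAmple f L) : RelProj.IsProjective f := by
  obtain ⟨E, φ, hE, hft, hva⟩ := exists_ft_vamp h
  exact isProjective_of_vamp hE hft hva

end Groth.Agent.VA11
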