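import Groth.Agent.Lib.VeryAmple11.Ops
import Mathlib.AlgebraicGeometry.Morphisms.Flat

/-!
Base change of the criterion for very ampleness.
-/

set_option autoImplicit false

universe u

open CategoryTheory Limits AlgebraicGeometry TopologicalSpace Opposite

set_option backward.isDefEq.respectTransparency false

noncomputable section

namespace Groth.Agent.VA11

open Groth.Agent.M1

theorem ores_app {X Y : Scheme.{u}} (f : X ⟶ Y) {U : Y.Opens} {W : X.Opens} (h : W ≤ f ⁻¹ᵁ U) (r : Γ(Y, U)) :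
    ores h (f.app U r) = f.appLE U W h r := rfl

theorem appLE_appLE {X Y Z : Scheme.{u}} (f : X ⟶ Y) (g : Y ⟶ Z) {U : Z.Opens} {V : Y.Opens} {W : X.Opens}
    (h1 : V ≤ g ⁻¹ᵁ U) (h2 : W ≤ f ⁻¹ᵁ V) (r : Γ(Z, U)) :
    f.appLE V W h2 (g.appLE U V h1 r) =
      (f ≫ g).appLE U W (h2.trans (f.preimage_mono h1)) r := by
  rw [← Scheme.Hom.appLE_comp_appLE f g U V W h1 h2]; rfl

theorem appLE_congr_hom {X Y : Scheme.{u}} {f f' : X ⟶ Y} (e : f = f') {U : Y.Opens} {W : X.Opens}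
    (h : W ≤ f ⁻¹ᵁ U) (h' : W ≤ f' ⁻¹ᵁ U) (r : Γ(Y, U)) : f.appLE U W h r = f'.appLE U W h' r := by
  subst e; rfl

/-- A subring containing the images of both factors of a pushout is everything. -/
theorem subring_eq_top_of_isPushout {A B C D : CommRingCat.{u}} {a : A ⟶ B} {c : A ⟶ C} {p : B ⟶ D} {q : C ⟶ D}
    (h : IsPushout a c p q) (P : Subring D) (hp : ∀ x, p x ∈ P) (hq : ∀ x, q x ∈ P) : P = ⊤ := by
  refine eq_top_iff.2 fun t _ => ?_
  let p' : B ⟶ CommRingCat.of P := CommRingCat.ofHom (p.hom.codRestrict P hp)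
  let q' : C ⟶ CommRingCat.of P := CommRingCat.ofHom (q.hom.codRestrict P hq)
  have hw : a ≫ p' = c ≫ q' := CommRingCat.hom_ext (RingHom.ext fun x =>
    Subtype.ext (congrArg (fun φ : A ⟶ D => φ x) h.w))
  have he : h.desc p' q' hw ≫ CommRingCat.ofHom P.subtype = 𝟙 D := by
    apply h.hom_ext
    · rw [← Category.assoc, h.inl_desc, Category.comp_id]; rfl
    · rw [← Category.assoc, h.inr_desc, Category.comp_id]; rfl
  have h1 : ((h.desc p' q' hw t : CommRingCat.of P) : D) = t := congrArg (fun φ : D ⟶ D => φ t) he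
  exact h1 ▸ (h.desc p' q' hw t).2

variable {X Y X' Y' : Scheme.{u}} {f : X ⟶ Y} {g : Y' ⟶ Y} {g' : X' ⟶ X} {f' : X' ⟶ Y'}

/-- The criterion is stable under base change. -/
theorem exists_vamp_of_isPullback (hsq : IsPullback g' f' f g) {L : X.Modules} (hL : PicF.IsInvertible L)
    {E : Y.Modules} {φ : E ⟶ (Scheme.Modules.pushforward f).obj L}
    (hva : ∀ U : Y.Opens, IsAffineOpen U → VA (f.app U).hom (secs φ U)) :
    ∃ φ' : (Scheme.Modules.pullback g).obj E ⟶
      (Scheme.Modules.pushforward f').obj ((Scheme.Modules.pullback g').obj L), VAmp φ' := by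
  let L' := (Scheme.Modules.pullback g').obj L
  have hw : ∀ U : Y.Opens, f' ⁻¹ᵁ (g ⁻¹ᵁ U) ≤ g' ⁻¹ᵁ (f ⁻¹ᵁ U) := fun U => by
    rw [← Scheme.Hom.comp_preimage, ← Scheme.Hom.comp_preimage, hsq.w]
  let π : ∀ U : Y.Opens, IsAffineOpen U → Γ(E, U) →+
      Γ((Scheme.Modules.pushforward g).obj ((Scheme.Modules.pushforward f').obj L'), U) := fun U _ =>
    AddMonoidHom.mk' (fun m => mres L' (hw U) (M2.pullSec g' L (secs φ U m))) fun a b => by
      simp only [secs, map_add]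
  obtain ⟨ψ, hψ⟩ := exists_hom_of_affine E _ π
    (fun U hU r m => by
      show mres L' (hw U) (M2.pullSec g' L (secs φ U (r • m))) =
        f'.app (g ⁻¹ᵁ U) (g.app U r) • mres L' (hw U) (M2.pullSec g' L (secs φ U m))
      rw [secs_smul, M2.pullSec_smul, mres_smul]
      congr 1
      rw [ores_app, Scheme.Hom.app_eq_appLE, appLE_appLE, Scheme.Hom.app_eq_appLE f', Scheme.Hom.app_eq_appLE g,
        appLE_appLE]
      exact appLE_congr_hom hsq.w _ _ r)
    (fun {U V} hU hV hle m => by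
      show mres L' (f'.preimage_mono (g.preimage_mono hle)) (mres L' (hw U) (M2.pullSec g' L (secs φ U m))) =
        mres L' (hw V) (M2.pullSec g' L (secs φ V (mres E hle m)))
      rw [← secs_res φ hle, ← mres_pullSec g' (f.preimage_mono hle), mres_mres, mres_mres])
  let φ' := ((Scheme.Modules.pullbackPushforwardAdjunction g).homEquiv E _).symm ψ
  refine ⟨φ', fun x' => ?_⟩
  obtain ⟨U, hU, hxU, -⟩ :=
    exists_isAffineOpen_mem_and_subset (show f (g' x') ∈ (⊤ : Y.Opens) from trivial)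
  have hxU' : g (f' x') ∈ U := by
    rw [← Scheme.Hom.comp_apply, ← hsq.w, Scheme.Hom.comp_apply]; exact hxU
  obtain ⟨V, hV, hxV, hVU⟩ := exists_isAffineOpen_mem_and_subset (show f' x' ∈ g ⁻¹ᵁ U from hxU')
  obtain ⟨m, b, hb, hxb, hA, hfr⟩ := hva U hU (g' x') hxU
  let rs : Γ(E, U) → Γ((Scheme.Modules.pullback g).obj E, V) := fun m => mres _ hVU (M2.pullSec g E m)
  have hle : f' ⁻¹ᵁ V ≤ g' ⁻¹ᵁ (f ⁻¹ᵁ U) := (f'.preimage_mono hVU).trans (hw U)
  have hs : ∀ k, secs φ' V (rs k) = mres L' hle (M2.pullSec g' L (secs φ U k)) := fun k => by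
    have h0 := congrArg (fun q => q.app U k)
      (((Scheme.Modules.pullbackPushforwardAdjunction g).homEquiv E _).apply_symm_apply ψ)
    rw [Adjunction.homEquiv_unit] at h0
    show φ'.app V (mres _ hVU (M2.pullSec g E k)) = _
    rw [app_mres]
    refine (congrArg (mres L' (f'.preimage_mono hVU)) (h0.trans (hψ U hU k))).trans ?_
    exact mres_mres _ _ _ _
  let s := secs φ U m
  let s' := secs φ' V (rs m)
  have hgl : gl s' = g' ⁻¹ᵁ gl s ⊓ f' ⁻¹ᵁ V := by rw [gl_congr (hs m), gl_mres, gl_pullSec g' hL]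
  have hs'le : gl s' ≤ g' ⁻¹ᵁ gl s := hgl.le.trans inf_le_left
  let R' := ratSub (f'.app V).hom (secs φ' V) (rs m)
  let γ : Γ(X, gl s) →+* Γ(X', gl s') := (g'.appLE (gl s) (gl s') hs'le).hom
  have hγ : ∀ a ∈ ratSub (f.app U).hom (secs φ U) m, γ a ∈ R' := fun a ha => by
    refine map_ratSub_le γ R' (fun r => ?_) (fun k => ?_) ha
    · have h0 := base_mem_ratSub (ρ := (f'.app V).hom) (σ := secs φ' V) (e := rs m) (g.appLE U V hVU r)
      convert h0 using 1
      show g'.appLE (gl s) (gl s') hs'le (ores (gl_le s) (f.app U r)) = ores _ (f'.app V (g.appLE U V hVU r))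
      rw [ores_app, appLE_appLE, ores_app, appLE_appLE]
      exact appLE_congr_hom hsq.w _ _ r
    · have h0 := cf_mem_ratSub (ρ := (f'.app V).hom) (σ := secs φ' V) (e := rs m) (rs k)
      convert h0 using 1
      have h1 : gl s' ≤ gl (M2.pullSec g' L s) := hs'le.trans (gl_pullSec g' hL s).ge
      refine Eq.trans ?_ (cf_of_mres (hs m) (hs k) h1)
      rw [cf_pullSec g' hL, ores_ores]
      rfl
  let b' := γ b
  have hb' : b' ∈ R' := hγ b hb
  have hD : X'.basicOpen b' = g' ⁻¹ᵁ X.basicOpen b ⊓ f' ⁻¹ᵁ V := by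
    show X'.basicOpen (g'.appLE (gl s) (gl s') hs'le b) = _
    rw [Scheme.basicOpen_appLE, hgl, inf_right_comm]
    congr 1
    exact inf_eq_right.2 (g'.preimage_mono (X.basicOpen_le b))
  have hbU : X.basicOpen b ≤ f ⁻¹ᵁ U := (X.basicOpen_le b).trans (gl_le s)
  have hpo : IsPushout (f.appLE U (X.basicOpen b) hbU) (g.appLE U V hVU)
      (g'.appLE (X.basicOpen b) (X'.basicOpen b') (hD.le.trans inf_le_left))
      (f'.appLE V (X'.basicOpen b') (hD.le.trans inf_le_right)) :=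
    (isIso_pushoutSection_iff hsq hVU hbU hD).1 (isIso_pushoutSection_of_isAffineOpen hsq hVU hbU hD hU hV hA)
  refine ⟨V, hV, rs m, b', hb', ?_, ?_, ?_⟩
  · rw [hD]; exact ⟨hxb, hxV⟩
  · haveI : IsAffine (U : Scheme.{u}) := hU
    haveI : IsAffine (V : Scheme.{u}) := hV
    haveI : IsAffine (X.basicOpen b : Scheme.{u}) := hA
    exact .of_isIso (Scheme.Hom.isPullback_resLE hsq hVU hbU hD).isoPullback.hom
  · refine subring_eq_top_of_isPushout hpo _ (fun t => ?_) (fun r => ?_)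
    · obtain ⟨k, a, ha, hk⟩ : t ∈ fracs (ores (X.basicOpen_le b)).hom (ratSub (f.app U).hom (secs φ U) m) b hb :=
        hfr ▸ Subring.mem_top t
      refine ⟨k, γ a, hγ a ha, ?_⟩
      have key : ∀ c : Γ(X, gl s), ores (X'.basicOpen_le b') (γ c) =
          g'.appLE (X.basicOpen b) (X'.basicOpen b') (hD.le.trans inf_le_left) (ores (X.basicOpen_le b) c) :=
        fun c => by
          show (g'.appLE (gl s) (gl s') hs'le ≫ X'.presheaf.map _) c =
            (X.presheaf.map _ ≫ g'.appLE (X.basicOpen b) (X'.basicOpen b') _) c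
          rw [Scheme.Hom.appLE_map, Scheme.Hom.map_appLE]
      show g'.appLE _ _ _ t * ores (X'.basicOpen_le b') (γ b) ^ k = ores (X'.basicOpen_le b') (γ a)
      rw [key, key, ← map_pow, ← map_mul]
      exact congrArg _ hk
    · refine ⟨0, ores (gl_le s') (f'.app V r), base_mem_ratSub (ρ := (f'.app V).hom) r, ?_⟩
      rw [pow_zero, mul_one]
      show f'.appLE V _ _ r = ores _ (ores _ (f'.app V r))
      rw [ores_ores]
      rfl

theorem isRelVeryAmple_baseChange (hsq : IsPullback g' f' f g) {L : X.Modules} (hL : PicF.IsInvertible L)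
    (h : RelProj.IsRelVeryAmple f L) : RelProj.IsRelVeryAmple f' ((Scheme.Modules.pullback g').obj L) := by
  obtain ⟨E, φ, hE, hva⟩ := exists_va_of_isRelVeryAmple h
  obtain ⟨φ', hφ'⟩ := exists_vamp_of_isPullback hsq hL hva
  exact isRelVeryAmple_of_vamp (isQCoh_pullback g hE) φ' hφ'

end Groth.Agent.VA11

namespace Groth.Agent.VA11

open Groth.Agent.M1

set_option maxHeartbeats 1000000 in
/-- The criterion for a fibre product over one base. -/
theorem exists_vamp_fibreProd {S A B P : Scheme.{u}} {a : A ⟶ S} {b : B ⟶ S} {p₁ : P ⟶ A} {p₂ : P ⟶ B}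
    (hsq : IsPullback p₁ p₂ a b) {L : A.Modules} (hL : PicF.IsInvertible L) {L' : B.Modules}
    (hL' : PicF.IsInvertible L') {E E' : S.Modules} (hE : Coh.IsQCoh E) (hE' : Coh.IsQCoh E')
    {φ : E ⟶ (Scheme.Modules.pushforward a).obj L} (hφ : ∀ U : S.Opens, IsAffineOpen U → VA (a.app U).hom (secs φ U))
    {φ' : E' ⟶ (Scheme.Modules.pushforward b).obj L'}
    (hφ' : ∀ U : S.Opens, IsAffineOpen U → VA (b.app U).hom (secs φ' U)) :
    ∃ φ'' : CohB1.tensorMod E E' ⟶ (Scheme.Modules.pushforward (p₁ ≫ a)).obj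
      (CohB1.tensorMod ((Scheme.Modules.pullback p₁).obj L) ((Scheme.Modules.pullback p₂).obj L')),
      VAmp φ'' := by
  let M := (Scheme.Modules.pullback p₁).obj L
  let M' := (Scheme.Modules.pullback p₂).obj L'
  have hw : ∀ U : S.Opens, p₁ ⁻¹ᵁ (a ⁻¹ᵁ U) ≤ p₂ ⁻¹ᵁ (b ⁻¹ᵁ U) := fun U => by
    rw [← Scheme.Hom.comp_preimage, ← Scheme.Hom.comp_preimage, hsq.w]
  have hwr : ∀ (U : S.Opens) (r : Γ(S, U)), ores (hw U) (p₂.app (b ⁻¹ᵁ U) (b.app U r)) = p₁.app (a ⁻¹ᵁ U) (a.app U r) :=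
    fun U r => by
      rw [ores_app, Scheme.Hom.app_eq_appLE b, appLE_appLE, Scheme.Hom.app_eq_appLE p₁, Scheme.Hom.app_eq_appLE a,
        appLE_appLE]
      exact appLE_congr_hom hsq.w.symm _ _ r
  let l : ∀ (U : S.Opens), Γ(E, U) → Γ(M, p₁ ⁻¹ᵁ (a ⁻¹ᵁ U)) := fun U m => M2.pullSec p₁ L (secs φ U m)
  let l' : ∀ (U : S.Opens), Γ(E', U) → Γ(M', p₁ ⁻¹ᵁ (a ⁻¹ᵁ U)) := fun U m =>
    mres M' (hw U) (M2.pullSec p₂ L' (secs φ' U m))
  let bm : M2.BiMap E E' ((Scheme.Modules.pushforward (p₁ ≫ a)).obj (CohB1.tensorMod M M')) :=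
    { f := fun U m m' => prodSec (l U m) (l' U m')
      add_left := fun U s s' t => by
        simp only [l, secs, map_add]
        exact M2.tsec_add_left _ _ _
      smul_left := fun U r s t => by
        simp only [l, secs_smul, M2.pullSec_smul]; exact M2.tsec_smul_left _ _ _
      add_right := fun U s t t' => by
        simp only [l', secs, map_add]
        exact M2.tsec_add_right _ _ _
      smul_right := fun U r s t => by
        simp only [l', secs_smul, M2.pullSec_smul, mres_smul, hwr]; exact M2.tsec_smul_right _ _ _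
      compat := fun {U V} hVU s t => by
        show prodSec (l V (mres E hVU s)) (l' V (mres E' hVU t)) =
          mres (CohB1.tensorMod M M') (p₁.preimage_mono (a.preimage_mono hVU)) (prodSec (l U s) (l' U t))
        simp only [mres_prodSec, l, l', ← secs_res φ hVU, ← secs_res φ' hVU,
          ← mres_pullSec p₁ (a.preimage_mono hVU), ← mres_pullSec p₂ (b.preimage_mono hVU)]
        congr 1
        exact (mres_mres _ _ _ _).trans (mres_mres _ _ _ _).symm }
  refine ⟨M2.mkHom bm, fun z => ?_⟩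
  obtain ⟨U, hU, hzU, -⟩ :=
    exists_isAffineOpen_mem_and_subset (show a (p₁ z) ∈ (⊤ : S.Opens) from trivial)
  have hzU' : b (p₂ z) ∈ U := hw U (show z ∈ p₁ ⁻¹ᵁ (a ⁻¹ᵁ U) from hzU)
  obtain ⟨m, c, hc, hzc, hA, hfr⟩ := hφ U hU (p₁ z) hzU
  obtain ⟨m', c', hc', hzc', hA', hfr'⟩ := hφ' U hU (p₂ z) hzU'
  let pr : Γ(E, U) → Γ(E', U) → Γ(CohB1.tensorMod E E', U) := fun k k' => M2.tsec E E' k k'
  have hs : ∀ k k', secs (M2.mkHom bm) U (pr k k') = prodSec (l U k) (l' U k') := fun k k' =>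
    M2.mkHom_tsec bm k k'
  have hM := Twist.isInvertible_pullback p₁ hL
  have hM' := Twist.isInvertible_pullback p₂ hL'
  let s := secs φ U m
  let s' := secs φ' U m'
  let s'' := secs (M2.mkHom bm) U (pr m m')
  have hgl : gl s'' = p₁ ⁻¹ᵁ gl s ⊓ p₂ ⁻¹ᵁ gl s' := by
    have hg1 : gl (l' U m') = gl (M2.pullSec p₂ L' s') ⊓ p₁ ⁻¹ᵁ (a ⁻¹ᵁ U) :=
      gl_mres (L := M') (hw U) (M2.pullSec p₂ L' s')
    rw [gl_congr (hs m m'), gl_prodSec hM hM', hg1]
    simp only [l]
    rw [gl_pullSec p₁ hL, gl_pullSec p₂ hL', inf_comm (p₂ ⁻¹ᵁ gl s') _,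
      ← inf_assoc, inf_eq_left.2 (p₁.preimage_mono (gl_le s))]
  have h₁ : gl s'' ≤ p₁ ⁻¹ᵁ gl s := hgl.le.trans inf_le_left
  have h₂ : gl s'' ≤ p₂ ⁻¹ᵁ gl s' := hgl.le.trans inf_le_right
  let R'' := ratSub ((p₁ ≫ a).app U).hom (secs (M2.mkHom bm) U) (pr m m')
  let γ : Γ(A, gl s) →+* Γ(P, gl s'') := (p₁.appLE (gl s) (gl s'') h₁).hom
  let γ' : Γ(B, gl s') →+* Γ(P, gl s'') := (p₂.appLE (gl s') (gl s'') h₂).hom
  have hk : ∀ k k', cf s'' (secs (M2.mkHom bm) U (pr k k')) = γ (cf s (secs φ U k)) * γ' (cf s' (secs φ' U k')) :=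
    fun k k' => by
      have e1 : gl s'' ≤ gl (prodSec (l U m) (l' U m')) := (gl_congr (hs m m')).le
      rw [← cf_ores_congr (hs m m') (hs k k') e1, cf_prodSec hM hM', map_mul, ores_ores, ores_ores]
      congr 1
      · rw [cf_pullSec p₁ hL, ores_ores]
        rfl
      · have e2 : gl s'' ≤ gl (l' U m') := e1.trans (gl_prodSec_le_right hM hM' _ _)
        have e3 : gl s'' ≤ gl (M2.pullSec p₂ L' s') := h₂.trans (gl_pullSec p₂ hL' s').ge
        show ores e2 (cf (l' U m') (l' U k')) = _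
        have e4 : gl (l' U m') ≤ gl (M2.pullSec p₂ L' s') := (gl_mres _ _).le.trans inf_le_left
        refine (congrArg (ores e2) (cf_of_mres (h := hw U) (s := M2.pullSec p₂ L' s')
          (t := M2.pullSec p₂ L' (secs φ' U k')) rfl rfl e4).symm).trans ?_
        rw [ores_ores, cf_pullSec p₂ hL', ores_ores]
        rfl
  have hγ : ∀ t ∈ ratSub (a.app U).hom (secs φ U) m, γ t ∈ R'' := fun t ht => by
    refine map_ratSub_le γ R'' (fun r => ?_) (fun k => ?_) ht
    · have h0 := base_mem_ratSub (ρ := ((p₁ ≫ a).app U).hom) (σ := secs (M2.mkHom bm) U) (e := pr m m') r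
      convert h0 using 1
      show p₁.appLE (gl s) (gl s'') h₁ (ores (gl_le s) (a.app U r)) = ores _ (p₁.app _ (a.app U r))
      rw [ores_app, appLE_appLE]
      show _ = ores _ ((p₁ ≫ a).app U r)
      rw [ores_app]
    · have h0 := cf_mem_ratSub (ρ := ((p₁ ≫ a).app U).hom) (σ := secs (M2.mkHom bm) U) (e := pr m m') (pr k m')
      rwa [hk, cf_self, map_one, mul_one] at h0
  have hγ' : ∀ t ∈ ratSub (b.app U).hom (secs φ' U) m', γ' t ∈ R'' := fun t ht => by
    refine map_ratSub_le γ' R'' (fun r => ?_) (fun k => ?_) ht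
    · have h0 := base_mem_ratSub (ρ := ((p₁ ≫ a).app U).hom) (σ := secs (M2.mkHom bm) U) (e := pr m m') r
      convert h0 using 1
      show p₂.appLE (gl s') (gl s'') h₂ (ores (gl_le s') (b.app U r)) = ores _ (p₁.app _ (a.app U r))
      rw [ores_app, appLE_appLE]
      show _ = ores _ ((p₁ ≫ a).app U r)
      rw [ores_app]
      exact appLE_congr_hom hsq.w.symm _ _ r
    · have h0 := cf_mem_ratSub (ρ := ((p₁ ≫ a).app U).hom) (σ := secs (M2.mkHom bm) U) (e := pr m m') (pr m k)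
      rwa [hk, cf_self, map_one, one_mul] at h0
  let c'' := γ c * γ' c'
  have hD : P.basicOpen c'' = p₁ ⁻¹ᵁ A.basicOpen c ⊓ p₂ ⁻¹ᵁ B.basicOpen c' := by
    show P.basicOpen (p₁.appLE (gl s) (gl s'') h₁ c * p₂.appLE (gl s') (gl s'') h₂ c') = _
    rw [Scheme.basicOpen_mul, Scheme.basicOpen_appLE, Scheme.basicOpen_appLE, ← inf_inf_distrib_left]
    refine inf_eq_right.2 ?_
    rw [hgl]
    exact inf_le_inf (p₁.preimage_mono (A.basicOpen_le c)) (p₂.preimage_mono (B.basicOpen_le c'))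
  have hcU : A.basicOpen c ≤ a ⁻¹ᵁ U := (A.basicOpen_le c).trans (gl_le s)
  have hcU' : B.basicOpen c' ≤ b ⁻¹ᵁ U := (B.basicOpen_le c').trans (gl_le s')
  have hpo : IsPushout (a.appLE U (A.basicOpen c) hcU) (b.appLE U (B.basicOpen c') hcU')
      (p₁.appLE (A.basicOpen c) (P.basicOpen c'') (hD.le.trans inf_le_left))
      (p₂.appLE (B.basicOpen c') (P.basicOpen c'') (hD.le.trans inf_le_right)) :=
    (isIso_pushoutSection_iff hsq hcU' hcU hD).1 (isIso_pushoutSection_of_isAffineOpen hsq hcU' hcU hD hU hA' hA)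
  refine ⟨U, hU, pr m m', c'', mul_mem (hγ c hc) (hγ' c' hc'), ?_, ?_, ?_⟩
  · rw [hD]; exact ⟨hzc, hzc'⟩
  · haveI : IsAffine (U : Scheme.{u}) := hU
    haveI : IsAffine (A.basicOpen c : Scheme.{u}) := hA
    haveI : IsAffine (B.basicOpen c' : Scheme.{u}) := hA'
    exact .of_isIso (Scheme.Hom.isPullback_resLE hsq hcU' hcU hD).isoPullback.hom
  · refine subring_eq_top_of_isPushout hpo _ (fun t => ?_) (fun t => ?_)
    · obtain ⟨k, d, hd, hk⟩ : t ∈ fracs (ores (A.basicOpen_le c)).hom (ratSub (a.app U).hom (secs φ U) m) c hc :=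
        hfr ▸ Subring.mem_top t
      refine ⟨k, γ d * γ' c' ^ k, mul_mem (hγ d hd) (pow_mem (hγ' c' hc') k), ?_⟩
      have key : ∀ v : Γ(A, gl s), ores (P.basicOpen_le c'') (γ v) =
          p₁.appLE (A.basicOpen c) (P.basicOpen c'') (hD.le.trans inf_le_left) (ores (A.basicOpen_le c) v) :=
        fun v => by
          show (p₁.appLE (gl s) (gl s'') h₁ ≫ P.presheaf.map _) v =
            (A.presheaf.map _ ≫ p₁.appLE (A.basicOpen c) (P.basicOpen c'') _) v
          rw [Scheme.Hom.appLE_map, Scheme.Hom.map_appLE]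
      show p₁.appLE _ _ _ t * ores (P.basicOpen_le c'') (γ c * γ' c') ^ k =
        ores (P.basicOpen_le c'') (γ d * γ' c' ^ k)
      rw [map_mul, map_mul, map_pow, key, key, mul_pow, ← mul_assoc, ← map_pow, ← map_mul]
      congr 1
      exact congrArg _ hk
    · obtain ⟨k, d, hd, hk⟩ : t ∈ fracs (ores (B.basicOpen_le c')).hom (ratSub (b.app U).hom (secs φ' U) m') c' hc' :=
        hfr' ▸ Subring.mem_top t
      refine ⟨k, γ' d * γ c ^ k, mul_mem (hγ' d hd) (pow_mem (hγ c hc) k), ?_⟩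
      have key : ∀ v : Γ(B, gl s'), ores (P.basicOpen_le c'') (γ' v) =
          p₂.appLE (B.basicOpen c') (P.basicOpen c'') (hD.le.trans inf_le_right) (ores (B.basicOpen_le c') v) :=
        fun v => by
          show (p₂.appLE (gl s') (gl s'') h₂ ≫ P.presheaf.map _) v =
            (B.presheaf.map _ ≫ p₂.appLE (B.basicOpen c') (P.basicOpen c'') _) v
          rw [Scheme.Hom.appLE_map, Scheme.Hom.map_appLE]
      show p₂.appLE _ _ _ t * ores (P.basicOpen_le c'') (γ c * γ' c') ^ k =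
        ores (P.basicOpen_le c'') (γ' d * γ c ^ k)
      rw [map_mul, map_mul, map_pow, key c', key d, mul_comm (ores _ (γ c)), mul_pow, ← mul_assoc, ← map_pow, ← map_mul]
      congr 1
      exact congrArg _ hk

end Groth.Agent.VA11

namespace Groth.Agent.VA11

/-- The product of two morphisms, as a fibre product over the product of the bases. -/
theorem exists_isPullback_prod {S X₁ X₂ Y₁ Y₂ P Q : Scheme.{u}} {y₁ : Y₁ ⟶ S} {y₂ : Y₂ ⟶ S}
    (f₁ : X₁ ⟶ Y₁) (f₂ : X₂ ⟶ Y₂) {p₁ : P ⟶ X₁} {p₂ : P ⟶ X₂} (hP : IsPullback p₁ p₂ (f₁ ≫ y₁) (f₂ ≫ y₂))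
    {q₁ : Q ⟶ Y₁} {q₂ : Q ⟶ Y₂} (hQ : IsPullback q₁ q₂ y₁ y₂) (h : P ⟶ Q)
    (hh₁ : h ≫ q₁ = p₁ ≫ f₁) (hh₂ : h ≫ q₂ = p₂ ≫ f₂) :
    ∃ (u : P ⟶ pullback f₁ q₁) (v : P ⟶ pullback f₂ q₂),
      IsPullback u v (pullback.snd f₁ q₁) (pullback.snd f₂ q₂) ∧ u ≫ pullback.fst f₁ q₁ = p₁ ∧
        v ≫ pullback.fst f₂ q₂ = p₂ ∧ u ≫ pullback.snd f₁ q₁ = h := by
  let u : P ⟶ pullback f₁ q₁ := pullback.lift p₁ h hh₁.symm
  let v : P ⟶ pullback f₂ q₂ := pullback.lift p₂ h hh₂.symm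
  have w : u ≫ pullback.snd f₁ q₁ = v ≫ pullback.snd f₂ q₂ := by simp [u, v]
  have wP : ∀ {T : Scheme.{u}} (a : T ⟶ pullback f₁ q₁) (b : T ⟶ pullback f₂ q₂),
      a ≫ pullback.snd f₁ q₁ = b ≫ pullback.snd f₂ q₂ →
        (a ≫ pullback.fst f₁ q₁) ≫ f₁ ≫ y₁ = (b ≫ pullback.fst f₂ q₂) ≫ f₂ ≫ y₂ := fun a b e => by
    simp only [Category.assoc, pullback.condition_assoc, hQ.w]
    rw [← Category.assoc a, e, Category.assoc]
  refine ⟨u, v, IsPullback.of_isLimit' ⟨w⟩ (PullbackCone.IsLimit.mk w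
    (fun s => hP.lift (s.fst ≫ pullback.fst f₁ q₁) (s.snd ≫ pullback.fst f₂ q₂) (wP _ _ s.condition))
    (fun s => ?_) (fun s => ?_) (fun s m hm₁ hm₂ => ?_)), by simp [u], by simp [v], by simp [u]⟩
  · refine pullback.hom_ext (by simp [u]) ?_
    simp only [u, Category.assoc, pullback.lift_snd]
    refine hQ.hom_ext ?_ ?_
    · simp only [Category.assoc, hh₁, hP.lift_fst_assoc, pullback.condition]
    · simp only [Category.assoc, hh₂, hP.lift_snd_assoc, pullback.condition]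
      rw [← Category.assoc s.snd, ← Category.assoc s.fst, s.condition]
  · refine pullback.hom_ext (by simp [v]) ?_
    simp only [v, Category.assoc, pullback.lift_snd]
    refine hQ.hom_ext ?_ ?_
    · simp only [Category.assoc, hh₁, hP.lift_fst_assoc, pullback.condition]
      rw [← Category.assoc s.fst, ← Category.assoc s.snd, s.condition]
    · simp only [Category.assoc, hh₂, hP.lift_snd_assoc, pullback.condition]
  · apply hP.hom_ext
    · rw [hP.lift_fst, ← hm₁]; simp [u]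
    · rw [hP.lift_snd, ← hm₂]; simp [v]

end Groth.Agent.VA11
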