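import Groth.Agent.Lib.VeryAmple11.Ample
import Groth.Agent.Lib.VeryAmple11.BC
import Groth.Agent.Lib.VeryAmple11.ProjCrit
import Groth.Agent.Lib.ModM1.Push

/-!
Relative very ampleness is local on the base.
-/

set_option autoImplicit false

universe u v

open CategoryTheory Limits AlgebraicGeometry TopologicalSpace Opposite

set_option backward.isDefEq.respectTransparency false

noncomputable section

namespace Groth.Agent.VA11

open Groth.Agent.M1

variable {X : Scheme.{u}} {L : X.Modules} {W : X.Opens}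

theorem gl_of_restrict {A : (W : Scheme.{u}).Opens} {B : X.Opens} (hB : W.ι ''ᵁ A = B) {s : Γ(L, B)}
    {s₀ : Γ(L.restrict W.ι, A)} (hs : (L.restrictAppIso W.ι A).hom s₀ = mres L hB.le s) :
    W.ι ''ᵁ gl s₀ = gl s := by
  subst hB
  rw [show mres L (le_of_eq rfl) s = s from mres_id L _ s] at hs
  have key : ∀ (V : (W : Scheme.{u}).Opens) (hV : V ≤ A) (r : Γ((W : Scheme.{u}), V)),
      (L.restrictAppIso W.ι V).hom (r • mres (L.restrict W.ι) hV s₀) =
        (show Γ(X, W.ι ''ᵁ V) from r) • mres L (W.ι.image_mono hV) s := fun V hV r => by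
    refine (M1.restrict_ι_smul L (show Γ(X, W.ι ''ᵁ V) from r) _).trans ?_
    congr 1
    rw [← hs]
    rfl
  have hbij : ∀ (V : (W : Scheme.{u}).Opens) (hV : V ≤ A),
      (Function.Bijective fun r : Γ((W : Scheme.{u}), V) => r • mres (L.restrict W.ι) hV s₀) ↔
        Function.Bijective fun r : Γ(X, W.ι ''ᵁ V) => r • mres L (W.ι.image_mono hV) s := fun V hV => by
    refine (Function.Bijective.of_comp_iff'
      (ConcreteCategory.bijective_of_isIso (L.restrictAppIso W.ι V).hom) _).symm.trans ?_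
    refine Iff.of_eq (congrArg Function.Bijective (funext fun r => ?_))
    exact key V hV r
  have hpre : ∀ V' : X.Opens, V' ≤ W → ∃ V₁ : (W : Scheme.{u}).Opens, V' = W.ι ''ᵁ V₁ := fun V' h =>
    ⟨W.ι ⁻¹ᵁ V', by
      rw [Scheme.Hom.image_preimage_eq_opensRange_inf, Scheme.Opens.opensRange_ι]
      exact (inf_eq_right.mpr h).symm⟩
  apply le_antisymm
  · refine le_gl (W.ι.image_mono (gl_le s₀)) fun V' hV' => ?_
    obtain ⟨V', rfl⟩ := hpre V' (hV'.trans (W.ι_image_le _))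
    have hle : V' ≤ gl s₀ := (W.ι.image_le_image_iff _ _).1 hV'
    have hb := isGen_of_le_gl hle V' le_rfl
    simp only [mres_mres] at hb ⊢
    exact (hbij V' (hle.trans (gl_le s₀))).1 hb
  · obtain ⟨V, hV⟩ := hpre (gl s) ((gl_le s).trans (W.ι_image_le A))
    rw [hV]
    refine W.ι.image_mono (le_gl ((W.ι.image_le_image_iff _ _).1 (hV.ge.trans (gl_le s))) fun V₂ hV₂ => ?_)
    have h1 : W.ι ''ᵁ V₂ ≤ gl s := (W.ι.image_mono hV₂).trans hV.ge
    have h2 := isGen_of_le_gl h1 (W.ι ''ᵁ V₂) le_rfl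
    simp only [mres_mres] at h2 ⊢
    exact (hbij V₂ ((W.ι.image_le_image_iff _ _).1 (h1.trans (gl_le s)))).2 h2

/-- The criterion on an open subscheme gives it on the scheme. -/
theorem vaat_of_restrict {A : (W : Scheme.{u}).Opens} {B : X.Opens} (hB : W.ι ''ᵁ A = B)
    {R R' : Type u} [CommRing R] [CommRing R'] {ρ₀ : R →+* Γ((W : Scheme.{u}), A)} {ρ : R' →+* Γ(X, B)}
    {κ : Type v} {κ' : Type v} {σ₀ : κ → Γ(L.restrict W.ι, A)} {σ : κ' → Γ(L, B)} (e' : κ → κ')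
    (hσ : ∀ k, (L.restrictAppIso W.ι A).hom (σ₀ k) = mres L hB.le (σ (e' k)))
    (hρ : ∀ r, ∃ r', (show Γ(X, W.ι ''ᵁ A) from ρ₀ r) = ores hB.le (ρ r'))
    {z : (W : Scheme.{u})} (h : VAat ρ₀ σ₀ z) : VAat ρ σ z.1 := by
  obtain ⟨e, b, hb, hxb, hA, hfr⟩ := h
  subst hB
  let s := σ (e' e)
  let s₀ := σ₀ e
  have hgl : W.ι ''ᵁ gl s₀ = gl s := gl_of_restrict rfl (hσ e)
  let θ : Γ((W : Scheme.{u}), gl s₀) →+* Γ(X, gl s) :=
    (ores hgl.ge : Γ(X, W.ι ''ᵁ gl s₀) ⟶ Γ(X, gl s)).hom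
  have hθ : ∀ a ∈ ratSub ρ₀ σ₀ e, θ a ∈ ratSub ρ σ (e' e) := fun a ha => by
    refine map_ratSub_le θ _ (fun r => ?_) (fun k => ?_) ha
    · obtain ⟨r', hr'⟩ := hρ r
      have h0 := base_mem_ratSub (ρ := ρ) (σ := σ) (e := e' e) r'
      convert h0 using 1
      show ores hgl.ge (ores (W.ι.image_mono (gl_le s₀)) (show Γ(X, W.ι ''ᵁ A) from ρ₀ r)) =
        ores (gl_le s) (ρ r')
      rw [hr']
      simp only [ores_ores]
    · have h0 := cf_mem_ratSub (ρ := ρ) (σ := σ) (e := e' e) (e' k)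
      convert h0 using 1
      refine ores_eq_cf ?_
      have h1 := congrArg (L.restrictAppIso W.ι (gl s₀)).hom (cf_smul s₀ (σ₀ k))
      have h2 : ∀ j, (L.restrictAppIso W.ι (gl s₀)).hom (mres (L.restrict W.ι) (gl_le s₀) (σ₀ j)) =
          mres L (W.ι.image_mono (gl_le s₀)) (σ (e' j)) := fun j => by
        have h3 := hσ j
        rw [show mres L (le_of_eq rfl) (σ (e' j)) = σ (e' j) from mres_id L _ _] at h3
        rw [← h3]
        rfl
      erw [M1.restrict_ι_smul L (show Γ(X, W.ι ''ᵁ gl s₀) from cf s₀ (σ₀ k))] at h1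
      rw [h2, h2] at h1
      have h4 := congrArg (mres L hgl.ge) h1
      rw [mres_smul, mres_mres, mres_mres] at h4
      exact h4
  have hbe : X.basicOpen (θ b) = W.ι ''ᵁ (W : Scheme.{u}).basicOpen b := by
    rw [Scheme.image_basicOpen, Scheme.Opens.ι_appIso]
    simp only [Iso.refl_inv]
    exact (Scheme.basicOpen_res _ _ _).trans
      (inf_eq_right.2 ((X.basicOpen_le (show Γ(X, W.ι ''ᵁ gl s₀) from b)).trans hgl.le))
  refine ⟨e' e, θ b, hθ b hb, hbe.ge ⟨z, hxb, rfl⟩, hbe ▸ hA.image_of_isOpenImmersion W.ι, ?_⟩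
  rw [eq_top_iff]
  intro t _
  obtain ⟨k, a, ha, hk⟩ : (show Γ((W : Scheme.{u}), (W : Scheme.{u}).basicOpen b) from ores hbe.ge t) ∈
      fracs (ores ((W : Scheme.{u}).basicOpen_le b)).hom (ratSub ρ₀ σ₀ e) b hb := hfr ▸ Subring.mem_top _
  refine ⟨k, θ a, hθ a ha, ?_⟩
  apply ores_injective hbe.ge hbe.le
  have key : ∀ c : Γ((W : Scheme.{u}), gl s₀),
      ores hbe.ge (ores (X.basicOpen_le (θ b)) (θ c)) =
        (show Γ(X, W.ι ''ᵁ (W : Scheme.{u}).basicOpen b) from ores ((W : Scheme.{u}).basicOpen_le b) c) :=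
    fun c => by
      show ores _ (ores _ (ores _ (show Γ(X, W.ι ''ᵁ gl s₀) from c))) =
        ores (W.ι.image_mono ((W : Scheme.{u}).basicOpen_le b)) (show Γ(X, W.ι ''ᵁ gl s₀) from c)
      simp only [ores_ores]
      rfl
  show ores hbe.ge (t * ores (X.basicOpen_le (θ b)) (θ b) ^ k) = ores hbe.ge (ores (X.basicOpen_le (θ b)) (θ a))
  rw [map_mul, map_pow, key, key]
  exact hk

variable {S : Scheme.{u}}

theorem isSeparated_of_isRelVeryAmple {f : X ⟶ S} [QuasiCompact f] {L : X.Modules}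
    (h : RelProj.IsRelVeryAmple f L) : IsSeparated f :=
  RA.isSeparated_of_isRelAmple f (isRelAmple_of_isRelVeryAmple h)

theorem isRelVeryAmple_restrict {f : X ⟶ S} {L : X.Modules} (hL : PicF.IsInvertible L)
    (h : RelProj.IsRelVeryAmple f L) (U : S.Opens) :
    RelProj.IsRelVeryAmple (f ∣_ U) (L.restrict (f ⁻¹ᵁ U).ι) :=
  isRelVeryAmple_of_iso ((Scheme.Modules.restrictFunctorIsoPullback (f ⁻¹ᵁ U).ι).app L).symm
    (isRelVeryAmple_baseChange (isPullback_morphismRestrict f U).flip hL h)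

/-- Very ampleness over the members of an open cover gives it, with all the sections of the module. -/
theorem vamp_id_of_cover {f : X ⟶ S} [QuasiCompact f] {L : X.Modules} {ι : Type*} (U : ι → S.Opens)
    (hU : ⨆ i, U i = ⊤) (h : ∀ i, RelProj.IsRelVeryAmple (f ∣_ (U i)) (L.restrict (f ⁻¹ᵁ (U i)).ι)) :
    IsSeparated f ∧ VAmp (𝟙 ((Scheme.Modules.pushforward f).obj L)) := by
  refine ⟨(IsZariskiLocalAtTarget.iff_of_iSup_eq_top (P := @IsSeparated) U hU).2 fun i =>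
    isSeparated_of_isRelVeryAmple (h i), fun x => ?_⟩
  obtain ⟨i, hi⟩ := Opens.mem_iSup.1 (hU.ge (trivial : f x ∈ (⊤ : S.Opens)))
  obtain ⟨E, φ, -, hva⟩ := exists_va_of_isRelVeryAmple (h i)
  let z : (f ⁻¹ᵁ U i : Scheme.{u}) := ⟨x, hi⟩
  obtain ⟨V, hV, hzV, -⟩ := exists_isAffineOpen_mem_and_subset
    (show (f ∣_ U i) z ∈ (⊤ : (U i : Scheme.{u}).Opens) from trivial)
  have hB := image_morphismRestrict_preimage f (U i) V
  refine ⟨(U i).ι ''ᵁ V, hV.image_of_isOpenImmersion _, ?_⟩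
  refine vaat_of_restrict (W := f ⁻¹ᵁ U i) hB (σ₀ := secs φ V)
    (fun m => show Γ((Scheme.Modules.pushforward f).obj L, (U i).ι ''ᵁ V) from
      mres L hB.ge ((L.restrictAppIso (f ⁻¹ᵁ U i).ι _).hom (secs φ V m))) (fun m => ?_) (fun r => ⟨r, ?_⟩)
    (hva V hV z hzV)
  · show _ = mres L hB.le (mres L hB.ge _)
    rw [mres_mres, mres_id]
  · show ((f ∣_ U i).app V).hom r = _
    rw [morphismRestrict_app]
    rfl

theorem isRelVeryAmple_of_cover {f : X ⟶ S} [QuasiCompact f] {L : X.Modules} (hL : PicF.IsInvertible L)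
    {ι : Type*} (U : ι → S.Opens) (hU : ⨆ i, U i = ⊤)
    (h : ∀ i, RelProj.IsRelVeryAmple (f ∣_ (U i)) (L.restrict (f ⁻¹ᵁ (U i)).ι)) :
    RelProj.IsRelVeryAmple f L := by
  obtain ⟨hs, hva⟩ := vamp_id_of_cover U hU h
  haveI := hs
  exact isRelVeryAmple_of_vamp (isQCoh_push f (Twist.isQCoh_of_isInvertible hL)) _ hva

end Groth.Agent.VA11
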