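import Groth.Agent.Lib.VeryAmple11.Tools
import Groth.Agent.Lib.ModM1.QCAlgGen
import Groth.Agent.Lib.Twist.Pullback

/-!
Operations on relatively very ample modules.
-/

set_option autoImplicit false

universe u

open CategoryTheory Limits AlgebraicGeometry TopologicalSpace Opposite

set_option backward.isDefEq.respectTransparency false

noncomputable section

namespace Groth.Agent.VA11

open Groth.Agent.M1

variable {S X Y : Scheme.{u}}

theorem cf_of_mres {L : X.Modules} {V W : X.Opens} {h : V ≤ W} {s t : Γ(L, W)} {s' t' : Γ(L, V)}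
    (hs : s' = mres L h s) (ht : t' = mres L h t) (hle : gl s' ≤ gl s) : ores hle (cf s t) = cf s' t' := by
  subst hs ht
  refine ores_eq_cf ?_
  rw [mres_mres, mres_mres]
  exact cf_smul_res s t hle

theorem isRelVeryAmple_of_iso {f : X ⟶ S} {L L' : X.Modules} (e : L ≅ L') (h : RelProj.IsRelVeryAmple f L) :
    RelProj.IsRelVeryAmple f L' := by
  obtain ⟨E, hE, 𝒮, j, hj, P, p, chart, hP, O1, lam, hL, i, hi, hip, ⟨τ⟩⟩ := h
  exact ⟨E, hE, 𝒮, j, hj, P, p, chart, hP, O1, lam, hL, i, hi, hip, ⟨e.symm ≪≫ τ⟩⟩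

/-- Composing with an immersion. -/
theorem isRelVeryAmple_comp_immersion {Z : Scheme.{u}} {f : X ⟶ S} {L : X.Modules} (g : Z ⟶ X) [IsImmersion g]
    (h : RelProj.IsRelVeryAmple f L) : RelProj.IsRelVeryAmple (g ≫ f) ((Scheme.Modules.pullback g).obj L) := by
  obtain ⟨E, hE, 𝒮, j, hj, P, p, chart, hP, O1, lam, hL, i, hi, hip, ⟨τ⟩⟩ := h
  refine ⟨E, hE, 𝒮, j, hj, P, p, chart, hP, O1, lam, hL, g ≫ i, inferInstance, ?_, ⟨?_⟩⟩
  · rw [Category.assoc, hip]
  · exact (Scheme.Modules.pullback g).mapIso τ ≪≫ (Scheme.Modules.pullbackComp g i).app O1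

/-- An immersion into the relative `Proj` of any algebra generated in degree one. -/
theorem isRelVeryAmple_of_immersion {P : Scheme.{u}} {𝒮 : RelProj.QCGrAlg S} (hgen : 𝒮.IsGenDegOne) {p : P ⟶ S}
    {chart : ∀ (U : S.Opens) (hU : IsAffineOpen U), ((p ⁻¹ᵁ U : P.Opens) : Scheme.{u}) ≅ Proj (𝒮.deg U hU)}
    (hP : RelProj.IsRelProj 𝒮 p chart) {O1 : P.Modules}
    {lam : ∀ (U : S.Opens) (hU : IsAffineOpen U),
      O1 ⟶ (Scheme.Modules.pushforward (RelProj.emb p chart U hU)).obj (GrTwist.twist (𝒮.deg U hU) 1)}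
    (hL : RelProj.IsRelTwist 𝒮 p chart 1 O1 lam) {L : X.Modules} (i : X ⟶ P) [IsImmersion i]
    (τ : (Scheme.Modules.pullback i).obj O1 ≅ L) : RelProj.IsRelVeryAmple (i ≫ p) L := by
  classical
  let cst : ∀ (U : S.Opens), Γ(𝒮.toModule, U) → 𝒮.presheaf.obj (op U) := fun U a => a
  let pr : ∀ (U : S.Opens) (hU : IsAffineOpen U), Γ(𝒮.toModule, U) → 𝒮.deg U hU 1 := fun U hU a =>
    DirectSum.decompose (𝒮.deg U hU) (cst U a) 1
  let g : ∀ U : S.Opens, IsAffineOpen U →
      Γ(𝒮.toModule, U) →+ Γ((Scheme.Modules.pushforward (i ≫ p)).obj L, U) :=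
    fun U hU => AddMonoidHom.mk' (fun a => sig hL i τ U hU (pr U hU a)) fun a b => by
      have e1 : pr U hU (a + b) = pr U hU a + pr U hU b := by
        show DirectSum.decompose (𝒮.deg U hU) (cst U a + cst U b) 1 = _
        rw [DirectSum.decompose_add]; rfl
      simp only [e1, sig, AddMemClass.coe_add]
      rw [phi_add hL U hU (pr U hU a).2 (pr U hU b).2, M2.pullSec_add, map_add]
  obtain ⟨φ, hφ⟩ := exists_hom_of_affine 𝒮.toModule _ g
    (fun U hU r a => by
      show τ.hom.app _ (M2.pullSec i O1 (phi hL U hU _ _)) =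
        i.app (p ⁻¹ᵁ U) (p.app U r) • (τ.hom.app _ (M2.pullSec i O1 (phi hL U hU _ _)) : Γ(L, i ⁻¹ᵁ (p ⁻¹ᵁ U)))
      have e1 : ((pr U hU (r • a : Γ(𝒮.toModule, U)) : 𝒮.deg U hU 1) : 𝒮.presheaf.obj (op U)) =
          (𝒮.str.app (op U)).hom r * (pr U hU a : 𝒮.presheaf.obj (op U)) := by
        show (DirectSum.decompose (𝒮.deg U hU) ((𝒮.str.app (op U)).hom r * cst U a) (0 + 1) : 𝒮.presheaf.obj (op U)) = _
        rw [DirectSum.coe_decompose_mul_of_left_mem_of_le (𝒮.deg U hU) (𝒮.str_mem U hU r) (Nat.zero_le _)]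
      simp only [e1]
      rw [phi_str_mul hP hL hgen U hU r (pr U hU a).2, M2.pullSec_smul, Scheme.Modules.Hom.app_smul])
    (fun {U V} hU hV hle a => by
      show mres L (i.preimage_mono (p.preimage_mono hle)) (sig hL i τ U hU _) = sig hL i τ V hV _
      rw [mres_sig hL i τ U hU _ (p.preimage_mono hle), phi_res hL hP hU hV hle]
      simp only [sig]
      congr 3
      exact GradedRingHom.map_directSumDecompose (f := 𝒮.res hU hV hle) (x := cst U a) (i := 1))
  refine isRelVeryAmple_of_vamp ((QC.isQCoh_toModule _)) φ (vamp_of_forall fun U hU => ?_)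
  refine va_congr (f := i ≫ p) (σ := fun a : 𝒮.deg U hU 1 => sig hL i τ U hU a)
    (fun a : 𝒮.deg U hU 1 => (show Γ(𝒮.toModule, U) from a.1)) (fun a => ?_) (va_of_immersion hL i τ hgen U hU)
  show φ.app U _ = _
  rw [hφ U hU]
  show sig hL i τ U hU (DirectSum.decompose (𝒮.deg U hU) a.1 1) = _
  rw [DirectSum.decompose_coe, DirectSum.of_eq_same]

/-- Every invertible module is very ample for the identity. -/
theorem isRelVeryAmple_id (L : X.Modules) (hL : PicF.IsInvertible L) : RelProj.IsRelVeryAmple (𝟙 X) L := by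
  let φ : L ⟶ (Scheme.Modules.pushforward (𝟙 X)).obj L := (Scheme.Modules.pushforwardId X).inv.app L
  have hsec : ∀ (U : X.Opens) (m : Γ(L, U)), secs φ U m = m := fun U m => rfl
  refine isRelVeryAmple_of_vamp (Twist.isQCoh_of_isInvertible hL) φ fun x => ?_
  obtain ⟨W, e, hxW, -, hW, he⟩ := Amp.exists_isGenerator hL (V := ⊤) (x := x) trivial
  have hgl : gl (secs φ W e) = W := le_antisymm (gl_le (secs φ W e))
    (le_gl le_rfl (Twist.IsGen.mres (show Twist.IsGen L W e from he) le_rfl))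
  refine ⟨W, hW, e, 1, one_mem _, ?_, ?_, ?_⟩
  · rw [Scheme.basicOpen_of_isUnit _ isUnit_one]; exact hgl.ge hxW
  · rw [Scheme.basicOpen_of_isUnit _ isUnit_one, hgl]; exact hW
  · rw [eq_top_iff]
    intro t _
    have hle : W ≤ X.basicOpen (1 : Γ(X, gl (secs φ W e))) := by
      rw [Scheme.basicOpen_of_isUnit _ isUnit_one]; exact hgl.ge
    refine ⟨0, ores (gl_le (secs φ W e)) (ores hle t), base_mem_ratSub (ρ := ((𝟙 X : X ⟶ X).app W).hom) _, ?_⟩
    rw [pow_zero, mul_one]
    show t = ores (X.basicOpen_le _) (ores (gl_le (secs φ W e)) (ores hle t))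
    exact (((congrArg _ (ores_ores _ _ t)).trans ((ores_ores _ _ t).trans (ores_id _ _)))).symm

/-- The criterion for a composite gives it for the first morphism, with the inverse image of the module. -/
theorem exists_vamp_of_comp {Z : Scheme.{u}} (f : X ⟶ Y) (g : Y ⟶ Z) {L : X.Modules} {E : Z.Modules}
    {φ : E ⟶ (Scheme.Modules.pushforward (f ≫ g)).obj L}
    (hva : ∀ U : Z.Opens, IsAffineOpen U → VA ((f ≫ g).app U).hom (secs φ U)) :
    ∃ φ' : (Scheme.Modules.pullback g).obj E ⟶ (Scheme.Modules.pushforward f).obj L, VAmp φ' := by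
  let ψ : E ⟶ (Scheme.Modules.pushforward g).obj ((Scheme.Modules.pushforward f).obj L) :=
    φ ≫ (Scheme.Modules.pushforwardComp f g).inv.app L
  let φ' : (Scheme.Modules.pullback g).obj E ⟶ (Scheme.Modules.pushforward f).obj L :=
    ((Scheme.Modules.pullbackPushforwardAdjunction g).homEquiv E _).symm ψ
  refine ⟨φ', fun x => ?_⟩
  obtain ⟨U, hU, hxU, -⟩ := exists_isAffineOpen_mem_and_subset (show g (f x) ∈ (⊤ : Z.Opens) from trivial)
  obtain ⟨V, hV, hxV, hVU⟩ := exists_isAffineOpen_mem_and_subset (show f x ∈ g ⁻¹ᵁ U from hxU)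
  refine ⟨V, hV, (hva U hU x hxU).mono fun m hm => ?_⟩
  let rs : Γ(E, U) → Γ((Scheme.Modules.pullback g).obj E, V) := fun m => mres _ hVU (M2.pullSec g E m)
  have hs : ∀ m, secs φ' V (rs m) = mres L (f.preimage_mono hVU) (secs φ U m) := fun m => by
    have h0 := congrArg (fun q => q.app U m)
      (((Scheme.Modules.pullbackPushforwardAdjunction g).homEquiv E _).apply_symm_apply ψ)
    rw [Adjunction.homEquiv_unit] at h0
    show φ'.app V (mres _ hVU (M2.pullSec g E m)) = mres L (f.preimage_mono hVU) (secs φ U m)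
    rw [app_mres]
    exact congrArg (mres L (f.preimage_mono hVU)) h0
  have hgl : ∀ m, gl (secs φ' V (rs m)) = gl (secs φ U m) ⊓ f ⁻¹ᵁ V := fun m => by
    rw [gl_congr (hs m), gl_mres]
  refine ⟨rs m, (hgl m).le.trans inf_le_left, (hgl m).ge ⟨hm, hxV⟩, fun r => ?_, fun k => ?_⟩
  · have h0 := base_mem_ratSub (ρ := (f.app V).hom) (σ := secs φ' V) (e := rs m) (g.appLE U V hVU r)
    convert h0 using 1
    rw [ores_ores]
    show ores _ ((f ≫ g).app U r) = ores _ (f.app V (g.appLE U V hVU r))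
    simp only [Scheme.Hom.comp_app, Scheme.Hom.appLE, ConcreteCategory.comp_apply]
    erw [← ConcreteCategory.comp_apply _ (f.app V), Scheme.Hom.naturality, ConcreteCategory.comp_apply]
    exact (ores_ores _ _ _).symm
  · have h0 := cf_mem_ratSub (ρ := (f.app V).hom) (σ := secs φ' V) (e := rs m) (rs k)
    convert h0 using 1
    exact cf_of_mres (hs m) (hs k) _

/-- Cancellation of the second morphism. -/
theorem isRelVeryAmple_of_comp {Z : Scheme.{u}} (f : X ⟶ Y) (g : Y ⟶ Z) {L : X.Modules}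
    (h : RelProj.IsRelVeryAmple (f ≫ g) L) : RelProj.IsRelVeryAmple f L := by
  obtain ⟨E, φ, hE, hva⟩ := exists_va_of_isRelVeryAmple h
  obtain ⟨φ', hφ'⟩ := exists_vamp_of_comp f g hva
  exact isRelVeryAmple_of_vamp (isQCoh_pullback g hE) φ' hφ'

/-- Tensor with a module generated by sections from the base. -/
theorem isRelVeryAmple_tensor {f : X ⟶ S} {L L' : X.Modules} (hL : PicF.IsInvertible L)
    (hL' : PicF.IsInvertible L') (h : RelProj.IsRelVeryAmple f L) {E' : S.Modules} (hE' : Coh.IsQCoh E')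
    (φ' : E' ⟶ (Scheme.Modules.pushforward f).obj L') (h' : Gens φ') :
    RelProj.IsRelVeryAmple f (CohB1.tensorMod L L') := by
  obtain ⟨E, φ, hE, hva⟩ := exists_va_of_isRelVeryAmple h
  let b : M2.BiMap E E' ((Scheme.Modules.pushforward f).obj (CohB1.tensorMod L L')) :=
    { f := fun U m m' => prodSec (secs φ U m) (secs φ' U m')
      add_left := fun U s s' t => by
        simp only [secs, map_add]; exact M2.tsec_add_left _ _ _
      smul_left := fun U r s t => by
        simp only [secs_smul]; exact M2.tsec_smul_left _ _ _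
      add_right := fun U s t t' => by
        simp only [secs, map_add]; exact M2.tsec_add_right _ _ _
      smul_right := fun U r s t => by
        simp only [secs_smul]; exact M2.tsec_smul_right _ _ _
      compat := fun {U V} hVU s t => by
        show prodSec (secs φ V (mres E hVU s)) (secs φ' V (mres E' hVU t)) =
          mres (CohB1.tensorMod L L') (f.preimage_mono hVU) (prodSec (secs φ U s) (secs φ' U t))
        rw [mres_prodSec, secs_res, secs_res] }
  refine isRelVeryAmple_of_vamp (M2.isQCoh_tensor hE hE') (M2.mkHom b) (vamp_of_forall fun U hU x hx => ?_)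
  obtain ⟨U₀, m₀, hm₀⟩ := h' x
  obtain ⟨m', hm'⟩ := exists_mem_gl_of_nbhd hE' φ' hU hx hm₀
  let pr : Γ(E, U) → Γ(CohB1.tensorMod E E', U) := fun m => M2.tsec E E' m m'
  have hs : ∀ m, secs (M2.mkHom b) U (pr m) = prodSec (secs φ U m) (secs φ' U m') := fun m =>
    M2.mkHom_tsec b m m'
  refine (hva U hU x hx).mono fun m hm => ?_
  have hgl : gl (secs (M2.mkHom b) U (pr m)) = gl (secs φ U m) ⊓ gl (secs φ' U m') := by
    rw [gl_congr (hs m), gl_prodSec hL hL']
  refine ⟨pr m, hgl.le.trans inf_le_left, hgl.ge ⟨hm, hm'⟩, fun r => ?_, fun k => ?_⟩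
  · rw [ores_ores]
    exact base_mem_ratSub r
  · have h0 := cf_mem_ratSub (ρ := (f.app U).hom) (σ := secs (M2.mkHom b) U) (e := pr m) (pr k)
    convert h0 using 1
    refine (ores_cf_eq (hgl.le.trans inf_le_left) ?_)
    have h1 := cf_smul_res (secs (M2.mkHom b) U (pr m)) (secs (M2.mkHom b) U (pr k)) le_rfl
    simp only [ores_id] at h1
    have h2 : cf (secs (M2.mkHom b) U (pr m)) (secs (M2.mkHom b) U (pr k)) =
        ores (hgl.le.trans inf_le_left) (cf (secs φ U m) (secs φ U k)) := by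
      refine (ores_eq_cf ?_).symm
      simp only [hs, mres_prodSec]
      rw [← cf_smul_res (secs φ U m) (secs φ U k) (hgl.le.trans inf_le_left)]
      exact (M2.tsec_smul_left _ _ _).symm
    rw [h2]
    exact cf_smul_res _ _ _

theorem isRelVeryAmple_tensor_of_isRelVeryAmple {f : X ⟶ S} {L L' : X.Modules} (hL : PicF.IsInvertible L)
    (hL' : PicF.IsInvertible L') (h : RelProj.IsRelVeryAmple f L) (h' : RelProj.IsRelVeryAmple f L') :
    RelProj.IsRelVeryAmple f (CohB1.tensorMod L L') := by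
  obtain ⟨E', φ', hE', hva'⟩ := exists_va_of_isRelVeryAmple h'
  exact isRelVeryAmple_tensor hL hL' h hE' φ' (vamp_of_forall hva').gens

theorem isRelVeryAmple_tensorPow {f : X ⟶ S} {L : X.Modules} (hL : PicF.IsInvertible L)
    (h : RelProj.IsRelVeryAmple f L) : ∀ n, RelProj.IsRelVeryAmple f (CohB1.tensorPow L (n + 1))
  | 0 => isRelVeryAmple_of_iso (M2.tensorPowOne L).symm h
  | n + 1 => isRelVeryAmple_tensor_of_isRelVeryAmple (M2.isInvertible_tensorPow hL _) hL
      (isRelVeryAmple_tensorPow hL h n) h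

/-- An epimorphism from the inverse image has generating sections. -/
theorem gens_of_epi {f : X ⟶ S} {L : X.Modules} (hL : PicF.IsInvertible L) {E : S.Modules}
    (ψ : (Scheme.Modules.pullback f).obj E ⟶ L) [Epi ψ] :
    Gens ((Scheme.Modules.pullbackPushforwardAdjunction f).homEquiv E L ψ) := fun x => by
  set φ := (Scheme.Modules.pullbackPushforwardAdjunction f).homEquiv E L ψ
  obtain ⟨g₀, hg₀⟩ := Amp.exists_stalk_gen hL x
  obtain ⟨a, ha⟩ := (epi_iff_stalk ψ).1 inferInstance x g₀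
  obtain ⟨b, hb⟩ := (M2.pullStalkEquiv f x E).surjective a
  by_contra hne
  push Not at hne
  have key : ∀ z, ∃ c : X.presheaf.stalk x, c ∈ IsLocalRing.maximalIdeal (X.presheaf.stalk x) ∧
      (stalkAb x).map ψ (M2.pullStalkEquiv f x E z) = c • g₀ := by
    intro z
    induction z using TensorProduct.induction_on with
    | zero => exact ⟨0, Submodule.zero_mem _, by rw [map_zero, zero_smul]; exact map_zero _⟩
    | add p q hp hq =>
      obtain ⟨c, hc, hp⟩ := hp
      obtain ⟨d, hd, hq⟩ := hq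
      exact ⟨c + d, add_mem hc hd, by rw [map_add, map_add, hp, hq, add_smul]⟩
    | tmul r w =>
      obtain ⟨U, hxU, m, rfl⟩ := E.presheaf.exists_germ_eq w
      obtain ⟨c, hc⟩ := hg₀.2 (Amp.gm L x (U := f ⁻¹ᵁ U) hxU (secs φ U m))
      have hcm : c ∈ IsLocalRing.maximalIdeal (X.presheaf.stalk x) := by
        by_contra hcu
        refine hne U m ((mem_gl_iff hL (W := f ⁻¹ᵁ U) hxU).2 ?_)
        rw [← hc]
        exact (hg₀.ne_zero_smul c).2 (by simpa using hcu)
      refine ⟨r * c, Ideal.mul_mem_left _ _ hcm, ?_⟩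
      simp only at hc
      rw [mul_smul, hc]
      have h1 : M2.pullStalkEquiv f x E (r ⊗ₜ E.presheaf.germ U (f x) hxU m) =
          r • ((Scheme.Modules.pullback f).obj E).presheaf.germ (f ⁻¹ᵁ U) x hxU (M2.pullSec f E m) := by
        rw [← M2.pullStalkEquiv_tmul f x E hxU m, ← map_smul]
        simp [TensorProduct.smul_tmul']
      rw [h1]
      refine ((M2.stMap ((M2.pmF X).map ψ) x).map_smul r _).trans ?_
      refine congrArg (r • ·) ?_
      refine (M2.stMap_sg ((M2.pmF X).map ψ) hxU (M2.pullSec f E m)).trans ?_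
      refine congrArg (fun z => Amp.gm L x (U := f ⁻¹ᵁ U) hxU z) ?_
      have h9 : φ = (Scheme.Modules.pullbackPushforwardAdjunction f).unit.app E ≫
          (Scheme.Modules.pushforward f).map ψ := Adjunction.homEquiv_unit ..
      rw [secs, h9]
      rfl
  obtain ⟨c, hc, hcg⟩ := key b
  rw [hb, ha] at hcg
  have h1 : c = 1 := hg₀.1 (show c • g₀ = (1 : X.presheaf.stalk x) • g₀ by rw [← hcg, one_smul])
  exact (IsLocalRing.notMem_maximalIdeal.2 isUnit_one) (h1 ▸ hc)

end Groth.Agent.VA11
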