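import Groth.Agent.Lib.VeryAmple11.Bundle
import Groth.Agent.Lib.RelAmple18.Basic
import Groth.Agent.Lib.TensorMod.PullTensor
import Groth.Agent.Lib.TensorMod.QCohTensor
import Groth.Agent.Lib.ModM1.Pull

/-!
Generating loci and ratios under tensor products, inverse images and isomorphisms.
-/

set_option autoImplicit false

universe u

open CategoryTheory Limits AlgebraicGeometry TopologicalSpace Opposite

set_option backward.isDefEq.respectTransparency false

noncomputable section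

namespace Groth.Agent.VA11

open Groth.Agent.M1
open Groth.Agent.Amp (Gen gm)

variable {X Y : Scheme.{u}} {L L' : X.Modules} {W : X.Opens}

theorem mem_gl_iff (hL : PicF.IsInvertible L) {s : Γ(L, W)} {x : X} (hx : x ∈ W) :
    x ∈ gl s ↔ Gen (gm L x hx s) := by
  rw [RA.gen_iff_exists_isGenerator hL hx s, mem_gl]
  exact ⟨fun ⟨V, h, hxV, hg⟩ => ⟨V, h, hxV, hg⟩, fun ⟨V, h, hxV, hg⟩ => ⟨V, h, hxV, hg⟩⟩

theorem cf_ores_congr {s s' t t' : Γ(L, W)} (hs : s' = s) (ht : t' = t) (h : gl s' ≤ gl s) :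
    ores h (cf s t) = cf s' t' := by
  subst hs ht
  exact ores_id _ _

theorem ores_eq_cf {X : Scheme.{u}} {L : X.Modules} {W : X.Opens} {s t : Γ(L, W)} {c : Γ(X, gl s)}
    (e : c • mres L (gl_le s) s = mres L (gl_le s) t) : c = cf s t :=
  smul_inj le_rfl ((e.trans (cf_smul s t).symm))

section iso

variable (ν : L ≅ L')

theorem gl_app_iso (s : Γ(L, W)) : gl (ν.hom.app W s) = gl s := by
  have key : ∀ {M M' : X.Modules} (μ : M ≅ M') (t : Γ(M, W)), gl t ≤ gl (μ.hom.app W t) := fun μ t =>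
    le_gl (gl_le t) (by rw [← app_mres]; exact isGen_map_iso μ (isGen_gl t))
  refine le_antisymm ((key ν.symm _).trans (le_of_eq ?_)) (key ν s)
  refine gl_congr ?_
  show ν.inv.app W (ν.hom.app W s) = s
  rw [← ConcreteCategory.comp_apply, ← Scheme.Modules.Hom.comp_app, Iso.hom_inv_id]
  rfl

theorem cf_app_iso (s t : Γ(L, W)) :
    cf (ν.hom.app W s) (ν.hom.app W t) = ores (gl_app_iso ν s).le (cf s t) := by
  refine (ores_eq_cf ?_).symm
  have h := cf_smul_res s t (gl_app_iso ν s).le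
  have := congrArg (ν.hom.app (gl (ν.hom.app W s))) h
  rwa [Scheme.Modules.Hom.app_smul, app_mres, app_mres] at this

end iso

section tensor

/-- The product section. -/
abbrev prodSec (s : Γ(L, W)) (t : Γ(L', W)) : Γ(CohB1.tensorMod L L', W) := M2.tsec L L' s t

theorem mres_prodSec {V : X.Opens} (h : V ≤ W) (s : Γ(L, W)) (t : Γ(L', W)) :
    mres (CohB1.tensorMod L L') h (prodSec s t) = prodSec (mres L h s) (mres L' h t) := M2.res_tsec h s t

theorem gl_prodSec (hL : PicF.IsInvertible L) (hL' : PicF.IsInvertible L') (s : Γ(L, W)) (t : Γ(L', W)) :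
    gl (prodSec s t) = gl s ⊓ gl t := by
  ext x
  simp only [SetLike.mem_coe, Opens.mem_inf]
  have hT := M2.isInvertible_tensor hL hL'
  refine ⟨fun h => ?_, fun h => ?_⟩
  · have hx := gl_le (prodSec s t) h
    rw [mem_gl_iff hT hx, Amp.gen_tsec_iff hL hL' hx] at h
    exact ⟨(mem_gl_iff hL hx).2 h.1, (mem_gl_iff hL' hx).2 h.2⟩
  · have hx := gl_le s h.1
    rw [mem_gl_iff hT hx, Amp.gen_tsec_iff hL hL' hx]
    exact ⟨(mem_gl_iff hL hx).1 h.1, (mem_gl_iff hL' hx).1 h.2⟩

theorem gl_prodSec_le_left (hL : PicF.IsInvertible L) (hL' : PicF.IsInvertible L') (s : Γ(L, W)) (t : Γ(L', W)) :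
    gl (prodSec s t) ≤ gl s := (gl_prodSec hL hL' s t).le.trans inf_le_left

theorem gl_prodSec_le_right (hL : PicF.IsInvertible L) (hL' : PicF.IsInvertible L') (s : Γ(L, W)) (t : Γ(L', W)) :
    gl (prodSec s t) ≤ gl t := (gl_prodSec hL hL' s t).le.trans inf_le_right

theorem cf_prodSec (hL : PicF.IsInvertible L) (hL' : PicF.IsInvertible L') (s s' : Γ(L, W)) (t t' : Γ(L', W)) :
    cf (prodSec s t) (prodSec s' t') =
      ores (gl_prodSec_le_left hL hL' s t) (cf s s') * ores (gl_prodSec_le_right hL hL' s t) (cf t t') := by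
  refine (ores_eq_cf ?_).symm
  rw [mres_prodSec, mres_prodSec, ← cf_smul_res s s' (gl_prodSec_le_left hL hL' s t),
    ← cf_smul_res t t' (gl_prodSec_le_right hL hL' s t)]
  simp only [prodSec, M2.tsec_smul_left, M2.tsec_smul_right, smul_smul]
  rw [mul_comm]

end tensor

section pull

variable (g : Y ⟶ X)

theorem gl_pullSec (hL : PicF.IsInvertible L) (s : Γ(L, W)) : gl (M2.pullSec g L s) = g ⁻¹ᵁ gl s := by
  ext y
  have hL'' := PicLoc.isInvertible_pullback g hL
  refine ⟨fun h => ?_, fun h => ?_⟩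
  · have hy : g y ∈ W := gl_le (M2.pullSec g L s) h
    rw [SetLike.mem_coe, mem_gl_iff hL'' (W := g ⁻¹ᵁ W) hy, Amp.gen_pullSec_iff g hL hy] at h
    exact (mem_gl_iff hL hy).2 h
  · have hy : g y ∈ W := gl_le s h
    rw [SetLike.mem_coe, mem_gl_iff hL'' (W := g ⁻¹ᵁ W) hy, Amp.gen_pullSec_iff g hL hy]
    exact (mem_gl_iff hL hy).1 h

theorem cf_pullSec (hL : PicF.IsInvertible L) (s t : Γ(L, W)) :
    cf (M2.pullSec g L s) (M2.pullSec g L t) = ores (gl_pullSec g hL s).le (g.app (gl s) (cf s t)) := by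
  refine (ores_eq_cf ?_).symm
  have h := congrArg (mres ((Scheme.Modules.pullback g).obj L) (gl_pullSec g hL s).le)
    (congrArg (M2.pullSec g L) (cf_smul s t))
  rwa [M2.pullSec_smul, mres_smul, ← mres_pullSec g (gl_le s) s, ← mres_pullSec g (gl_le s) t, mres_mres,
    mres_mres] at h

end pull

variable {S : Scheme.{u}} {f : X ⟶ S}

/-- Generating sections near a point give generating sections over any affine open. -/
theorem exists_mem_gl_of_nbhd {E : S.Modules} (hE : Coh.IsQCoh E)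
    (φ : E ⟶ (Scheme.Modules.pushforward f).obj L) {U : S.Opens} (hU : IsAffineOpen U) {x : X} (hx : x ∈ f ⁻¹ᵁ U)
    {U₀ : S.Opens} {m₀ : Γ(E, U₀)} (hm₀ : x ∈ gl (secs φ U₀ m₀)) : ∃ m, x ∈ gl (secs φ U m) := by
  haveI := hE
  obtain ⟨g, hgle, hxg⟩ := hU.exists_basicOpen_le (V := U₀) ⟨f x, gl_le (secs φ U₀ m₀) hm₀⟩ hx
  obtain ⟨k, m, hm⟩ := exists_pow_smul_eq_res_affine E hU g (mres E hgle m₀)
  simp only [map_pow] at hm
  refine ⟨m, ?_⟩
  have h1 : x ∈ gl (secs φ (S.basicOpen g) (mres E hgle m₀)) := by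
    rw [← secs_res φ hgle, gl_mres]; exact ⟨hm₀, hxg⟩
  have hu : IsUnit (ores (S.basicOpen_le g) g ^ k) :=
    (RingedSpace.isUnit_res_basicOpen S.toRingedSpace g).pow k
  have h2 : x ∈ gl (secs φ (S.basicOpen g) (mres E (S.basicOpen_le g) m)) := by
    rw [hm, secs_smul]
    refine le_gl (gl_le _) ?_ h1
    rw [mres_smul]
    exact isGen_smul_unit (isGen_gl _) ((hu.map (f.app (S.basicOpen g)).hom).map (ores (gl_le _)).hom)
  rw [← secs_res φ (S.basicOpen_le g), gl_mres] at h2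
  exact h2.1

/-- The sections generate near every point. -/
def Gens {E : S.Modules} (φ : E ⟶ (Scheme.Modules.pushforward f).obj L) : Prop :=
  ∀ x : X, ∃ (U : S.Opens) (m : Γ(E, U)), x ∈ gl (secs φ U m)

theorem VAmp.gens {E : S.Modules} {φ : E ⟶ (Scheme.Modules.pushforward f).obj L} (h : VAmp φ) : Gens φ := fun x => by
  obtain ⟨U, -, e, b, -, hxb, -⟩ := h x
  exact ⟨U, e, X.basicOpen_le b hxb⟩

end Groth.Agent.VA11
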