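import Groth.Agent.Lib.VeryAmple11.Phi

/-!
An immersion into a relative `Proj` makes the inverse image of `O(1)` very ample.
-/

set_option autoImplicit false

universe u

open CategoryTheory Limits AlgebraicGeometry TopologicalSpace Opposite
open scoped HomogeneousIdeal

set_option backward.isDefEq.respectTransparency false

noncomputable section

namespace Groth.Agent.VA11

open Groth.Agent.M1

/-- Restricting a composite with an open immersion inside its range. -/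
theorem restrict_comp_ι_iff {A B : Scheme.{u}} {U₀ : B.Opens} (r' : A ⟶ U₀) (r : A ⟶ B)
    (h : r' ≫ U₀.ι = r) {D : B.Opens} (hD : D ≤ U₀) (Q : MorphismProperty Scheme.{u}) [Q.RespectsIso] :
    Q (r' ∣_ (U₀.ι ⁻¹ᵁ D)) ↔ Q (r ∣_ D) := by
  subst h
  rw [morphismRestrict_comp]
  haveI : IsIso (U₀.ι ∣_ D) := by
    refine (isIso_iff_isOpenImmersion_and_surjective _).2 ⟨inferInstance, ⟨fun x => ?_⟩⟩
    exact ⟨⟨⟨x.1, hD x.2⟩, x.2⟩, Subtype.ext (by simp)⟩
  exact (MorphismProperty.cancel_right_of_respectsIso Q _ (U₀.ι ∣_ D)).symm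

variable {S P X : Scheme.{u}} {𝒮 : RelProj.QCGrAlg S} {p : P ⟶ S}
  {chart : ∀ (U : S.Opens) (hU : IsAffineOpen U), ((p ⁻¹ᵁ U : P.Opens) : Scheme.{u}) ≅ Proj (𝒮.deg U hU)}
  {O1 : P.Modules}
  {lam : ∀ (U : S.Opens) (hU : IsAffineOpen U),
    O1 ⟶ (Scheme.Modules.pushforward (RelProj.emb p chart U hU)).obj (GrTwist.twist (𝒮.deg U hU) 1)}
  (hL : RelProj.IsRelTwist 𝒮 p chart 1 O1 lam)

theorem basicOpen_rat (U : S.Opens) (hU : IsAffineOpen U) {f a : 𝒮.presheaf.obj (op U)}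
    (hf : f ∈ 𝒮.deg U hU 1) (ha : a ∈ 𝒮.deg U hU 1) :
    P.basicOpen (rat p chart U hU hf a) ≤ dd p chart U hU a := by
  intro z hz
  obtain ⟨y, hy, rfl⟩ := P.basicOpen_le _ hz
  refine ⟨y, ?_, rfl⟩
  have h1 : y ∈ (RelProj.emb p chart U hU) ⁻¹ᵁ P.basicOpen (rat p chart U hU hf a) := hz
  rw [Scheme.preimage_basicOpen, app_rat, basicOpen_ores, dh_of_mem _ hf ha] at h1
  have h2 := h1.2
  have h3 : y ∈ Proj.basicOpen (𝒮.deg U hU) (f * a) :=
    (GrTw11.basicOpen_awayToSection _ one_pos hf (b := a) (j := 1) (by simpa using ha)).le h2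
  rw [Proj.basicOpen_mul] at h3
  exact h3.2

theorem mem_dd_of_mem {U : S.Opens} {hU : IsAffineOpen U} (hgen : 𝒮.IsGenDegOne) {z : P} (hz : z ∈ p ⁻¹ᵁ U) :
    ∃ f, ∃ (_ : f ∈ 𝒮.deg U hU 1), z ∈ dd p chart U hU f := by
  obtain ⟨y, hy⟩ : ∃ y, RelProj.emb p chart U hU y = z := by
    refine ⟨(chart U hU).hom ⟨z, hz⟩, ?_⟩
    rw [RelProj.emb, ← Scheme.Hom.comp_apply, Iso.hom_inv_id_assoc]
    rfl
  have hy' : y ∈ (⨆ f : 𝒮.deg U hU 1, Proj.basicOpen (𝒮.deg U hU) (f : 𝒮.presheaf.obj (op U))) := by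
    rw [RelProj11.iSup_basicOpen_degOne hgen U hU]; trivial
  obtain ⟨f, hf⟩ := Opens.mem_iSup.1 hy'
  exact ⟨f, f.2, y, hf, hy⟩

variable {L : X.Modules} (i : X ⟶ P) (τ : (Scheme.Modules.pullback i).obj O1 ≅ L)

/-- The sections of `L` coming from elements of degree one. -/
def sig (U : S.Opens) (hU : IsAffineOpen U) (a : 𝒮.deg U hU 1) : Γ(L, i ⁻¹ᵁ (p ⁻¹ᵁ U)) :=
  τ.hom.app (i ⁻¹ᵁ (p ⁻¹ᵁ U)) (M2.pullSec i O1 (phi hL U hU a.1 a.2))

theorem mres_pullSec {U V : P.Opens} (h : V ≤ U) (s : Γ(O1, U)) :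
    mres ((Scheme.Modules.pullback i).obj O1) (i.preimage_mono h) (M2.pullSec i O1 s) =
      M2.pullSec i O1 (mres O1 h s) :=
  (app_mres ((Scheme.Modules.pullbackPushforwardAdjunction i).unit.app O1) h s).symm

theorem isGen_map_iso {M N : X.Modules} (φ : M ≅ N) {V : X.Opens} {g : Γ(M, V)} (hg : Twist.IsGen M V g) :
    Twist.IsGen N V (φ.hom.app V g) := by
  intro V' h
  haveI : IsIso (φ.hom.app V') := Scheme.Modules.Hom.isIso_iff_isIso_app.1 inferInstance V'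
  rw [show (fun r : Γ(X, V') => r • mres N h (φ.hom.app V g)) = φ.hom.app V' ∘ fun r => r • mres M h g from
    funext fun r => by rw [Function.comp_apply, Scheme.Modules.Hom.app_smul, app_mres]]
  exact (ConcreteCategory.bijective_of_isIso (φ.hom.app V')).comp (hg V' h)

theorem mres_sig (U : S.Opens) (hU : IsAffineOpen U) (a : 𝒮.deg U hU 1) {D : P.Opens} (h : D ≤ p ⁻¹ᵁ U) :
    mres L (i.preimage_mono h) (sig hL i τ U hU a) =
      τ.hom.app (i ⁻¹ᵁ D) (M2.pullSec i O1 (mres O1 h (phi hL U hU a.1 a.2))) := by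
  rw [sig, ← app_mres, mres_pullSec i h]

theorem isGen_sig (U : S.Opens) (hU : IsAffineOpen U) (f : 𝒮.deg U hU 1) :
    Twist.IsGen L (i ⁻¹ᵁ dd p chart U hU f.1) (mres L (i.preimage_mono (dd_le U hU f.1)) (sig hL i τ U hU f)) := by
  rw [mres_sig hL i τ U hU f (dd_le U hU f.1)]
  exact isGen_map_iso τ (Twist.IsGen.pullback i (isGen_phi hL U hU f.2))

theorem sig_eq_smul (U : S.Opens) (hU : IsAffineOpen U) (f a : 𝒮.deg U hU 1) :
    mres L (i.preimage_mono (dd_le (p := p) (chart := chart) U hU f.1)) (sig hL i τ U hU a) =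
      i.app (dd p chart U hU f.1) (rat p chart U hU f.2 a.1) •
        mres L (i.preimage_mono (dd_le (p := p) (chart := chart) U hU f.1)) (sig hL i τ U hU f) := by
  rw [mres_sig hL i τ U hU a (dd_le U hU f.1), mres_sig hL i τ U hU f (dd_le U hU f.1),
    phi_eq_rat_smul hL U hU f.2 a.2, M2.pullSec_smul, Scheme.Modules.Hom.app_smul]

theorem gl_sig (hgen : 𝒮.IsGenDegOne) (U : S.Opens) (hU : IsAffineOpen U) (f : 𝒮.deg U hU 1) :
    gl (sig hL i τ U hU f) = i ⁻¹ᵁ dd p chart U hU f.1 := by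
  refine le_antisymm (fun x hx => ?_) (le_gl _ (isGen_sig hL i τ U hU f))
  have hxU : i x ∈ p ⁻¹ᵁ U := gl_le (sig hL i τ U hU f) hx
  obtain ⟨g, hg, hxg⟩ := mem_dd_of_mem (chart := chart) (hU := hU) hgen hxU
  let g' : 𝒮.deg U hU 1 := ⟨g, hg⟩
  let D := i ⁻¹ᵁ dd p chart U hU g
  let c : Γ(X, D) := i.app (dd p chart U hU g) (rat p chart U hU hg f.1)
  have hDg : D ≤ gl (sig hL i τ U hU g') := le_gl _ (isGen_sig hL i τ U hU g')
  have hc : ores hDg (cf (sig hL i τ U hU g') (sig hL i τ U hU f)) = c :=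
    ores_cf_eq hDg (sig_eq_smul hL i τ U hU g' f).symm
  have h0 : x ∈ gl (sig hL i τ U hU g') ⊓ gl (sig hL i τ U hU f) := ⟨hDg hxg, hx⟩
  rw [gl_inf_gl] at h0
  have h1 : x ∈ X.basicOpen c := by
    rw [← hc, basicOpen_ores]
    exact Opens.mem_inf.mpr ⟨hxg, h0⟩
  have h2 : x ∈ i ⁻¹ᵁ P.basicOpen (rat p chart U hU hg f.1) :=
    (Scheme.preimage_basicOpen i (rat p chart U hU hg f.1)).ge h1
  have h3 := basicOpen_rat (p := p) (chart := chart) U hU hg f.2 h2
  exact h3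

include hL in
/-- An immersion into a relative `Proj` satisfies the criterion over every affine open. -/
theorem va_of_immersion [IsImmersion i] (hgen : 𝒮.IsGenDegOne) (U : S.Opens) (hU : IsAffineOpen U) :
    VA ((i ≫ p).app U).hom (fun a : 𝒮.deg U hU 1 => sig hL i τ U hU a) := by
  intro x hx
  obtain ⟨f, hf, hxf⟩ := mem_dd_of_mem (chart := chart) (hU := hU) hgen (hx : i x ∈ p ⁻¹ᵁ U)
  let f' : 𝒮.deg U hU 1 := ⟨f, hf⟩
  let σ : 𝒮.deg U hU 1 → Γ(L, i ⁻¹ᵁ (p ⁻¹ᵁ U)) := fun a => sig hL i τ U hU a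
  have hge : i ⁻¹ᵁ dd p chart U hU f ≤ gl (σ f') := (gl_sig hL i τ hgen U hU f').ge
  have hle : gl (σ f') ≤ i ⁻¹ᵁ dd p chart U hU f := (gl_sig hL i τ hgen U hU f').le
  let ev : 𝒮.presheaf.obj (op U) →+* Γ(X, gl (σ f')) :=
    (ores hle).hom.comp ((i.app (dd p chart U hU f)).hom.comp (rat p chart U hU hf))
  have hev1 : ∀ a : 𝒮.deg U hU 1, ev a.1 = cf (σ f') (σ a) := fun a => by
    refine ores_injective hge hle ?_
    show ores hge (ores hle _) = _
    rw [ores_ores, ores_id]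
    exact (ores_cf_eq hge (sig_eq_smul hL i τ U hU f' a).symm).symm
  have hev : ∀ a, ev a ∈ ratSub ((i ≫ p).app U).hom σ f' := by
    intro a
    have ha : a ∈ Subring.closure ((𝒮.deg U hU 0 : Set (𝒮.presheaf.obj (op U))) ∪ (𝒮.deg U hU 1 : Set _)) :=
      hgen U hU ▸ Subring.mem_top a
    revert a
    show Subring.closure _ ≤ (ratSub ((i ≫ p).app U).hom σ f').comap ev
    rw [Subring.closure_le]
    rintro a (ha | ha)
    · have h1 : a * f ∈ 𝒮.deg U hU 1 := by simpa using SetLike.mul_mem_graded ha hf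
      have h2 := hev1 ⟨a * f, h1⟩
      have h3 : ev f = 1 := (hev1 f').trans (cf_self _)
      rw [map_mul, h3, mul_one] at h2
      rw [SetLike.mem_coe, Subring.mem_comap, h2]
      exact cf_mem_ratSub _
    · rw [SetLike.mem_coe, Subring.mem_comap, hev1 ⟨a, ha⟩]
      exact cf_mem_ratSub _
  obtain ⟨y, hy, hyx⟩ := hxf
  have hA := Proj.isAffineOpen_basicOpen (𝒮.deg U hU) f hf one_pos
  obtain ⟨h, hh, hyh⟩ := hA.exists_basicOpen_le (V := RelProj.emb p chart U hU ⁻¹ᵁ i.coborderRange)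
    ⟨y, show RelProj.emb p chart U hU y ∈ i.coborderRange from hyx ▸ subset_coborder ⟨x, rfl⟩⟩ hy
  haveI : IsIso (Proj.awayToSection (𝒮.deg U hU) f) := by
    rw [← Proj.basicOpenIsoAway_hom (𝒮.deg U hU) f hf one_pos]; infer_instance
  obtain ⟨q, hq⟩ := (ConcreteCategory.bijective_of_isIso (Proj.awayToSection (𝒮.deg U hU) f)).2 h
  obtain ⟨a, rfl⟩ := dh_surjective (𝒮.deg U hU) hf q
  let r := rat p chart U hU hf a
  have hD : IsAffineOpen (dd p chart U hU f) := hA.image_of_isOpenImmersion _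
  have hE : IsAffineOpen (P.basicOpen r) := hD.basicOpen r
  have hpre : RelProj.emb p chart U hU ⁻¹ᵁ P.basicOpen r = (Proj (𝒮.deg U hU)).basicOpen h := by
    rw [Scheme.preimage_basicOpen, app_rat, basicOpen_ores, hq, inf_eq_right]
    exact (Scheme.basicOpen_le _ _).trans (preimage_dd U hU f).ge
  have hxE : i x ∈ P.basicOpen r := by
    have : y ∈ RelProj.emb p chart U hU ⁻¹ᵁ P.basicOpen r := hpre ▸ hyh
    exact hyx ▸ this
  have hEO : P.basicOpen r ≤ i.coborderRange := by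
    intro z hz
    obtain ⟨y', -, rfl⟩ := P.basicOpen_le _ hz
    exact hh (hpre ▸ hz : y' ∈ (Proj (𝒮.deg U hU)).basicOpen h)
  have hci : IsClosedImmersion (i ∣_ P.basicOpen r) :=
    (restrict_comp_ι_iff i.liftCoborder i i.liftCoborder_ι hEO @IsClosedImmersion).1
      (IsZariskiLocalAtTarget.restrict (P := @IsClosedImmersion) (f := i.liftCoborder) inferInstance _)
  haveI : IsAffine (P.basicOpen r : Scheme.{u}) := hE
  obtain ⟨haff, hsurj⟩ := IsClosedImmersion.isAffine_surjective_of_isAffine (f := i ∣_ P.basicOpen r)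
  have hbo : X.basicOpen (ev a) = i ⁻¹ᵁ P.basicOpen r := by
    rw [Scheme.preimage_basicOpen]
    show X.basicOpen (ores hle (i.app _ r)) = _
    rw [basicOpen_ores, inf_eq_right]
    exact (X.basicOpen_le _).trans hge
  refine ⟨f', ev a, hev a, hbo ▸ hxE, hbo ▸ haff, ?_⟩
  rw [eq_top_iff]
  intro t _
  have hsurj' : Function.Surjective (i.appLE (P.basicOpen r) (X.basicOpen (ev a)) hbo.le) := by
    rw [morphismRestrict_appTop, Scheme.Hom.app_eq_appLE, Scheme.Hom.appLE_map] at hsurj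
    have key : ∀ (E : P.Opens) (D : X.Opens) (h₀ : D ≤ i ⁻¹ᵁ E) (E' : P.Opens) (D' : X.Opens)
        (h₁ : D' ≤ i ⁻¹ᵁ E'), E = E' → D = D' → Function.Surjective (i.appLE E D h₀) →
        Function.Surjective (i.appLE E' D' h₁) := fun E D h₀ E' D' h₁ e1 e2 h => by subst e1 e2; exact h
    exact key _ _ _ _ _ _ (Scheme.Opens.ι_image_top _) ((Scheme.Opens.ι_image_top _).trans hbo.symm) hsurj
  obtain ⟨t', rfl⟩ := hsurj' t
  letI : Algebra Γ(P, dd p chart U hU f) Γ(P, P.basicOpen r) := (ores (P.basicOpen_le r)).hom.toAlgebra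
  haveI : IsLocalization.Away r Γ(P, P.basicOpen r) := hD.isLocalization_basicOpen r
  obtain ⟨k, s, hs⟩ := IsLocalization.Away.surj r t'
  obtain ⟨c, rfl⟩ : ∃ c, rat p chart U hU hf c = s := by
    have hb : Function.Bijective ((RelProj.emb p chart U hU).app (dd p chart U hU f)) :=
      ConcreteCategory.bijective_of_isIso _
    obtain ⟨q', hq'⟩ := (ConcreteCategory.bijective_of_isIso (Proj.awayToSection (𝒮.deg U hU) f)).2
      (ores (preimage_dd U hU f).ge ((RelProj.emb p chart U hU).app (dd p chart U hU f) s))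
    obtain ⟨c, rfl⟩ := dh_surjective (𝒮.deg U hU) hf q'
    refine ⟨c, hb.1 ?_⟩
    rw [app_rat, hq', ores_ores, ores_id]
  refine ⟨k, ev c, hev c, ?_⟩
  have hnat : ∀ z : Γ(P, dd p chart U hU f),
      (i.appLE (P.basicOpen r) (X.basicOpen (ev a)) hbo.le) (ores (P.basicOpen_le r) z) =
        ores (X.basicOpen_le (ev a)) (ores hle (i.app (dd p chart U hU f) z)) := fun z => by
    rw [← ConcreteCategory.comp_apply, ← ConcreteCategory.comp_apply, ← ConcreteCategory.comp_apply]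
    simp [Scheme.Hom.app_eq_appLE]
  have h1 := congrArg (i.appLE (P.basicOpen r) (X.basicOpen (ev a)) hbo.le) hs
  rw [map_mul, map_pow] at h1
  refine Eq.trans ?_ (h1.trans (hnat _))
  show _ * ores (X.basicOpen_le (ev a)) (ev a) ^ k = _
  rw [show ores (X.basicOpen_le (ev a)) (ev a) =
    (i.appLE (P.basicOpen r) (X.basicOpen (ev a)) hbo.le) (ores (P.basicOpen_le r) r) from (hnat r).symm]
  rfl

end Groth.Agent.VA11
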