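import Groth.Agent.Lib.VeryAmple11.AmplePow
import Groth.Agent.Lib.VeryAmple11.FT
import Groth.Agent.Lib.TensorMod.PullTensor

/-!
Very ampleness for a composite, after a twist by a high power from the middle scheme.
-/

set_option autoImplicit false

universe u

open CategoryTheory Limits AlgebraicGeometry TopologicalSpace Opposite

set_option backward.isDefEq.respectTransparency false

noncomputable section

namespace Groth.Agent.VA11

open Groth.Agent.M1

variable {X Y Z : Scheme.{u}}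

theorem appLE_ores {X Y : Scheme.{u}} (f : X ⟶ Y) {U V : Y.Opens} (h : V ≤ U) {W : X.Opens} (e : W ≤ f ⁻¹ᵁ V)
    (r : Γ(Y, U)) : f.appLE V W e (ores h r) = f.appLE U W (e.trans (f.preimage_mono h)) r :=
  ConcreteCategory.congr_hom (Scheme.Hom.map_appLE f e (homOfLE h).op) r

/-- The twist by `(K^N)^(q+1) ⊗ K`, bracketed as the proof produces it. -/
abbrev twistMod (f : X ⟶ Y) (L : X.Modules) (K : Y.Modules) (N q : ℕ) : X.Modules :=
  CohB1.tensorMod
    (CohB1.tensorMod L ((Scheme.Modules.pullback f).obj (CohB1.tensorPow (CohB1.tensorPow K N) q)))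
    ((Scheme.Modules.pullback f).obj (CohB1.tensorMod (CohB1.tensorPow K N) K))

set_option maxHeartbeats 1000000 in
/-- Over an affine locus of a power of `K`, sections which extend after twisting separate. -/
theorem vaat_comp (f : X ⟶ Y) (g : Y ⟶ Z) {L : X.Modules} (hL : PicF.IsInvertible L) {K : Y.Modules}
    (hK : PicF.IsInvertible K) {EK : Z.Modules} {φK : EK ⟶ (Scheme.Modules.pushforward g).obj K}
    {eK : Γ(EK, ⊤)} {bK : Γ(Y, gl (secs φK ⊤ eK))} (hbK : bK ∈ ratSub (g.app ⊤).hom (secs φK ⊤) eK)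
    (hAK : IsAffineOpen (Y.basicOpen bK))
    (hfrK : fracs (ores (Y.basicOpen_le bK)).hom (ratSub (g.app ⊤).hom (secs φK ⊤) eK) bK hbK = ⊤)
    {N : ℕ} (s : Coh.structureModule Y ⟶ CohB1.tensorPow K N)
    (hHG : CohB1.genLocus _ s ≤ Y.basicOpen bK)
    {E : Y.Modules} {φ : E ⟶ (Scheme.Modules.pushforward f).obj L} (T : Finset Γ(E, CohB1.genLocus _ s)) (q : ℕ)
    (hext : ∀ m ∈ T, ∃ t : Γ(CohB1.tensorMod E (CohB1.tensorPow (CohB1.tensorPow K N) q), ⊤),
      mres _ (le_top : CohB1.genLocus _ s ≤ ⊤) t =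
        M2.tsec E _ m (Amp.pw (mres _ (le_top : CohB1.genLocus _ s ≤ ⊤) (Amp.gval s)) q))
    {z : X} (hz : VAat (f.app (CohB1.genLocus _ s)).hom (fun m : T => secs φ _ m.1) z) :
    VAat ((f ≫ g).app ⊤).hom
      (secs (𝟙 ((Scheme.Modules.pushforward (f ≫ g)).obj (twistMod f L K N q))) ⊤) z := by
  let M := CohB1.tensorPow K N
  let H := CohB1.genLocus M s
  let Mq := CohB1.tensorPow M q
  let MK := CohB1.tensorMod M K
  have hM : PicF.IsInvertible M := Amp.isInvertible_tensorPow hK N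
  have hMq : PicF.IsInvertible Mq := Amp.isInvertible_tensorPow hM q
  have hMK : PicF.IsInvertible MK := M2.isInvertible_tensor hM hK
  have hfMq := Twist.isInvertible_pullback f hMq
  have hfMK := Twist.isInvertible_pullback f hMK
  have hLq := M2.isInvertible_tensor hL hfMq
  let sM : Γ(M, ⊤) := Amp.gval s
  let κ : Γ(EK, ⊤) → Γ(K, ⊤) := secs φK ⊤
  let ξ : CohB1.tensorMod E Mq ⟶
      (Scheme.Modules.pushforward f).obj (CohB1.tensorMod L ((Scheme.Modules.pullback f).obj Mq)) :=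
    M2.mkHom
      { f := fun U a c => prodSec (secs φ U a) (M2.pullSec f Mq c)
        add_left := fun U s s' t => by simp only [secs, map_add]; exact M2.tsec_add_left _ _ _
        smul_left := fun U r s t => by simp only [secs_smul]; exact M2.tsec_smul_left _ _ _
        add_right := fun U s t t' => by simp only [map_add]; exact M2.tsec_add_right _ _ _
        smul_right := fun U r s t => by simp only [M2.pullSec_smul]; exact M2.tsec_smul_right _ _ _
        compat := fun {U V} hVU s t => by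
          show prodSec (secs φ V (mres E hVU s)) (M2.pullSec f Mq (mres Mq hVU t)) =
            mres _ (f.preimage_mono hVU) (prodSec (secs φ U s) (M2.pullSec f Mq t))
          rw [mres_prodSec, ← secs_res φ hVU, ← mres_pullSec f hVU] }
  choose t ht using fun m : T => hext m.1 m.2
  let σ1 : T → Γ(CohB1.tensorMod L ((Scheme.Modules.pullback f).obj Mq), f ⁻¹ᵁ (⊤ : Y.Opens)) :=
    fun m => secs ξ ⊤ (t m)
  let v : Γ((Scheme.Modules.pullback f).obj Mq, f ⁻¹ᵁ H) :=
    M2.pullSec f Mq (Amp.pw (mres M (le_top : H ≤ ⊤) sM) q)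
  have hres : ∀ m, mres _ (f.preimage_mono (le_top : H ≤ ⊤)) (σ1 m) = prodSec (secs φ H m.1) v := fun m => by
    rw [secs_res ξ (le_top : H ≤ ⊤)]
    refine (congrArg (secs ξ H) (ht m)).trans ?_
    exact M2.mkHom_tsec _ _ _
  have hglv : gl v = f ⁻¹ᵁ H := by
    refine le_antisymm (gl_le v) fun y hy => ?_
    rw [gl_pullSec f hMq]
    refine (mem_gl_iff hMq (W := H) hy).2 (Amp.gen_pw hM hy _ q ?_)
    exact (Amp.gm_res (le_top : H ≤ ⊤) hy sM).symm ▸ (Amp.mem_genLocus_iff hM s).1 hy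
  let σ' : T → Γ(EK, ⊤) → Γ(twistMod f L K N q, f ⁻¹ᵁ (⊤ : Y.Opens)) := fun m k =>
    prodSec (σ1 m) (M2.pullSec f MK (prodSec sM (κ k)))
  obtain ⟨e, b, hb, hzb, hA, hfr⟩ := hz
  let sT : T → Γ(L, f ⁻¹ᵁ H) := fun m => secs φ H m.1
  have hglK : H ≤ gl (κ eK) := hHG.trans (Y.basicOpen_le bK)
  have hgl1 : gl (σ1 e) ⊓ f ⁻¹ᵁ H = gl (sT e) := by
    rw [← gl_mres (f.preimage_mono (le_top : H ≤ ⊤)), gl_congr (hres e), gl_prodSec hL hfMq, hglv]
    exact inf_eq_left.2 (gl_le (sT e))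
  have hgl : gl (σ' e eK) = gl (sT e) := by
    rw [gl_prodSec hLq hfMK, gl_pullSec f hMK, gl_prodSec hM hK, gl_gval hM, inf_eq_left.2 hglK, hgl1]
  let e'' : Γ((Scheme.Modules.pushforward (f ≫ g)).obj (twistMod f L K N q), ⊤) := σ' e eK
  let σ'' := secs (𝟙 ((Scheme.Modules.pushforward (f ≫ g)).obj (twistMod f L K N q))) (⊤ : Z.Opens)
  let R'' := ratSub ((f ≫ g).app ⊤).hom σ'' e''
  let γ : Γ(X, gl (sT e)) →+* Γ(X, gl (σ'' e'')) := (ores hgl.le).hom
  have hleK : gl (σ'' e'') ≤ f ⁻¹ᵁ gl (κ eK) := hgl.le.trans ((gl_le (sT e)).trans (f.preimage_mono hglK))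
  let θ : Γ(Y, gl (κ eK)) →+* Γ(X, gl (σ'' e'')) := (f.appLE _ _ hleK).hom
  have hcfK : ∀ k, θ (cf (κ eK) (κ k)) ∈ R'' := fun k => by
    have h0 := cf_mem_ratSub (ρ := ((f ≫ g).app ⊤).hom) (σ := σ'') (e := e'')
      (show Γ((Scheme.Modules.pushforward (f ≫ g)).obj (twistMod f L K N q), ⊤) from σ' e k)
    convert h0 using 1
    show f.appLE (gl (κ eK)) (gl (σ' e eK)) hleK (cf (κ eK) (κ k)) = cf (σ' e eK) (σ' e k)
    rw [cf_prodSec hLq hfMK, cf_self, map_one, one_mul, cf_pullSec f hMK, cf_prodSec hM hK, cf_self, map_one,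
      one_mul, ores_ores, ores_app, appLE_ores]
  have hθ : ∀ a ∈ ratSub (g.app ⊤).hom (secs φK ⊤) eK, θ a ∈ R'' := fun a ha => by
    refine map_ratSub_le θ R'' (fun r => ?_) hcfK ha
    have h0 := base_mem_ratSub (ρ := ((f ≫ g).app ⊤).hom) (σ := σ'') (e := e'') r
    convert h0 using 1
    show f.appLE (gl (κ eK)) _ hleK (ores (gl_le (κ eK)) (g.app ⊤ r)) = ores _ (f.app _ (g.app ⊤ r))
    rw [appLE_ores]
    rfl
  have hcfT : ∀ m, γ (cf (sT e) (sT m)) ∈ R'' := fun m => by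
    have h0 := cf_mem_ratSub (ρ := ((f ≫ g).app ⊤).hom) (σ := σ'') (e := e'')
      (show Γ((Scheme.Modules.pushforward (f ≫ g)).obj (twistMod f L K N q), ⊤) from σ' m eK)
    convert h0 using 1
    show ores hgl.le (cf (sT e) (sT m)) = cf (σ' e eK) (σ' m eK)
    rw [cf_prodSec hLq hfMK, cf_self, map_one, mul_one]
    have h1 : gl (prodSec (sT e) v) ≤ gl (σ1 e) := by
      rw [gl_prodSec hL hfMq, hglv, inf_eq_left.2 (gl_le (sT e)), ← hgl1]
      exact inf_le_left
    have h2 := cf_of_mres (hres e).symm (hres m).symm h1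
    rw [cf_prodSec hL hfMq, cf_self, map_one, mul_one] at h2
    have h3 : gl (σ' e eK) ≤ gl (prodSec (sT e) v) := by
      rw [gl_prodSec hL hfMq, hglv, inf_eq_left.2 (gl_le (sT e))]; exact hgl.le
    have h4 := congrArg (ores h3) h2
    rw [ores_ores, ores_ores] at h4
    exact h4.symm
  let G := Y.basicOpen bK
  let eN := Amp.pw (κ eK) N
  have hGe : G ≤ gl eN := fun y hy => by
    have hy' : y ∈ gl (κ eK) := Y.basicOpen_le bK hy
    exact (mem_gl_iff hM (W := ⊤) trivial).2 (Amp.gen_pw hK _ _ N ((mem_gl_iff hK (W := ⊤) trivial).1 hy'))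
  let h : Γ(Y, G) := ores hGe (cf eN sM)
  have hh : Y.basicOpen h = H := by
    rw [basicOpen_ores, ← gl_inf_gl, gl_gval hM]
    refine le_antisymm (inf_le_right.trans inf_le_right) (le_inf hHG (le_inf (hHG.trans hGe) le_rfl))
  have hfrac : ∀ a : Γ(Y, G), ∃ (k : ℕ) (c : Γ(Y, gl (κ eK))),
      c ∈ ratSub (g.app ⊤).hom (secs φK ⊤) eK ∧ a * ores (Y.basicOpen_le bK) bK ^ k = ores (Y.basicOpen_le bK) c :=
    fun a => (show a ∈ fracs (ores (Y.basicOpen_le bK)).hom (ratSub (g.app ⊤).hom (secs φK ⊤) eK) bK hbK from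
      hfrK ▸ Subring.mem_top a)
  obtain ⟨k0, a0, ha0, hk0⟩ := hfrac h
  let u := θ (bK * a0)
  have hu : u ∈ R'' := hθ _ (mul_mem hbK ha0)
  let θH : Γ(Y, H) →+* Γ(X, gl (σ'' e'')) := (f.appLE H _ (hgl.le.trans (gl_le (sT e)))).hom
  have hθH : ∀ c, θ c = θH (ores hglK c) := fun c => (appLE_ores f hglK _ c).symm
  have hθH' : ∀ c : Γ(Y, gl (κ eK)), ores hglK c = ores hHG (ores (Y.basicOpen_le bK) c) := fun c =>
    (ores_ores _ _ c).symm
  let Q1 := fracs (RingHom.id Γ(X, gl (σ'' e''))) R'' u hu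
  have hQ : ∀ c : Γ(Y, H), θH c ∈ Q1 := fun c => by
    letI : Algebra Γ(Y, G) Γ(Y, H) := (ores hHG).hom.toAlgebra
    haveI : IsLocalization.Away h Γ(Y, H) := hAK.isLocalization_of_eq_basicOpen h (homOfLE hHG) hh.symm
    obtain ⟨i, c0, hc0⟩ := IsLocalization.Away.surj h c
    obtain ⟨k, a, ha, hk⟩ := hfrac c0
    refine ⟨i + k, θ (a * bK ^ (k0 * i)) * θ (bK ^ i * a0 ^ k),
      mul_mem (hθ _ (mul_mem ha (pow_mem hbK _))) (hθ _ (mul_mem (pow_mem hbK _) (pow_mem ha0 _))), ?_⟩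
    show θH c * u ^ (i + k) = θ _ * θ _
    simp only [u, hθH, ← map_pow, ← map_mul]
    congr 1
    have e1 : c * ores hHG h ^ i = ores hHG c0 := hc0
    simp only [map_mul, map_pow, hθH', ← hk, ← hk0]
    rw [← e1]
    ring
  let P0 := Q1.comap γ
  have hbQ : ∀ a ∈ ratSub (f.app H).hom sT e, γ a ∈ Q1 := fun a ha => by
    refine map_ratSub_le γ Q1 (fun r => ?_) (fun m => ⟨0, _, hcfT m, by rw [pow_zero, mul_one]; rfl⟩) ha
    show ores hgl.le (ores (gl_le (sT e)) (f.app H r)) ∈ Q1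
    rw [ores_ores, ores_app]
    exact hQ r
  obtain ⟨j, ab, hab, hj⟩ := hbQ b hb
  have hj' : γ b * u ^ j = ab := hj
  have huu : X.basicOpen u = gl (σ'' e'') := by
    refine le_antisymm (X.basicOpen_le _) ?_
    show _ ≤ X.basicOpen (f.appLE (gl (κ eK)) _ hleK (bK * a0))
    rw [Scheme.basicOpen_appLE]
    refine le_inf le_rfl ((hgl.le.trans (gl_le (sT e))).trans (f.preimage_mono ?_))
    rw [Scheme.basicOpen_mul]
    refine le_inf hHG (le_trans ?_ (inf_le_right : G ⊓ Y.basicOpen a0 ≤ _))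
    rw [← basicOpen_ores (Y.basicOpen_le bK), ← hk0, Scheme.basicOpen_mul, hh, ← map_pow, basicOpen_ores]
    rcases Nat.eq_zero_or_pos k0 with h0 | h0
    · rw [h0, pow_zero, Scheme.basicOpen_of_isUnit _ isUnit_one]
      exact le_inf le_rfl (le_inf hHG hglK)
    · rw [Scheme.basicOpen_pow _ _ h0]
      exact le_inf le_rfl (le_inf hHG hHG)
  have hbd : X.basicOpen (ab * u) = X.basicOpen b := by
    rw [← hj', mul_assoc, ← pow_succ, Scheme.basicOpen_mul, Scheme.basicOpen_pow _ _ (Nat.succ_pos j), huu]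
    show X.basicOpen (ores hgl.le b) ⊓ _ = _
    rw [basicOpen_ores]
    exact le_antisymm (inf_le_left.trans inf_le_right)
      (le_inf (le_inf ((X.basicOpen_le b).trans hgl.ge) le_rfl) ((X.basicOpen_le b).trans hgl.ge))
  refine ⟨e'', ab * u, mul_mem hab hu, hbd.ge hzb, hbd ▸ hA, ?_⟩
  let P := fracs (ores (X.basicOpen_le (ab * u))).hom R'' (ab * u) (mul_mem hab hu)
  let r := ores (X.basicOpen_le (ab * u))
  have hP : ∀ c ∈ Q1, r c ∈ P := by
    rintro c ⟨i, a, ha, hi⟩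
    refine ⟨i, a * ab ^ i, mul_mem ha (pow_mem hab i), ?_⟩
    have hi' : c * u ^ i = a := hi
    show r c * r (ab * u) ^ i = r (a * ab ^ i)
    rw [← hi', ← map_pow, ← map_mul]
    congr 1
    ring
  rw [eq_top_iff]
  intro c _
  obtain ⟨k, a, ha, hk⟩ : ores hbd.ge c ∈
      fracs (ores (X.basicOpen_le b)).hom (ratSub (f.app H).hom sT e) b hb := hfr ▸ Subring.mem_top _
  have hk' : c * r (γ b) ^ k = r (γ a) := by
    apply ores_injective hbd.ge hbd.le
    show ores hbd.ge _ = ores hbd.ge _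
    simp only [map_mul, map_pow, r, γ, ores_ores]
    exact hk
  obtain ⟨i, a', ha', hi⟩ : c * r (ab * u) ^ k ∈ P := by
    have h1 : c * r (ab * u) ^ k = r (γ a * u ^ ((j + 1) * k)) := by
      have hab2 : r ab = r (γ b) * r u ^ j := by rw [← map_pow, ← map_mul, hj']
      simp only [map_mul, map_pow, hab2, ← hk']
      ring
    rw [h1, map_mul]
    exact mul_mem (hP _ (hbQ a ha)) (hP _ ⟨0, _, pow_mem hu _, by rw [pow_zero, mul_one]; rfl⟩)
  have hi' : c * r (ab * u) ^ k * r (ab * u) ^ i = r a' := hi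
  exact ⟨k + i, a', ha', by rw [pow_add, ← mul_assoc]; exact hi'⟩

set_option maxHeartbeats 1000000 in
/-- Over an affine base, one twist of this shape is very ample. -/
theorem exists_isRelVeryAmple_twistMod [IsAffine Z] (f : X ⟶ Y) [QuasiCompact f] [LocallyOfFiniteType f]
    (g : Y ⟶ Z) [QuasiCompact g] {L : X.Modules} (hL : PicF.IsInvertible L) (hLva : RelProj.IsRelVeryAmple f L)
    {K : Y.Modules} (hK : PicF.IsInvertible K) (hKva : RelProj.IsRelVeryAmple g K) :
    ∃ N q : ℕ, RelProj.IsRelVeryAmple (f ≫ g) (twistMod f L K N q) := by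
  classical
  haveI : IsSeparated f := isSeparated_of_isRelVeryAmple hLva
  haveI : IsSeparated g := isSeparated_of_isRelVeryAmple hKva
  haveI : CompactSpace Y := QuasiCompact.compactSpace_of_compactSpace g
  haveI : CompactSpace X := QuasiCompact.compactSpace_of_compactSpace f
  obtain ⟨EK, φK, -, hvaK⟩ := exists_va_of_isRelVeryAmple hKva
  obtain ⟨E, φ, hE, hva⟩ := exists_va_of_isRelVeryAmple hLva
  have hamp : CohB1.IsAmple K := (RA.isRelAmple_iff_isAmple g).1 (isRelAmple_of_isRelVeryAmple hKva)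
  haveI : QuasiSeparatedSpace Y := Amp.quasiSeparatedSpace_of_isAmple hamp
  choose eK bK hbK hyK hAK hfrK using fun y : Y => hvaK ⊤ (isAffineOpen_top Z) y trivial
  choose k H hH hyH hle hA using fun y : Y => Amp.exists_hasSec_le hamp (hyK y)
  obtain ⟨A, hAcov⟩ := isCompact_univ.elim_finite_subcover (fun y => (H y : Set Y)) (fun y => (H y).isOpen)
    fun y _ => Set.mem_iUnion.2 ⟨y, hyH y⟩
  let N := ∏ y ∈ A, (k y + 1)
  have hN : 0 < N := Finset.prod_pos fun y _ => Nat.succ_pos _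
  have hH' : ∀ y : A, Amp.HasSec K N (H y) := fun y => by
    obtain ⟨c, hc⟩ := Finset.dvd_prod_of_mem (fun y => k y + 1) y.2
    have hN' := hN
    rw [show N = (k y + 1) * c from hc] at hN' ⊢
    obtain ⟨c', rfl⟩ := Nat.exists_eq_succ_of_ne_zero (n := c) (fun h0 => by simp [h0] at hN')
    exact (hH y).powPow hK c'
  choose s hs using hH'
  have hM : PicF.IsInvertible (CohB1.tensorPow K N) := Amp.isInvertible_tensorPow hK N
  have hx : ∀ x : X, ∃ y : A, f x ∈ CohB1.genLocus _ (s y) := fun x => by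
    obtain ⟨y, hy, hxy⟩ := Set.mem_iUnion₂.1 (hAcov (Set.mem_univ (f x)))
    exact ⟨⟨y, hy⟩, (hs ⟨y, hy⟩).ge hxy⟩
  choose yx hyx using hx
  choose T O hxO hO using fun x : X => exists_finset_vaat_self
    ((hs (yx x)).symm ▸ hA (yx x) : IsAffineOpen (CohB1.genLocus _ (s (yx x))))
    (hva _ ((hs (yx x)).symm ▸ hA (yx x)) x (hyx x))
  obtain ⟨B, hB⟩ := isCompact_univ.elim_finite_subcover (fun x => (O x : Set X)) (fun x => (O x).isOpen)
    fun x _ => Set.mem_iUnion.2 ⟨x, hxO x⟩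
  haveI := hE
  choose n₁ hn₁ using fun p : Σ x : B, T x.1 => Amp.exists_extend_genLocus hM (s (yx p.1.1)) E p.2.1
  let q := Finset.univ.sup n₁
  refine ⟨N, q, isRelVeryAmple_of_vamp (isQCoh_push (f ≫ g) (Twist.isQCoh_of_isInvertible
    (M2.isInvertible_tensor (M2.isInvertible_tensor hL (Twist.isInvertible_pullback f
      (Amp.isInvertible_tensorPow hM q))) (Twist.isInvertible_pullback f (M2.isInvertible_tensor hM hK)))))
    (𝟙 _) fun z => ⟨⊤, isAffineOpen_top Z, ?_⟩⟩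
  obtain ⟨x, hxB, hzx⟩ := Set.mem_iUnion₂.1 (hB (Set.mem_univ z))
  refine vaat_comp f g hL hK (hbK _) (hAK _) (hfrK _) (s (yx x)) ((hs (yx x)).le.trans (hle _)) (T x) q
    (fun m hm => hn₁ ⟨⟨x, hxB⟩, m, hm⟩ q (Finset.le_sup (Finset.mem_univ _))) (hO x z hzx)

/-- Over an affine base, all large twists are very ample. -/
theorem exists_forall_isRelVeryAmple_comp [IsAffine Z] (f : X ⟶ Y) [QuasiCompact f] [LocallyOfFiniteType f]
    (g : Y ⟶ Z) [QuasiCompact g] {L : X.Modules} (hL : PicF.IsInvertible L) (hLva : RelProj.IsRelVeryAmple f L)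
    {K : Y.Modules} (hK : PicF.IsInvertible K) (hKva : RelProj.IsRelVeryAmple g K) :
    ∃ n₀ : ℕ, ∀ n, n₀ ≤ n → RelProj.IsRelVeryAmple (f ≫ g)
      (CohB1.tensorMod L ((Scheme.Modules.pullback f).obj (CohB1.tensorPow K n))) := by
  obtain ⟨N, q, h⟩ := exists_isRelVeryAmple_twistMod f g hL hLva hK hKva
  haveI : IsSeparated f := isSeparated_of_isRelVeryAmple hLva
  haveI : IsSeparated g := isSeparated_of_isRelVeryAmple hKva
  haveI : CompactSpace Y := QuasiCompact.compactSpace_of_compactSpace g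
  have hamp : CohB1.IsAmple K := (RA.isRelAmple_iff_isAmple g).1 (isRelAmple_of_isRelVeryAmple hKva)
  obtain ⟨N₀, hN₀⟩ := RA.exists_gen_pow hamp
  let n₁ := N * q + (N + 1)
  have h' : RelProj.IsRelVeryAmple (f ≫ g)
      (CohB1.tensorMod L ((Scheme.Modules.pullback f).obj (CohB1.tensorPow K n₁))) := by
    refine isRelVeryAmple_of_iso ?_ h
    exact M2.tensorAssoc _ _ _ ≪≫ M2.tensorIso (Iso.refl L) ((M2.pullTensorIso f _ _).symm ≪≫
      (Scheme.Modules.pullback f).mapIso (M2.tensorIso (M2.tensorPowPow K N q)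
        (M2.tensorIso (Iso.refl _) (M2.tensorPowOne K).symm ≪≫ (M2.tensorPowAdd K N 1).symm) ≪≫
        (M2.tensorPowAdd K (N * q) (N + 1)).symm))
  refine ⟨n₁ + N₀, fun n hn => ?_⟩
  have hKj : PicF.IsInvertible (CohB1.tensorPow K (n - n₁)) := Amp.isInvertible_tensorPow hK _
  have hT : PicF.IsInvertible ((Scheme.Modules.pullback f).obj (CohB1.tensorPow K (n - n₁))) :=
    Twist.isInvertible_pullback f hKj
  refine isRelVeryAmple_of_iso ?_ (isRelVeryAmple_tensor
    (M2.isInvertible_tensor hL (Twist.isInvertible_pullback f (Amp.isInvertible_tensorPow hK n₁))) hT h'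
    (isQCoh_push (f ≫ g) (Twist.isQCoh_of_isInvertible hT)) _ (gens_of_genLocus (f ≫ g) hT fun x => ?_))
  · exact M2.tensorAssoc _ _ _ ≪≫ M2.tensorIso (Iso.refl L) ((M2.pullTensorIso f _ _).symm ≪≫
      (Scheme.Modules.pullback f).mapIso ((M2.tensorPowAdd K n₁ (n - n₁)).symm ≪≫
        eqToIso (by rw [show n₁ + (n - n₁) = n by omega])))
  · obtain ⟨t, ht⟩ := hN₀ (n - n₁) (by omega) (f x)
    refine ⟨(PicLoc.pullbackStructureIso f).inv ≫ (Scheme.Modules.pullback f).map t, ?_⟩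
    exact (Amp.genLocus_pullback f hKj t (PicLoc.pullbackStructureIso f).symm).ge ht

/-- Over a quasi-compact base, all large twists are very ample. -/
theorem eventually_isRelVeryAmple_comp [CompactSpace Z] (f : X ⟶ Y) [QuasiCompact f] [LocallyOfFiniteType f]
    (g : Y ⟶ Z) [QuasiCompact g] {L : X.Modules} (hL : PicF.IsInvertible L) (hLva : RelProj.IsRelVeryAmple f L)
    {K : Y.Modules} (hK : PicF.IsInvertible K) (hKva : RelProj.IsRelVeryAmple g K) :
    ∃ n₀ : ℕ, 0 < n₀ ∧ ∀ n, n₀ ≤ n → RelProj.IsRelVeryAmple (f ≫ g)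
      (CohB1.tensorMod L ((Scheme.Modules.pullback f).obj (CohB1.tensorPow K n))) := by
  classical
  obtain ⟨A, hAcov⟩ := isCompact_univ.elim_finite_subcover (fun U : Z.affineOpens => (U.1 : Set Z))
    (fun U => U.1.isOpen) fun y _ => by
      obtain ⟨U, hU, hy, -⟩ := exists_isAffineOpen_mem_and_subset (show y ∈ (⊤ : Z.Opens) from trivial)
      exact Set.mem_iUnion.2 ⟨⟨U, hU⟩, hy⟩
  have key : ∀ U : A, ∃ n₀ : ℕ, ∀ n, n₀ ≤ n → RelProj.IsRelVeryAmple ((f ≫ g) ∣_ U.1.1)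
      ((CohB1.tensorMod L ((Scheme.Modules.pullback f).obj (CohB1.tensorPow K n))).restrict
        ((f ≫ g) ⁻¹ᵁ U.1.1).ι) := fun U => by
    haveI : IsAffine (U.1.1 : Scheme.{u}) := U.1.2
    let V := g ⁻¹ᵁ U.1.1
    obtain ⟨n₀, hn⟩ := exists_forall_isRelVeryAmple_comp (f ∣_ V) (g ∣_ U.1.1)
      (M2.isInvertible_restrict hL (f ⁻¹ᵁ V).ι) (isRelVeryAmple_restrict hL hLva V)
      (M2.isInvertible_restrict hK V.ι) (isRelVeryAmple_restrict hK hKva U.1.1)
    refine ⟨n₀, fun n h1 => ?_⟩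
    rw [morphismRestrict_comp]
    exact isRelVeryAmple_of_iso ((M2.restrictTensorIso (f ⁻¹ᵁ V).ι _ _ ≪≫ M2.tensorIso (Iso.refl _)
      (Twist.pullbackRestrictIso f _ V ≪≫
        (Scheme.Modules.pullback (f ∣_ V)).mapIso (M2.restrictTensorPowIso V.ι K n))).symm) (hn n h1)
  choose n₀ hn using key
  refine ⟨Finset.univ.sup n₀ + 1, Nat.succ_pos _, fun n h1 => isRelVeryAmple_of_cover
    (M2.isInvertible_tensor hL (Twist.isInvertible_pullback f (Amp.isInvertible_tensorPow hK n)))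
    (fun U : A => U.1.1) ?_ fun U => hn U n ((Finset.le_sup (Finset.mem_univ U)).trans (by omega))⟩
  refine top_le_iff.1 fun y _ => ?_
  obtain ⟨U, hU, hy⟩ := Set.mem_iUnion₂.1 (hAcov (Set.mem_univ y))
  exact Opens.mem_iSup.2 ⟨⟨U, hU⟩, hy⟩

end Groth.Agent.VA11
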