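import Groth.Agent.Lib.VeryAmple11.OfMorph
import Groth.Agent.Lib.VeryAmple11.SymGr
import Groth.Agent.Lib.RelProj11.Map

/-!
Projective bundles of the summands of a direct sum.
-/

set_option autoImplicit false

universe u

open CategoryTheory Limits AlgebraicGeometry TopologicalSpace Opposite
open scoped HomogeneousIdeal

set_option backward.isDefEq.respectTransparency false

noncomputable section

namespace Groth.Agent.VA11

open Groth.Agent.M1

/-- Closed immersions with disjoint images give a closed immersion of the disjoint union. -/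
theorem isClosedImmersion_coprod_desc {X Y Z : Scheme.{u}} (f : X ⟶ Z) (g : Y ⟶ Z) [IsClosedImmersion f]
    [IsClosedImmersion g] (h : ∀ x y, f x ≠ g y) : IsClosedImmersion (coprod.desc f g) := by
  have hl : ∀ x, (coprod.desc f g) (coprodMk X Y (.inl x)) = f x := fun x => by
    rw [coprodMk_inl, ← Scheme.Hom.comp_apply, coprod.inl_desc]
  have hr : ∀ x, (coprod.desc f g) (coprodMk X Y (.inr x)) = g x := fun x => by
    rw [coprodMk_inr, ← Scheme.Hom.comp_apply, coprod.inr_desc]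
  have hstalk : SurjectiveOnStalks (coprod.desc f g) :=
    (IsZariskiLocalAtSource.iff_of_openCover (P := @SurjectiveOnStalks) (coprodOpenCover.{u, u} X Y)).2 fun i => by
      rcases i with i | i
      · show SurjectiveOnStalks (coprod.inl ≫ coprod.desc f g)
        rw [coprod.inl_desc]
        infer_instance
      · show SurjectiveOnStalks (coprod.inr ≫ coprod.desc f g)
        rw [coprod.inr_desc]
        infer_instance
  refine { stalkMap_surjective := hstalk.stalkMap_surjective, isClosedEmbedding := ?_ }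
  have h1 : Topology.IsClosedEmbedding ((coprod.desc f g) ∘ coprodMk X Y) := by
    have e : (coprod.desc f g) ∘ coprodMk X Y = Sum.elim f g := funext fun x => by
      cases x with
      | inl x => exact hl x
      | inr x => exact hr x
    rw [e]
    refine Topology.IsClosedEmbedding.of_continuous_injective_isClosedMap
      (f.continuous.sumElim g.continuous) ?_ (isClosedMap_sum.2 ⟨f.isClosedEmbedding.isClosedMap,
        g.isClosedEmbedding.isClosedMap⟩)
    exact f.isClosedEmbedding.injective.sumElim g.isClosedEmbedding.injective h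
  have h2 := h1.comp (coprodMk X Y).symm.isClosedEmbedding
  rwa [Function.comp_assoc, Homeomorph.self_comp_symm, Function.comp_id] at h2

variable {S PM PN : Scheme.{u}} {M N : S.Modules} {𝒮 𝒯 : RelProj.QCGrAlg S} {j : M ⟶ 𝒮.toModule}
  {i : N ⟶ 𝒯.toModule} {π : 𝒮.toQCAlg ⟶ 𝒯.toQCAlg} {ρ : M ⟶ N}

theorem app_eq_of_comp (h : j ≫ RelSpec.QCAlg.Hom.toModuleMap π = ρ ≫ i) (U : S.Opens) (m : Γ(M, U)) :
    π.hom.app (op U) (show 𝒮.presheaf.obj (op U) from j.app U m) = i.app U (ρ.app U m) :=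
  congrArg (fun χ : M ⟶ 𝒯.toModule => χ.app U m) h

/-- A map of symmetric algebras induced by a split epimorphism is surjective on affine opens. -/
theorem surjective_gradedHomAt (hN : Coh.IsQCoh N) (hi : RelProj.IsGrSymAlg N 𝒯 i) (hπ : RelProj.IsGradedHom π)
    (h : j ≫ RelSpec.QCAlg.Hom.toModuleMap π = ρ ≫ i) (s : N ⟶ M) (hs : s ≫ ρ = 𝟙 N)
    (U : S.Opens) (hU : IsAffineOpen U) : Function.Surjective (RelProj.gradedHomAt π hπ U hU) := by
  intro y
  obtain ⟨x, rfl⟩ := (SymAlg11.bijective_liftOn hN hi.1 U hU).2 y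
  induction x using SymmetricAlgebra.induction with
  | algebraMap r =>
    refine ⟨(𝒮.str.app (op U)).hom r, ?_⟩
    rw [SymAlg11.liftOn_algebraMap]
    exact ConcreteCategory.congr_hom (NatTrans.congr_app π.comm (op U)) r
  | ι m =>
    refine ⟨j.app U (s.app U m), ?_⟩
    rw [SymAlg11.liftOn_ι]
    exact (app_eq_of_comp h U (s.app U m)).trans
      (congrArg (fun χ : N ⟶ N => i.app U (χ.app U m)) hs)
  | mul a b ha hb =>
    obtain ⟨a', ha'⟩ := ha
    obtain ⟨b', hb'⟩ := hb
    exact ⟨a' * b', by rw [map_mul, map_mul, ha', hb']⟩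
  | add a b ha hb =>
    obtain ⟨a', ha'⟩ := ha
    obtain ⟨b', hb'⟩ := hb
    exact ⟨a' + b', by rw [map_add, map_add, ha', hb']⟩

/-- The induced morphism of projective bundles is a closed immersion. -/
theorem isClosedImmersion_relProjMap (hN : Coh.IsQCoh N) (hi : RelProj.IsGrSymAlg N 𝒯 i)
    (hπ : RelProj.IsGradedHom π) (h : j ≫ RelSpec.QCAlg.Hom.toModuleMap π = ρ ≫ i) (s : N ⟶ M)
    (hs : s ≫ ρ = 𝟙 N)
    {hirr : ∀ (U : S.Opens) (hU : IsAffineOpen U), (𝒯.deg U hU)₊ ≤ ((𝒮.deg U hU)₊).map (RelProj.gradedHomAt π hπ U hU)}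
    {p : PM ⟶ S} {q : PN ⟶ S}
    {chart : ∀ (U : S.Opens) (hU : IsAffineOpen U), ((p ⁻¹ᵁ U : PM.Opens) : Scheme.{u}) ≅ Proj (𝒮.deg U hU)}
    {chart' : ∀ (U : S.Opens) (hU : IsAffineOpen U), ((q ⁻¹ᵁ U : PN.Opens) : Scheme.{u}) ≅ Proj (𝒯.deg U hU)}
    (hP : RelProj.IsRelProj 𝒮 p chart) (hQ : RelProj.IsRelProj 𝒯 q chart') {g : PN ⟶ PM}
    (hg : RelProj.IsRelProjMap π hπ hirr chart chart' g) : IsClosedImmersion g :=
  RelProj11.relProjMap_of_forall_affine hP hQ hg @IsClosedImmersion fun U hU =>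
    RelProj11.isClosedImmersion_map _ _ fun n _ =>
      RelProj11.surjOn_of_surjective _ (surjective_gradedHomAt hN hi hπ h s hs U hU) n

/-- Where the image of a point of the bundle of a summand lies. -/
theorem exists_map_eq {hπ : RelProj.IsGradedHom π}
    {hirr : ∀ (U : S.Opens) (hU : IsAffineOpen U), (𝒯.deg U hU)₊ ≤ ((𝒮.deg U hU)₊).map (RelProj.gradedHomAt π hπ U hU)}
    {p : PM ⟶ S} {q : PN ⟶ S}
    {chart : ∀ (U : S.Opens) (hU : IsAffineOpen U), ((p ⁻¹ᵁ U : PM.Opens) : Scheme.{u}) ≅ Proj (𝒮.deg U hU)}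
    {chart' : ∀ (U : S.Opens) (hU : IsAffineOpen U), ((q ⁻¹ᵁ U : PN.Opens) : Scheme.{u}) ≅ Proj (𝒯.deg U hU)}
    {g : PN ⟶ PM} (hg : RelProj.IsRelProjMap π hπ hirr chart chart' g) {U : S.Opens} (hU : IsAffineOpen U)
    {x : PN} (hx : x ∈ q ⁻¹ᵁ U) :
    ∃ y : Proj (𝒯.deg U hU),
      RelProj.emb p chart U hU (Proj.map (RelProj.gradedHomAt π hπ U hU) (hirr U hU) y) = g x := by
  refine ⟨(chart' U hU).hom ⟨x, hx⟩, ?_⟩
  have h1 := congrArg (fun m : ((q ⁻¹ᵁ U : PN.Opens) : Scheme.{u}) ⟶ PM => m ⟨x, hx⟩) (hg U hU)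
  simp only [Scheme.Hom.comp_apply] at h1
  exact h1.symm

end Groth.Agent.VA11
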