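import Groth.Agent.Lib.ModM1.Stalk
import Mathlib.AlgebraicGeometry.Sites.SmallAffineZariski
import Groth.Prelude.Def_SiteColimFix

/-!
Morphisms of modules from compatible maps on the affine opens.
-/

set_option autoImplicit false

universe u

open CategoryTheory Limits AlgebraicGeometry TopologicalSpace Opposite

set_option backward.isDefEq.respectTransparency false

noncomputable section

namespace Groth.Agent.VA11

open Groth.Agent.M1
open Scheme.AffineZariskiSite (toOpens toOpens_mono toOpensFunctor)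

variable {S : Scheme.{u}}

theorem exists_hom_of_affine (M N : S.Modules) (g : ∀ U : S.Opens, IsAffineOpen U → Γ(M, U) →+ Γ(N, U))
    (hsmul : ∀ (U : S.Opens) (hU : IsAffineOpen U) (r : Γ(S, U)) (m : Γ(M, U)), g U hU (r • m) = r • g U hU m)
    (hnat : ∀ {U V : S.Opens} (hU : IsAffineOpen U) (hV : IsAffineOpen V) (h : V ≤ U) (m : Γ(M, U)),
      mres N h (g U hU m) = g V hV (mres M h m)) :
    ∃ φ : M ⟶ N, ∀ (U : S.Opens) (hU : IsAffineOpen U) (m : Γ(M, U)), φ.app U m = g U hU m := by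
  let η : (toOpensFunctor S).op ⋙ M.presheaf ⟶ (toOpensFunctor S).op ⋙ N.presheaf :=
    { app := fun U => AddCommGrpCat.ofHom (g U.unop.1 U.unop.2)
      naturality := fun U V i => AddCommGrpCat.hom_ext (AddMonoidHom.ext fun m =>
        (hnat U.unop.2 V.unop.2 (toOpens_mono i.unop.le) m).symm) }
  let ψ : M.presheaf ⟶ N.presheaf :=
    Functor.IsCoverDense.restrictHomEquivHom (G := toOpensFunctor S)
      (K := Opens.grothendieckTopology S) (ℱ := M.presheaf)
      (ℱ' := (⟨N.presheaf, N.isSheaf⟩ : TopCat.Sheaf AddCommGrpCat.{u} S.carrier)) η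
  have hψ : (toOpensFunctor S).op.whiskerLeft ψ = η :=
    (Functor.IsCoverDense.restrictHomEquivHom (G := toOpensFunctor S)
      (K := Opens.grothendieckTopology S) (ℱ := M.presheaf)
      (ℱ' := (⟨N.presheaf, N.isSheaf⟩ : TopCat.Sheaf AddCommGrpCat.{u} S.carrier))).symm_apply_apply _
  have hψ' : ∀ (U : S.Opens) (hU : IsAffineOpen U) (m : Γ(M, U)), ψ.app (op U) m = g U hU m := fun U hU m =>
    ConcreteCategory.congr_hom (NatTrans.congr_app hψ (op (⟨U, hU⟩ : S.AffineZariskiSite))) m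
  refine ⟨⟨PresheafOfModules.homMk ψ fun U r m => ?_⟩, hψ'⟩
  obtain ⟨U⟩ := U
  have hc : U ≤ ⨆ V : {V : S.affineOpens // V.1 ≤ U}, V.1.1 := fun x hx => by
    obtain ⟨_, ⟨V, hV, rfl⟩, hxV, hVU⟩ := S.isBasis_affineOpens.exists_subset_of_mem_open hx U.2
    exact TopologicalSpace.Opens.mem_iSup.mpr ⟨⟨⟨V, hV⟩, hVU⟩, hxV⟩
  refine modules_eq_of_locally_eq N U (fun V : {V : S.affineOpens // V.1 ≤ U} => V.1.1) (fun V => V.2) hc _ _
    fun V => ?_
  have hn : ∀ x : Γ(M, U), mres N V.2 (ψ.app (op U) x) = ψ.app (op V.1.1) (mres M V.2 x) := fun x =>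
    (ConcreteCategory.congr_hom (ψ.naturality (homOfLE V.2).op) x).symm
  show mres N V.2 (ψ.app (op U) ((show Γ(S, U) from r) • (show Γ(M, U) from m))) =
    mres N V.2 ((show Γ(S, U) from r) • (show Γ(N, U) from ψ.app (op U) m))
  erw [hn, mres_smul, mres_smul, hn, hψ' _ V.1.2, hψ' _ V.1.2]
  exact hsmul _ V.1.2 _ _

end Groth.Agent.VA11
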