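import Groth.Agent.Lib.VeryAmple11.RelCrit
import Groth.Agent.Lib.VeryAmple11.Ample
import Groth.Agent.Lib.TwTensor11.RelCases
import Groth.Agent.Lib.TwTensor11.Inverse
import Groth.Agent.Lib.RelProj11.TwistExist
import Groth.Agent.Lib.QuotProj11.Proper

/-!
Twists on `Proj` of an algebra generated in degree one.
-/

set_option autoImplicit false

universe u

open CategoryTheory Limits AlgebraicGeometry TopologicalSpace Opposite

set_option backward.isDefEq.respectTransparency false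

noncomputable section

namespace Groth.Agent.VA11

variable {S P : Scheme.{u}} {𝒮 : RelProj.QCGrAlg S} {p : P ⟶ S}
  {chart : ∀ (U : S.Opens) (hU : IsAffineOpen U), ((p ⁻¹ᵁ U : P.Opens) : Scheme.{u}) ≅ Proj (𝒮.deg U hU)}

/-- `O(k)` is the `k`-th power of `O(1)`. -/
theorem nonempty_relTwist_iso_pow (hP : RelProj.IsRelProj 𝒮 p chart) (hgen : 𝒮.IsGenDegOne)
    {O1 : P.Modules}
    {lam1 : ∀ (U : S.Opens) (hU : IsAffineOpen U),
      O1 ⟶ (Scheme.Modules.pushforward (RelProj.emb p chart U hU)).obj (GrTwist.twist (𝒮.deg U hU) 1)}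
    (hL1 : RelProj.IsRelTwist 𝒮 p chart 1 O1 lam1) :
    ∀ (k : ℕ) (d : ℤ), d = (k : ℤ) → ∀ (L : P.Modules)
      (lam : ∀ (U : S.Opens) (hU : IsAffineOpen U),
        L ⟶ (Scheme.Modules.pushforward (RelProj.emb p chart U hU)).obj (GrTwist.twist (𝒮.deg U hU) d)),
      RelProj.IsRelTwist 𝒮 p chart d L lam → Nonempty (L ≅ CohB1.tensorPow O1 k)
  | 0, d, hd, L, lam, hL => by
    obtain rfl : d = 0 + 0 := by omega
    obtain ⟨e⟩ := TwTensor11.nonempty_tensor_twist_iso hP hgen (TwTensor11.isRelTwist_lam₀ hP)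
      (TwTensor11.isRelTwist_lam₀ hP) hL
    exact ⟨e.symm ≪≫ M2.tensorRUnit _⟩
  | k + 1, d, hd, L, lam, hL => by
    obtain rfl : d = (k : ℤ) + 1 := by omega
    obtain ⟨Lk, lamk, hLk⟩ := RelProj11.exists_isRelTwist (n := (k : ℤ)) hP
    obtain ⟨e⟩ := TwTensor11.nonempty_tensor_twist_iso hP hgen hLk hL1 hL
    obtain ⟨e'⟩ := nonempty_relTwist_iso_pow hP hgen hL1 k _ rfl Lk lamk hLk
    exact ⟨e.symm ≪≫ M2.tensorIso e' (Iso.refl O1)⟩

/-- `O(1)` is relatively very well behaved: invertible and ample. -/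
theorem isRelAmple_relTwist_one (hP : RelProj.IsRelProj 𝒮 p chart) (hgen : 𝒮.IsGenDegOne) (hft : 𝒮.IsFTDeg 1)
    {O1 : P.Modules}
    {lam1 : ∀ (U : S.Opens) (hU : IsAffineOpen U),
      O1 ⟶ (Scheme.Modules.pushforward (RelProj.emb p chart U hU)).obj (GrTwist.twist (𝒮.deg U hU) 1)}
    (hL1 : RelProj.IsRelTwist 𝒮 p chart 1 O1 lam1) : RelAmple.IsRelAmple p O1 := by
  haveI : IsProper p := QuotProj11.isProper_of_isRelProj hP hgen hft
  haveI : QuasiCompact (𝟙 P ≫ p) := by rw [Category.id_comp]; infer_instance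
  have := isRelAmple_of_embedding hgen hL1 (𝟙 P) Topology.IsEmbedding.id ((Scheme.Modules.pullbackId P).app O1)
  rwa [Category.id_comp] at this

/-- Large twists on `Proj` are generated relative to the base. -/
theorem exists_epi_counit_twist [CompactSpace S] (hP : RelProj.IsRelProj 𝒮 p chart) (hgen : 𝒮.IsGenDegOne)
    (hft : 𝒮.IsFTDeg 1) (F : P.Modules) (hF : Coh.IsQCoh F) (hFT : CohB1.IsFT F) :
    ∃ n₀ : ℤ, ∀ (n : ℤ), n₀ ≤ n → ∀ (L : P.Modules)
      (lam : ∀ (U : S.Opens) (hU : IsAffineOpen U),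
        L ⟶ (Scheme.Modules.pushforward (RelProj.emb p chart U hU)).obj (GrTwist.twist (𝒮.deg U hU) n)),
      RelProj.IsRelTwist 𝒮 p chart n L lam →
        Epi ((Scheme.Modules.pullbackPushforwardAdjunction p).counit.app (CohB1.tensorMod F L)) := by
  haveI : IsProper p := QuotProj11.isProper_of_isRelProj hP hgen hft
  haveI : CompactSpace P := QuasiCompact.compactSpace_of_compactSpace p
  obtain ⟨O1, lam1, hL1⟩ := RelProj11.exists_isRelTwist (n := (1 : ℤ)) hP
  obtain ⟨n₀, h⟩ := exists_epi_counit p (isRelAmple_relTwist_one hP hgen hft hL1) F hF hFT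
  refine ⟨(n₀ : ℤ), fun n hn L lam hL => ?_⟩
  obtain ⟨k, rfl⟩ : ∃ k : ℕ, n = (k : ℤ) := ⟨n.toNat, by omega⟩
  obtain ⟨e⟩ := nonempty_relTwist_iso_pow hP hgen hL1 k _ rfl L lam hL
  let e' := M2.tensorIso (Iso.refl F) e
  haveI := h k (by omega)
  have : (Scheme.Modules.pullbackPushforwardAdjunction p).counit.app (CohB1.tensorMod F L) =
      (Scheme.Modules.pullback p).map ((Scheme.Modules.pushforward p).map e'.hom) ≫
        (Scheme.Modules.pullbackPushforwardAdjunction p).counit.app _ ≫ e'.inv := by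
    rw [← Category.assoc]
    have := (Scheme.Modules.pullbackPushforwardAdjunction p).counit.naturality e'.hom
    dsimp at this
    rw [this, Category.assoc, e'.hom_inv_id, Category.comp_id]
  rw [this]
  infer_instance

end Groth.Agent.VA11
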