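import Groth.Agent.Lib.VeryAmple11.Disjoint
import Groth.Agent.Lib.RelAmple18.Basic

/-!
Quasi-projectivity of a disjoint union.
-/

set_option autoImplicit false

universe u

open CategoryTheory Limits AlgebraicGeometry TopologicalSpace Opposite

set_option backward.isDefEq.respectTransparency false

noncomputable section

namespace Groth.Agent.VA11

open Groth.Agent.M1

variable {X Y Z : Scheme.{u}}

/-- The direct image from an open piece vanishes on a disjoint open piece. -/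
theorem isZero_restrict_push (a : X ⟶ Z) (b : Y ⟶ Z) [IsOpenImmersion a] (h : ∀ x y, a x ≠ b y) (M : Y.Modules) :
    IsZero (((Scheme.Modules.pushforward b).obj M).restrict a) := by
  refine (IsZero.iff_id_eq_zero _).2 (Scheme.Modules.hom_ext _ _ fun V => ?_)
  ext t
  refine subsingleton_bot M (O := b ⁻¹ᵁ (a ''ᵁ V)) ?_ _ _
  refine le_bot_iff.1 ?_
  rintro y ⟨x, -, hx⟩
  exact (h x y hx).elim

theorem exists_coprod_module (L : X.Modules) (L' : Y.Modules) :
    ∃ M : (X ⨿ Y).Modules, Nonempty ((Scheme.Modules.pullback (coprod.inl : X ⟶ X ⨿ Y)).obj M ≅ L) ∧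
      Nonempty ((Scheme.Modules.pullback (coprod.inr : Y ⟶ X ⨿ Y)).obj M ≅ L') := by
  let a : X ⟶ X ⨿ Y := coprod.inl
  let b : Y ⟶ X ⨿ Y := coprod.inr
  let A := (Scheme.Modules.pushforward a).obj L
  let B := (Scheme.Modules.pushforward b).obj L'
  haveI : (Scheme.Modules.restrictFunctor a).Additive := inferInstance
  haveI : (Scheme.Modules.restrictFunctor b).Additive := inferInstance
  haveI := preservesBinaryBiproducts_of_preservesBiproducts (Scheme.Modules.restrictFunctor a)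
  haveI := preservesBinaryBiproducts_of_preservesBiproducts (Scheme.Modules.restrictFunctor b)
  refine ⟨A ⊞ B, ?_, ?_⟩
  · exact ⟨((Scheme.Modules.restrictFunctorIsoPullback a).app _).symm ≪≫
      (Scheme.Modules.restrictFunctor a).mapBiprod A B ≪≫
      (isoBiprodZero (isZero_restrict_push a b (fun x y => inl_ne_inr X Y x y) L')).symm ≪≫
      asIso ((Scheme.Modules.restrictAdjunction a).counit.app L)⟩
  · exact ⟨((Scheme.Modules.restrictFunctorIsoPullback b).app _).symm ≪≫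
      (Scheme.Modules.restrictFunctor b).mapBiprod A B ≪≫
      (isoZeroBiprod (isZero_restrict_push b a (fun y x => inr_ne_inl X Y x y) L)).symm ≪≫
      asIso ((Scheme.Modules.restrictAdjunction b).counit.app L')⟩

theorem ampleOn_image (j : X ⟶ Z) [IsOpenImmersion j] {M : Z.Modules} {L : X.Modules}
    (e : (Scheme.Modules.pullback j).obj M ≅ L) {O : X.Opens} (h : RA.AmpleOn L O) : RA.AmpleOn M (j ''ᵁ O) := by
  rw [RA.AmpleOn, RA.isAmple_restrict_iff_pullback,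
    RA.isAmple_iso_iff ((Scheme.Modules.pullback O.ι).mapIso e.symm), RA.isAmple_pullback_comp_iff,
    RA.isAmple_pullback_congr (Scheme.Hom.isoImage_hom_ι j O).symm, ← RA.isAmple_pullback_comp_iff,
    RA.isAmple_pullback_iso_iff] at h
  rwa [RA.AmpleOn, RA.isAmple_restrict_iff_pullback]

/-- Ampleness on two disjoint open pieces gives it on their union. -/
theorem ampleOn_of_disjoint {L : Z.Modules} {W₁ W₂ : Z.Opens} (hd : W₁ ⊓ W₂ = ⊥) (h₁ : RA.AmpleOn L W₁)
    (h₂ : RA.AmpleOn L W₂) : RA.AmpleOn L (W₁ ⊔ W₂) := by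
  let W := W₁ ⊔ W₂
  haveI : CompactSpace (W : Scheme.{u}) :=
    RA.compactSpace_of_isCompact (by rw [Opens.coe_sup]; exact h₁.isCompact.union h₂.isCompact)
  let V₁ := W.ι ⁻¹ᵁ W₁
  let V₂ := W.ι ⁻¹ᵁ W₂
  have hdV : V₁ ⊓ V₂ = ⊥ := by
    refine le_bot_iff.1 ?_
    rintro y ⟨ha, hb⟩
    exact (hd.le (show W.ι y ∈ W₁ ⊓ W₂ from ⟨ha, hb⟩)).elim
  have hcV : ∀ y, y ∈ V₁ ∨ y ∈ V₂ := fun y => y.2
  obtain ⟨e, he₁, he₂⟩ := exists_glue_two (Coh.structureModule (W : Scheme.{u})) (V := ⊤) (le_top (a := V₁))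
    (le_top (a := V₂)) (fun y _ => hcV y) hdV (one V₁) 0
  let e₁ : Γ((W : Scheme.{u}), ⊤) := e
  have r1 : ores (le_top : V₁ ≤ ⊤) e₁ = 1 := he₁
  have r2 : ores (le_top : V₂ ≤ ⊤) e₁ = 0 := he₂
  have hb : ∀ (V : (W : Scheme.{u}).Opens) (a : Γ((W : Scheme.{u}), ⊤)), ores (le_top : V ≤ ⊤) a = 1 →
      V ≤ (W : Scheme.{u}).basicOpen a := fun V a h => by
    have h3 := basicOpen_ores (le_top : V ≤ ⊤) a
    rw [h, Scheme.basicOpen_of_isUnit _ isUnit_one] at h3
    exact h3.le.trans inf_le_right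
  have hz : ∀ (V : (W : Scheme.{u}).Opens) (a : Γ((W : Scheme.{u}), ⊤)), ores (le_top : V ≤ ⊤) a = 0 →
      V ⊓ (W : Scheme.{u}).basicOpen a = ⊥ := fun V a h => by
    have h3 := basicOpen_ores (le_top : V ≤ ⊤) a
    rw [h, Scheme.basicOpen_zero] at h3
    exact h3.symm
  have e1 : (W : Scheme.{u}).basicOpen e₁ = V₁ := le_antisymm
    (fun y hy => (hcV y).elim id fun h => ((hz V₂ e₁ r2).le ⟨h, hy⟩).elim) (hb V₁ e₁ r1)
  have e2 : (W : Scheme.{u}).basicOpen (1 - e₁) = V₂ := le_antisymm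
    (fun y hy => (hcV y).elim (fun h => ((hz V₁ _ (by rw [map_sub, map_one, r1, sub_self])).le ⟨h, hy⟩).elim) id)
    (hb V₂ _ (by rw [map_sub, map_one, r2, sub_zero]))
  have him : ∀ {W' : Z.Opens}, W' ≤ W → W.ι ''ᵁ (W.ι ⁻¹ᵁ W') = W' := fun h => by
    rw [Scheme.Hom.image_preimage_eq_opensRange_inf, Scheme.Opens.opensRange_ι, inf_eq_right.2 h]
  refine RA.isAmple_of_basicOpen_cover (fun i : Bool => cond i e₁ (1 - e₁)) (fun y _ => ?_) fun i => ?_
  · rcases hcV y with h | h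
    · exact Opens.mem_iSup.2 ⟨true, e1.ge h⟩
    · exact Opens.mem_iSup.2 ⟨false, e2.ge h⟩
  · cases i
    · rw [RA.ampleOn_restrict_iff]
      show RA.AmpleOn L (W.ι ''ᵁ (W : Scheme.{u}).basicOpen (1 - e₁))
      rw [e2, him le_sup_right]
      exact h₂
    · rw [RA.ampleOn_restrict_iff]
      show RA.AmpleOn L (W.ι ''ᵁ (W : Scheme.{u}).basicOpen e₁)
      rw [e1, him le_sup_left]
      exact h₁

/-- A disjoint union of quasi-projective morphisms is quasi-projective. -/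
theorem isQuasiProjective_coprod {S : Scheme.{u}} {f : X ⟶ S} {f' : Y ⟶ S} (hf : RelProj.IsQuasiProjective f)
    (hf' : RelProj.IsQuasiProjective f') : RelProj.IsQuasiProjective (coprod.desc f f') := by
  obtain ⟨hft, hqc, L, hL⟩ := hf
  obtain ⟨hft', hqc', L', hL'⟩ := hf'
  haveI := hqc; haveI := hqc'; haveI := hft; haveI := hft'
  obtain ⟨M, ⟨μ⟩, ⟨μ'⟩⟩ := exists_coprod_module L L'
  let g := coprod.desc f f'
  have hpre : ∀ V : S.Opens, g ⁻¹ᵁ V = (coprod.inl : X ⟶ X ⨿ Y) ''ᵁ (f ⁻¹ᵁ V) ⊔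
      (coprod.inr : Y ⟶ X ⨿ Y) ''ᵁ (f' ⁻¹ᵁ V) := fun V => by
    have h1 : (coprod.inl : X ⟶ X ⨿ Y) ⁻¹ᵁ (g ⁻¹ᵁ V) = f ⁻¹ᵁ V := by
      rw [← Scheme.Hom.comp_preimage]; simp [g]
    have h2 : (coprod.inr : Y ⟶ X ⨿ Y) ⁻¹ᵁ (g ⁻¹ᵁ V) = f' ⁻¹ᵁ V := by
      rw [← Scheme.Hom.comp_preimage]; simp [g]
    rw [← h1, ← h2, Scheme.Hom.image_preimage_eq_opensRange_inf, Scheme.Hom.image_preimage_eq_opensRange_inf,
      ← inf_sup_right, (isCompl_opensRange_inl_inr X Y).sup_eq_top, top_inf_eq]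
  have hq : QuasiCompact g := quasiCompact_iff_forall_isAffineOpen.2 fun V hV => by
    rw [hpre, Opens.coe_sup]
    exact ((f.isCompact_preimage hV.isCompact).image (coprod.inl : X ⟶ X ⨿ Y).continuous).union
      ((f'.isCompact_preimage hV.isCompact).image (coprod.inr : Y ⟶ X ⨿ Y).continuous)
  refine ⟨(IsZariskiLocalAtSource.iff_of_openCover (P := @LocallyOfFiniteType) (coprodOpenCover.{u, u} X Y)).2
    fun i => ?_, hq, M, (RA.isRelAmple_def g).2 fun V hV => ?_⟩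
  · rcases i with i | i
    · show LocallyOfFiniteType (coprod.inl ≫ g)
      simp only [g, coprod.inl_desc]; infer_instance
    · show LocallyOfFiniteType (coprod.inr ≫ g)
      simp only [g, coprod.inr_desc]; infer_instance
  · rw [hpre]
    refine ampleOn_of_disjoint ?_ (ampleOn_image _ μ ((RA.isRelAmple_def f).1 hL V hV))
      (ampleOn_image _ μ' ((RA.isRelAmple_def f').1 hL' V hV))
    refine le_bot_iff.1 ((inf_le_inf ?_ ?_).trans (isCompl_opensRange_inl_inr X Y).inf_eq_bot.le)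
    · rintro _ ⟨x, -, rfl⟩; exact ⟨x, rfl⟩
    · rintro _ ⟨x, -, rfl⟩; exact ⟨x, rfl⟩

end Groth.Agent.VA11
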