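import Groth.Agent.Lib.VeryAmple11.ToMorph
import Groth.Agent.Lib.VeryAmple11.SymGr
import Groth.Agent.Lib.VeryAmple11.ModHom
import Groth.Agent.Lib.RelProj11.TwistExist
import Groth.Agent.Lib.RelProj11.Exists

/-!
Relative very ampleness in terms of sections: the criterion.
-/

set_option autoImplicit false

universe u v

open CategoryTheory Limits AlgebraicGeometry TopologicalSpace Opposite
open scoped HomogeneousIdeal

set_option backward.isDefEq.respectTransparency false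

noncomputable section

namespace Groth.Agent.VA11

open Groth.Agent.M1

section cf

variable {X : Scheme.{u}} {L : X.Modules} {W : X.Opens}

theorem cf_add (s t t' : Γ(L, W)) : cf s (t + t') = cf s t + cf s t' := by
  have h := ores_cf_eq (s := s) (t := t + t') le_rfl (c := cf s t + cf s t')
    (by rw [add_smul, map_add, cf_smul, cf_smul])
  rwa [ores_id] at h

theorem cf_smul_right (s t : Γ(L, W)) (c : Γ(X, W)) : cf s (c • t) = ores (gl_le s) c * cf s t := by
  have h := ores_cf_eq (s := s) (t := c • t) le_rfl (c := ores (gl_le s) c * cf s t)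
    (by rw [mul_smul, cf_smul, mres_smul])
  rwa [ores_id] at h

theorem gl_congr {s t : Γ(L, W)} (h : s = t) : gl s = gl t := h ▸ rfl

end cf

variable {S X : Scheme.{u}}

/-- Functions pulled back along a morphism from an affine scheme through an affine open. -/
theorem appLE_specMap_fromSpec {U : S.Opens} (hU : IsAffineOpen U) {R : CommRingCat.{u}} (g : Γ(S, U) ⟶ R)
    (m : Spec R ⟶ S) (h : (⊤ : (Spec R).Opens) ≤ m ⁻¹ᵁ U) (e : m = Spec.map g ≫ hU.fromSpec) (r : Γ(S, U)) :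
    m.appLE U ⊤ h r = (Scheme.ΓSpecIso R).inv (g r) := by
  subst e
  refine Eq.trans ?_ (ConcreteCategory.congr_hom (Scheme.ΓSpecIso_inv_naturality g) r).symm
  refine ConcreteCategory.congr_hom (?_ : (Spec.map g ≫ hU.fromSpec).appLE U ⊤ h =
    (Scheme.ΓSpecIso Γ(S, U)).inv ≫ (Spec.map g).appTop) r
  simp only [Scheme.Hom.appLE, Scheme.Hom.comp_app, IsAffineOpen.fromSpec_app_self, Category.assoc,
    Scheme.Hom.naturality_assoc, ← Functor.map_comp]
  congr 1

section fromMorph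

variable {P : Scheme.{u}} {𝒮 : RelProj.QCGrAlg S} {p : P ⟶ S}
  {chart : ∀ (U : S.Opens) (hU : IsAffineOpen U), ((p ⁻¹ᵁ U : P.Opens) : Scheme.{u}) ≅ Proj (𝒮.deg U hU)}
  (hP : RelProj.IsRelProj 𝒮 p chart)

include hP in
/-- Ratios of scalars are the scalars. -/
theorem rat_str (U : S.Opens) (hU : IsAffineOpen U) {f : 𝒮.presheaf.obj (op U)} (hf : f ∈ 𝒮.deg U hU 1)
    (r : Γ(S, U)) :
    rat p chart U hU hf ((𝒮.str.app (op U)).hom r) = ores (dd_le U hU f) (p.app U r) := by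
  let em := RelProj.emb p chart U hU
  let B := Proj.basicOpen (𝒮.deg U hU) f
  let D := dd p chart U hU f
  let T := Spec (CommRingCat.of (HomogeneousLocalization.Away (𝒮.deg U hU) f))
  have hTB : (⊤ : T.Opens) ≤ Proj.awayι (𝒮.deg U hU) f hf one_pos ⁻¹ᵁ B := by
    intro w _
    rw [show B = _ from (Proj.opensRange_awayι (𝒮.deg U hU) f hf one_pos).symm]
    exact ⟨_, rfl⟩
  refine (ConcreteCategory.bijective_of_isIso (em.app D)).1 ?_
  rw [app_rat]
  apply ores_injective (preimage_dd U hU f).ge (preimage_dd U hU f).le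
  rw [ores_ores, ores_id]
  have : IsIso (Proj.awayToSection (𝒮.deg U hU) f) := by
    rw [← Proj.basicOpenIsoAway_hom (𝒮.deg U hU) f hf one_pos]; infer_instance
  obtain ⟨q, hq⟩ := (ConcreteCategory.bijective_of_isIso (Proj.awayToSection (𝒮.deg U hU) f)).2
    (ores (preimage_dd U hU f).ge (em.app D (ores (dd_le U hU f) (p.app U r))))
  rw [← hq]
  congr 1
  have h1 := PullBC11.appLE_awayι hf one_pos q hTB
  rw [hq] at h1
  have hle : (⊤ : T.Opens) ≤ (Proj.awayι (𝒮.deg U hU) f hf one_pos ≫ em ≫ p) ⁻¹ᵁ U := by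
    intro w hw
    exact dd_le (p := p) (chart := chart) U hU f ((preimage_dd U hU f).ge (hTB hw))
  have h2 : (Proj.awayι (𝒮.deg U hU) f hf one_pos).appLE B ⊤ hTB
      (ores (preimage_dd U hU f).ge (em.app D (ores (dd_le U hU f) (p.app U r)))) =
      (Proj.awayι (𝒮.deg U hU) f hf one_pos ≫ em ≫ p).appLE U ⊤ hle r := by
    rw [← Scheme.Hom.appLE_comp_appLE _ (em ≫ p) U B ⊤ (fun w hw =>
      dd_le (p := p) (chart := chart) U hU f ((preimage_dd U hU f).ge hw)) hTB, ConcreteCategory.comp_apply]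
    congr 1
    rw [← Scheme.Hom.appLE_comp_appLE em p U D B (dd_le U hU f) (preimage_dd U hU f).ge,
      ConcreteCategory.comp_apply]
    rfl
  have hg : Proj.awayι (𝒮.deg U hU) f hf one_pos ≫ em ≫ p =
      Spec.map (𝒮.strZero U hU ≫ CommRingCat.ofHom
        (HomogeneousLocalization.fromZeroRingHom (𝒮.deg U hU) (Submonoid.powers f))) ≫ hU.fromSpec := by
    simp only [em, RelProj.emb, Category.assoc]
    rw [← hP.chart_over U hU, Iso.inv_hom_id_assoc, Proj.awayι_toSpecZero_assoc, Spec.map_comp_assoc]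
  rw [h2, appLE_specMap_fromSpec hU _ _ hle hg] at h1
  have hz : q = HomogeneousLocalization.fromZeroRingHom (𝒮.deg U hU) (Submonoid.powers f)
      ((𝒮.strZero U hU).hom r) :=
    ((ConcreteCategory.bijective_of_isIso (Scheme.ΓSpecIso
      (CommRingCat.of (HomogeneousLocalization.Away (𝒮.deg U hU) f))).inv).1 h1).symm
  rw [hz, dh_of_mem _ hf (𝒮.str_mem U hU r)]
  apply HomogeneousLocalization.val_injective
  rw [HomogeneousLocalization.Away.val_mk]
  simp [HomogeneousLocalization.fromZeroRingHom]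
  rfl

variable {O1 : P.Modules}
  {lam : ∀ (U : S.Opens) (hU : IsAffineOpen U),
    O1 ⟶ (Scheme.Modules.pushforward (RelProj.emb p chart U hU)).obj (GrTwist.twist (𝒮.deg U hU) 1)}
  (hL : RelProj.IsRelTwist 𝒮 p chart 1 O1 lam)

include hP hL in
theorem phi_str_mul (hgen : 𝒮.IsGenDegOne) (U : S.Opens) (hU : IsAffineOpen U) (r : Γ(S, U))
    {a : 𝒮.presheaf.obj (op U)} (ha : a ∈ 𝒮.deg U hU 1)
    (hra : (𝒮.str.app (op U)).hom r * a ∈ 𝒮.deg U hU 1) :
    phi hL U hU _ hra = p.app U r • phi hL U hU a ha := by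
  choose D hD hzD using fun z : (p ⁻¹ᵁ U : P.Opens) => mem_dd_of_mem (chart := chart) (hU := hU) hgen z.2
  refine modules_eq_of_locally_eq O1 _ (fun z => dd p chart U hU (D z)) (fun z => dd_le U hU (D z))
    (fun z hz => Opens.mem_iSup.2 ⟨⟨z, hz⟩, hzD ⟨z, hz⟩⟩) _ _ fun z => ?_
  rw [mres_smul, phi_eq_rat_smul hL U hU (hD z) hra, phi_eq_rat_smul hL U hU (hD z) ha, map_mul,
    rat_str hP U hU (hD z), mul_smul]

end fromMorph

/-- Sections over the inverse image of an affine open given by a module map into the direct image. -/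
abbrev secs {f : X ⟶ S} {L : X.Modules} {E : S.Modules} (φ : E ⟶ (Scheme.Modules.pushforward f).obj L)
    (U : S.Opens) (m : Γ(E, U)) : Γ(L, f ⁻¹ᵁ U) := φ.app U m

theorem secs_res {f : X ⟶ S} {L : X.Modules} {E : S.Modules} (φ : E ⟶ (Scheme.Modules.pushforward f).obj L)
    {U V : S.Opens} (h : V ≤ U) (m : Γ(E, U)) :
    mres L (f.preimage_mono h) (secs φ U m) = secs φ V (mres E h m) :=
  (app_mres φ h m).symm

theorem secs_smul {f : X ⟶ S} {L : X.Modules} {E : S.Modules} (φ : E ⟶ (Scheme.Modules.pushforward f).obj L)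
    (U : S.Opens) (r : Γ(S, U)) (m : Γ(E, U)) : secs φ U (r • m) = f.app U r • secs φ U m :=
  φ.app_smul r m

/-- The criterion at every point. -/
def VAmp {f : X ⟶ S} {L : X.Modules} {E : S.Modules} (φ : E ⟶ (Scheme.Modules.pushforward f).obj L) : Prop :=
  ∀ x : X, ∃ U : S.Opens, IsAffineOpen U ∧ VAat (f.app U).hom (secs φ U) x

theorem vamp_of_forall {f : X ⟶ S} {L : X.Modules} {E : S.Modules}
    {φ : E ⟶ (Scheme.Modules.pushforward f).obj L}
    (h : ∀ (U : S.Opens), IsAffineOpen U → VA (f.app U).hom (secs φ U)) : VAmp φ := fun x => by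
  obtain ⟨U, hU, hx, -⟩ := exists_isAffineOpen_mem_and_subset (show f x ∈ (⊤ : S.Opens) from trivial)
  exact ⟨U, hU, h U hU x hx⟩

theorem exists_mem_gl {f : X ⟶ S} {L : X.Modules} {E : S.Modules} (hE : Coh.IsQCoh E)
    {φ : E ⟶ (Scheme.Modules.pushforward f).obj L} (h : VAmp φ) {U : S.Opens} (hU : IsAffineOpen U) {x : X}
    (hx : x ∈ f ⁻¹ᵁ U) : ∃ m, x ∈ gl (secs φ U m) := by
  haveI := hE
  obtain ⟨U₀, hU₀, m₀, b, -, hxb, -⟩ := h x
  have hx₀ : x ∈ gl (secs φ U₀ m₀) := X.basicOpen_le b hxb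
  obtain ⟨D, hD, ⟨g, hg⟩, hD₀, hxD⟩ := RelProj11.exists_common_basic hU hU₀ (f x) ⟨hx, gl_le (secs φ U₀ m₀) hx₀⟩
  subst hg
  obtain ⟨k, m, hm⟩ := exists_pow_smul_eq_res_affine E hU g (mres E hD₀.le m₀)
  simp only [map_pow] at hm
  refine ⟨m, ?_⟩
  have h1 : x ∈ gl (secs φ (S.basicOpen g) (mres E hD₀.le m₀)) := by
    rw [← secs_res φ hD₀.le, gl_mres]; exact ⟨hx₀, hxD⟩
  have hu : IsUnit (ores (S.basicOpen_le g) g ^ k) :=
    (RingedSpace.isUnit_res_basicOpen S.toRingedSpace g).pow k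
  have h2 : x ∈ gl (secs φ (S.basicOpen g) (mres E (S.basicOpen_le g) m)) := by
    rw [hm, secs_smul]
    refine le_gl (gl_le _) ?_ h1
    rw [mres_smul]
    exact isGen_smul_unit (isGen_gl _) ((hu.map (f.app (S.basicOpen g)).hom).map (ores (gl_le _)).hom)
  rw [← secs_res φ (S.basicOpen_le g), gl_mres] at h2
  exact h2.1

/-- The criterion gives an immersion into the projective bundle of the module of sections. -/
theorem exists_immersion_of_vamp {f : X ⟶ S} {L : X.Modules} {E : S.Modules} (hE : Coh.IsQCoh E)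
    {φ : E ⟶ (Scheme.Modules.pushforward f).obj L} (h : VAmp φ) {𝒮 : RelProj.QCGrAlg S} {j : E ⟶ 𝒮.toModule}
    (hj : RelProj.IsGrSymAlg E 𝒮 j) {P : Scheme.{u}} {p : P ⟶ S}
    {chart : ∀ (U : S.Opens) (hU : IsAffineOpen U), ((p ⁻¹ᵁ U : P.Opens) : Scheme.{u}) ≅ Proj (𝒮.deg U hU)}
    (hP : RelProj.IsRelProj 𝒮 p chart) {O1 : P.Modules}
    {lam : ∀ (U : S.Opens) (hU : IsAffineOpen U),
      O1 ⟶ (Scheme.Modules.pushforward (RelProj.emb p chart U hU)).obj (GrTwist.twist (𝒮.deg U hU) 1)}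
    (hL : RelProj.IsRelTwist 𝒮 p chart 1 O1 lam) :
    ∃ i : X ⟶ P, IsImmersion i ∧ i ≫ p = f ∧ Nonempty (L ≅ (Scheme.Modules.pullback i).obj O1) := by
  have hgen := isGenDegOne_of_isGrSymAlg hE hj
  let eq1 := fun (U : S.Opens) (hU : IsAffineOpen U) => Equiv.ofBijective _ (bijective_deg_one hE hj U hU)
  have heq1 : ∀ (U : S.Opens) (hU : IsAffineOpen U) (a : 𝒮.deg U hU 1), j.app U ((eq1 U hU).symm a) = a.1 :=
    fun U hU a => congrArg Subtype.val ((eq1 U hU).apply_symm_apply a)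
  let s := fun (U : S.Opens) (hU : IsAffineOpen U) (a : 𝒮.deg U hU 1) => secs φ U ((eq1 U hU).symm a)
  let lft := fun (U : S.Opens) (hU : IsAffineOpen U) =>
    RingEquiv.ofBijective (SymAlg11.liftOn 𝒮.toQCAlg j U) (SymAlg11.bijective_liftOn hE hj.1 U hU)
  let psi := fun (U : S.Opens) (hU : IsAffineOpen U) (e : 𝒮.deg U hU 1) =>
    (SymAlg11.symLift ((ores (gl_le (s U hU e))).hom.comp (f.app U).hom)
      (AddMonoidHom.mk' (fun m : Γ(E, U) => cf (s U hU e) (secs φ U m))
        fun m m' => by rw [secs, map_add, cf_add])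
      (fun r m => by
        show cf (s U hU e) (secs φ U (r • m)) = _
        rw [secs_smul, cf_smul_right]; rfl)).comp (lft U hU).symm.toRingHom
  let G : GenData f L 𝒮 :=
    { s := s
      s_res := fun {U V} hU hV hle a => by
        show mres L (f.preimage_mono hle) (secs φ U _) = secs φ V _
        rw [secs_res]
        congr 1
        refine ((eq1 V hV).eq_symm_apply).2 (Subtype.ext ?_)
        show j.app V (mres E hle ((eq1 U hU).symm a)) = (𝒮.res hU hV hle a.1)
        rw [app_mres j hle]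
        exact congrArg _ (heq1 U hU a)
      cov := fun U hU x hx => by
        obtain ⟨m, hm⟩ := exists_mem_gl hE h hU hx
        exact ⟨eq1 U hU m, by simpa [s] using hm⟩
      psi := psi
      psi_one := fun U hU e a => by
        have h1 : (lft U hU).symm a.1 = SymmetricAlgebra.ι Γ(S, U) Γ(E, U) ((eq1 U hU).symm a) := by
          rw [RingEquiv.symm_apply_eq]
          exact ((SymAlg11.liftOn_ι _ _ U _).trans (heq1 U hU a)).symm
        show SymAlg11.symLift _ _ _ ((lft U hU).symm a.1) = _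
        rw [h1, SymAlg11.symLift_ι]
        rfl
      psi_str := fun U hU e r => by
        have h1 : (lft U hU).symm ((𝒮.str.app (op U)).hom r) = algebraMap Γ(S, U) (SymAlg11.SymOn E U) r := by
          rw [RingEquiv.symm_apply_eq]
          exact (SymAlg11.liftOn_algebraMap _ _ U r).symm
        show SymAlg11.symLift _ _ _ ((lft U hU).symm _) = _
        rw [h1, SymAlg11.symLift_algebraMap]
        rfl }
  obtain ⟨τ, -⟩ := G.exists_iso hgen hP hL
  refine ⟨G.toP hgen hP, G.isImmersion_toP hgen hP fun x => ?_,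
    G.toP_comp hgen hP, ⟨τ.symm⟩⟩
  obtain ⟨U, hU, hva⟩ := h x
  refine ⟨U, hU, hva.mono fun m hm => ?_⟩
  have hs : ∀ k, s U hU (eq1 U hU k) = secs φ U k := fun k =>
    congrArg (secs φ U) ((eq1 U hU).symm_apply_apply k)
  have hgl : gl (G.s U hU (eq1 U hU m)) ≤ gl (secs φ U m) := (gl_congr (hs m)).le
  have hcf : ∀ (u u' : Γ(L, f ⁻¹ᵁ U)) (e : u' = u) (v v' : Γ(L, f ⁻¹ᵁ U)) (ev : v' = v) (h : gl u' ≤ gl u),
      ores h (cf u v) = cf u' v' := by
    rintro u _ rfl v _ rfl h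
    exact ores_id _ _
  refine ⟨eq1 U hU m, hgl, (gl_congr (hs m)).ge hm, fun r => ?_, fun k => ?_⟩
  · rw [ores_ores]
    exact base_mem_ratSub r
  · rw [hcf _ _ (hs m) _ _ (hs k) hgl]
    exact cf_mem_ratSub _

/-- The criterion gives very ampleness. -/
theorem isRelVeryAmple_of_vamp {f : X ⟶ S} {L : X.Modules} {E : S.Modules} (hE : Coh.IsQCoh E)
    (φ : E ⟶ (Scheme.Modules.pushforward f).obj L) (h : VAmp φ) : RelProj.IsRelVeryAmple f L := by
  obtain ⟨P, p, chart, hP⟩ := RelProj11.exists_isRelProj (symGr hE)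
  obtain ⟨O1, lam, hL⟩ := RelProj11.exists_isRelTwist hP 1
  obtain ⟨i, hi⟩ := exists_immersion_of_vamp hE h (isGrSymAlg_symGr hE) hP hL
  exact ⟨E, hE, symGr hE, _, isGrSymAlg_symGr hE, P, p, chart, hP, O1, lam, hL, i, hi⟩

theorem va_congr {f : X ⟶ S} {L : X.Modules} {U : S.Opens} {κ κ' : Type v} {σ : κ → Γ(L, f ⁻¹ᵁ U)}
    {σ' : κ' → Γ(L, f ⁻¹ᵁ U)} (e : κ → κ') (h : ∀ k, σ' (e k) = σ k) (hσ : VA (f.app U).hom σ) :
    VA (f.app U).hom σ' := fun x hx => by
  refine (hσ x hx).mono fun m hm => ⟨e m, (gl_congr (h m)).le, (gl_congr (h m)).ge hm, fun r => ?_, fun k => ?_⟩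
  · rw [ores_ores]
    exact base_mem_ratSub r
  · have hcf : ∀ (u u' : Γ(L, f ⁻¹ᵁ U)) (e : u' = u) (v v' : Γ(L, f ⁻¹ᵁ U)) (ev : v' = v) (h : gl u' ≤ gl u),
        ores h (cf u v) = cf u' v' := by
      rintro u _ rfl v _ rfl h
      exact ores_id _ _
    rw [hcf _ _ (h m) _ _ (h k)]
    exact cf_mem_ratSub _

/-- Very ampleness gives the criterion over every affine open. -/
theorem exists_va_of_isRelVeryAmple {f : X ⟶ S} {L : X.Modules} (h : RelProj.IsRelVeryAmple f L) :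
    ∃ (E : S.Modules) (φ : E ⟶ (Scheme.Modules.pushforward f).obj L), Coh.IsQCoh E ∧
      ∀ U : S.Opens, IsAffineOpen U → VA (f.app U).hom (secs φ U) := by
  obtain ⟨E, hE, 𝒮, j, hj, P, p, chart, hP, O1, lam, hL, i, hi, rfl, ⟨e⟩⟩ := h
  have hgen := isGenDegOne_of_isGrSymAlg hE hj
  let τ := e.symm
  let g : ∀ U : S.Opens, IsAffineOpen U → Γ(E, U) →+ Γ((Scheme.Modules.pushforward (i ≫ p)).obj L, U) :=
    fun U hU => AddMonoidHom.mk' (fun m => sig hL i τ U hU ⟨j.app U m, hj.2 U hU m⟩) fun m m' => by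
      simp only [sig, map_add]
      rw [phi_add hL U hU (hj.2 U hU m) (hj.2 U hU m'), M2.pullSec_add, map_add]
  obtain ⟨φ, hφ⟩ := exists_hom_of_affine E _ g
    (fun U hU r m => by
      show τ.hom.app _ (M2.pullSec i O1 (phi hL U hU _ _)) =
        i.app (p ⁻¹ᵁ U) (p.app U r) • (τ.hom.app _ (M2.pullSec i O1 (phi hL U hU _ _)) : Γ(L, i ⁻¹ᵁ (p ⁻¹ᵁ U)))
      have e1 : j.app U (r • m) = (𝒮.str.app (op U)).hom r * (show 𝒮.presheaf.obj (op U) from j.app U m) :=
        j.app_smul r m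
      simp only [e1]
      rw [phi_str_mul hP hL hgen U hU r (hj.2 U hU m), M2.pullSec_smul, Scheme.Modules.Hom.app_smul])
    (fun {U V} hU hV hle m => by
      show mres L (i.preimage_mono (p.preimage_mono hle)) (sig hL i τ U hU _) = sig hL i τ V hV _
      rw [mres_sig hL i τ U hU _ (p.preimage_mono hle), phi_res hL hP hU hV hle]
      simp only [sig]
      congr 3
      exact (app_mres j hle m).symm)
  refine ⟨E, φ, hE, fun U hU => ?_⟩
  have hb := bijective_deg_one hE hj U hU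
  refine va_congr (f := i ≫ p) (σ := fun a : 𝒮.deg U hU 1 => sig hL i τ U hU a) (Equiv.ofBijective _ hb).symm (fun a => ?_)
    (va_of_immersion hL i τ hgen U hU)
  show φ.app U _ = _
  rw [hφ U hU]
  show sig hL i τ U hU _ = _
  congr 1
  exact (Equiv.ofBijective _ hb).apply_symm_apply a

/-- Relative very ampleness is the criterion for some quasi-coherent module of sections. -/
theorem isRelVeryAmple_iff {f : X ⟶ S} {L : X.Modules} :
    RelProj.IsRelVeryAmple f L ↔
      ∃ (E : S.Modules) (φ : E ⟶ (Scheme.Modules.pushforward f).obj L), Coh.IsQCoh E ∧ VAmp φ :=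
  ⟨fun h => let ⟨E, φ, hE, hva⟩ := exists_va_of_isRelVeryAmple h; ⟨E, φ, hE, vamp_of_forall hva⟩,
    fun ⟨_, φ, hE, h⟩ => isRelVeryAmple_of_vamp hE φ h⟩

end Groth.Agent.VA11
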