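import Groth.Agent.Lib.VeryAmple11.QMapVA
import Groth.Agent.Lib.VeryAmple11.FT

/-!
The degree one part of a graded morphism into the symmetric algebra of an invertible module, and
the converse of the immersion criterion.
-/

set_option autoImplicit false

universe u

open CategoryTheory Limits AlgebraicGeometry TopologicalSpace Opposite
open scoped HomogeneousIdeal

set_option backward.isDefEq.respectTransparency false

noncomputable section

namespace Groth.Agent.VA11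

open Groth.Agent.M1

variable {S X : Scheme.{u}} {f : X ⟶ S} {L : X.Modules} {E : S.Modules} {𝒮 : RelProj.QCGrAlg S}
  {j : E ⟶ 𝒮.toModule} {𝒮L : RelProj.QCGrAlg X} {jL : L ⟶ 𝒮L.toModule}
  (hLq : Coh.IsQCoh L) (hjL : RelProj.IsGrSymAlg L 𝒮L jL)

include hLq hjL in
/-- A graded morphism is given in degree one by a module map into the direct image. -/
theorem exists_degOne_hom (u : RelProj.QGrHom f 𝒮 𝒮L)
    (hj1 : ∀ (U : S.Opens) (hU : IsAffineOpen U) (e : Γ(E, U)), j.app U e ∈ 𝒮.deg U hU 1) :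
    ∃ φ : E ⟶ (Scheme.Modules.pushforward f).obj L, ∀ (U : S.Opens) (e : Γ(E, U)),
      (u.app U).hom ((j.app U) e) = (jL.app (f ⁻¹ᵁ U)) (φ.app U e) := by
  classical
  have hinj : ∀ (V : X.Opens), IsAffineOpen V → ∀ a b : Γ(L, V), jL.app V a = jL.app V b → a = b :=
    fun V hV a b h => (bijective_deg_one hLq hjL V hV).1 (Subtype.ext h)
  have hex : ∀ (V : X.Opens) (hV : IsAffineOpen V) (x : 𝒮L.presheaf.obj (op V)), ∃ e : Γ(L, V),
      jL.app V e = (DirectSum.decompose (𝒮L.deg V hV) x 1).1 := fun V hV x => by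
    obtain ⟨e, he⟩ := (bijective_deg_one hLq hjL V hV).2 (DirectSum.decompose (𝒮L.deg V hV) x 1)
    exact ⟨e, congrArg Subtype.val he⟩
  choose g hg using hex
  obtain ⟨π, hπ⟩ := exists_hom_of_affine 𝒮L.toModule L
    (fun V hV => AddMonoidHom.mk' (fun x : Γ(𝒮L.toModule, V) => g V hV x) fun x y => hinj V hV _ _ (by
      rw [map_add, hg, hg, hg]
      erw [DirectSum.decompose_add]
      rfl))
    (fun V hV r x => hinj V hV _ _ (by
      show jL.app V (g V hV ((𝒮L.str.app (op V)).hom r * (show 𝒮L.presheaf.obj (op V) from x))) =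
        jL.app V (r • g V hV x)
      rw [hg]
      refine Eq.trans ?_ (jL.app_smul r _).symm
      show _ = (𝒮L.str.app (op V)).hom r * (show 𝒮L.presheaf.obj (op V) from jL.app V (g V hV x))
      rw [hg, DirectSum.coe_decompose_mul_of_left_mem_of_le (𝒮L.deg V hV) (𝒮L.str_mem V hV r) (Nat.zero_le 1)]))
    (fun {V W} hV hW hle x => hinj W hW _ _ (by
      show jL.app W (mres L hle (g V hV x)) = jL.app W (g W hW (𝒮L.res hV hW hle x))
      rw [app_mres jL hle, hg, hg]
      have h3 := GradedRingHom.map_directSumDecompose (𝒜 := 𝒮L.deg V hV) (ℬ := 𝒮L.deg W hW)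
        (𝒮L.res hV hW hle) (x := (x : 𝒮L.presheaf.obj (op V))) (i := 1)
      exact h3))
  obtain ⟨φ, hφ⟩ := exists_hom_of_affine E ((Scheme.Modules.pushforward f).obj L)
    (fun U _ => AddMonoidHom.mk' (fun e : Γ(E, U) => π.app (f ⁻¹ᵁ U) ((u.app U).hom (j.app U e)))
      fun a b => by
        rw [map_add]
        erw [map_add, map_add])
    (fun U hU r e => by
      show π.app (f ⁻¹ᵁ U) ((u.app U).hom (j.app U (r • e))) =
        (f.app U r • (π.app (f ⁻¹ᵁ U) ((u.app U).hom (j.app U e)) : Γ(L, f ⁻¹ᵁ U)))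
      rw [show j.app U (r • e) = ((𝒮.str.app (op U)).hom r * (show 𝒮.presheaf.obj (op U) from j.app U e) :
        𝒮.presheaf.obj (op U)) from j.app_smul r e, map_mul]
      refine Eq.trans ?_ (π.app_smul (U := f ⁻¹ᵁ U) (f.app U r) _)
      refine congrArg _ ?_
      exact congrArg (· * (u.app U).hom (j.app U e)) (ConcreteCategory.congr_hom (u.str_app U) r))
    (fun {U V} hU hV hle e => by
      show mres L (f.preimage_mono hle) (π.app (f ⁻¹ᵁ U) ((u.app U).hom (j.app U e))) =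
        π.app (f ⁻¹ᵁ V) ((u.app V).hom (j.app V (mres E hle e)))
      rw [← app_mres π (f.preimage_mono hle)]
      refine congrArg _ ?_
      rw [app_mres j hle]
      exact ConcreteCategory.congr_hom (u.naturality hle) (j.app U e))
  refine ⟨φ, fun U e => ?_⟩
  refine M1.section_ext (M := 𝒮L.toModule) _ _ fun x hx => ?_
  obtain ⟨U', hU', hxU', hU'U⟩ := exists_isAffineOpen_mem_and_subset (show f x ∈ U from hx)
  obtain ⟨V, hV, hxV, hVle⟩ := exists_isAffineOpen_mem_and_subset (show x ∈ f ⁻¹ᵁ U' from hxU')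
  have hle : V ≤ f ⁻¹ᵁ U := (hVle : V ≤ f ⁻¹ᵁ U').trans (f.preimage_mono hU'U)
  rw [← TopCat.Presheaf.germ_res_apply 𝒮L.toModule.presheaf (homOfLE hle) x hxV,
    ← TopCat.Presheaf.germ_res_apply 𝒮L.toModule.presheaf (homOfLE hle) x hxV]
  refine congrArg _ ?_
  show mres 𝒮L.toModule hle ((u.app U).hom (j.app U e)) = mres 𝒮L.toModule hle (jL.app _ (φ.app U e))
  have h1 : mres 𝒮L.toModule (f.preimage_mono hU'U) ((u.app U).hom (j.app U e)) =
      (u.app U').hom (j.app U' (mres E hU'U e)) := by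
    rw [app_mres j hU'U]
    exact ConcreteCategory.congr_hom (u.naturality hU'U) (j.app U e)
  have h2 : mres L (f.preimage_mono hU'U) (φ.app U e) =
      π.app (f ⁻¹ᵁ U') ((u.app U').hom (j.app U' (mres E hU'U e))) :=
    (app_mres φ hU'U e).symm.trans (hφ U' hU' _)
  rw [← app_mres jL hle, ← mres_mres L (f.preimage_mono hU'U) hVle (φ.app U e), h2, ← app_mres π, hπ V hV,
    ← mres_mres 𝒮L.toModule (f.preimage_mono hU'U) hVle ((u.app U).hom (j.app U e)), h1]
  refine Eq.symm ((hg V hV _).trans ?_)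
  have h3 := DirectSum.decompose_of_mem_same (𝒮L.deg V hV) (u.map_mem U' hU' V hV hVle (hj1 U' hU' (mres E hU'U e)))
  exact h3

variable {φ : E ⟶ (Scheme.Modules.pushforward f).obj L} {u : RelProj.QGrHom f 𝒮 𝒮L}
  (hu : ∀ (U : S.Opens) (m : Γ(E, U)), (u.app U).hom ((j.app U) m) = (jL.app (f ⁻¹ᵁ U)) (φ.app U m))

include hLq hjL hu in
/-- Sections spanning the degree one part generate. -/
theorem gens_of_span (hL : PicF.IsInvertible L)
    (h : ∀ x : X, ∃ (U : S.Opens) (_ : IsAffineOpen U) (e : Γ(E, U)) (V : X.Opens) (hV : IsAffineOpen V)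
        (hVU : V ≤ f ⁻¹ᵁ U), x ∈ V ∧
          ((𝒮L.deg V hV 1 : AddSubgroup (𝒮L.presheaf.obj (op V))) : Set (𝒮L.presheaf.obj (op V))) ⊆
              (Ideal.span {(u.appLE U V hVU).hom ((j.app U) e)} : Set (𝒮L.presheaf.obj (op V)))) :
    Gens φ := by
  intro x
  obtain ⟨U, hU, e, V, hV, hVU, hxV, hg⟩ := h x
  refine ⟨U, e, ?_⟩
  let c : 𝒮L.presheaf.obj (op V) := SymAlg11.tgen jL V (mres L hVU (secs φ U e))
  have hc : (u.appLE U V hVU).hom ((j.app U) e) = c := gradedAt_gen hu U hU hV hVU e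
  rw [hc] at hg
  have hnv : x ∈ SymAlg11.nv 𝒮L V 1 c :=
    Opens.mem_iSup.2 ⟨⟨⟨V, hV⟩, le_rfl, by rw [SymAlg11.gres_self]; exact hg⟩, hxV⟩
  obtain ⟨W, hW, hWV, g, a, hxW, -, hgen, ha⟩ := SymAlg11.exists_local hLq hjL hL
    (SymAlg11.isHom_of_mem hV (SymAlg11.tgen_mem hjL hV _)) ⊤ (x := x) trivial hxV
  have hxa := (SymAlg11.mem_nv_iff hLq hjL hW hWV hgen ha hxW).1 hnv
  rw [SymAlg11.gres_tgen, pow_one, mres_mres] at ha
  have h2 : mres L (hWV.trans hVU) (secs φ U e) = a • g :=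
    (bijective_deg_one hLq hjL W hW).1 (Subtype.ext (ha.trans (jL.app_smul a g).symm))
  refine le_gl ((X.basicOpen_le a).trans (hWV.trans hVU)) ?_ hxa
  rw [← mres_mres L (hWV.trans hVU) (X.basicOpen_le a), h2, mres_smul]
  exact isGen_smul_unit (Twist.IsGen.mres hgen (X.basicOpen_le a))
    (RingedSpace.isUnit_res_basicOpen X.toRingedSpace a)

/-- The criterion passes to larger modules of sections. -/
theorem vamp_of_comp {E' : S.Modules} (g : E' ⟶ E) (h : VAmp (g ≫ φ)) : VAmp φ := fun x => by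
  obtain ⟨U, hU, hva⟩ := h x
  refine ⟨U, hU, hva.mono fun m _ => ⟨g.app U m, le_rfl, ‹_›, fun r => ?_, fun k => ?_⟩⟩
  · rw [ores_ores]
    exact base_mem_ratSub r
  · erw [ores_id]
    exact cf_mem_ratSub (σ := secs φ U) (e := g.app U m) (g.app U k)

variable (hE : Coh.IsQCoh E) (hj : RelProj.IsGrSymAlg E 𝒮 j) (hL : PicF.IsInvertible L)
  {P : Scheme.{u}} {p : P ⟶ S}
  {chart : ∀ (U : S.Opens) (hU : IsAffineOpen U), ((p ⁻¹ᵁ U : P.Opens) : Scheme.{u}) ≅ Proj (𝒮.deg U hU)}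
  (hP : RelProj.IsRelProj 𝒮 p chart)
  {PL : Scheme.{u}} {pL : PL ⟶ X}
  {chartL : ∀ (U : X.Opens) (hU : IsAffineOpen U), (((pL ⁻¹ᵁ U : PL.Opens) : Scheme.{u}) ≅ Proj (𝒮L.deg U hU))}
  (hPL : RelProj.IsRelProj 𝒮L pL chartL)

include hE hj in
/-- An immersion given by sections satisfies the criterion. -/
theorem vamp_of_immersion {r : X ⟶ P} (hr : r ≫ p = f) [IsImmersion r] {O1 : P.Modules}
    {lam : ∀ (U : S.Opens) (hU : IsAffineOpen U),
      O1 ⟶ (Scheme.Modules.pushforward (RelProj.emb p chart U hU)).obj (GrTwist.twist (𝒮.deg U hU) 1)}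
    (hO : RelProj.IsRelTwist 𝒮 p chart 1 O1 lam) (τ : (Scheme.Modules.pullback r).obj O1 ≅ L)
    (hs : ∀ (U : S.Opens) (hU : IsAffineOpen U) (e : Γ(E, U)),
      sig hO r τ U hU ⟨j.app U e, hj.2 U hU e⟩ =
        mres L (show r ⁻¹ᵁ (p ⁻¹ᵁ U) ≤ f ⁻¹ᵁ U by rw [← hr]; rfl) (secs φ U e)) : VAmp φ := by
  subst hr
  refine vamp_of_forall fun U hU => ?_
  refine va_congr (f := r ≫ p) (σ := fun a : 𝒮.deg U hU 1 => sig hO r τ U hU a) (eqOne hE hj U hU).symm
    (fun a => ?_) (va_of_immersion hO r τ (isGenDegOne_of_isGrSymAlg hE hj) U hU)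
  have h1 := hs U hU ((eqOne hE hj U hU).symm a)
  erw [mres_id] at h1
  refine Eq.trans h1.symm (congrArg _ (Subtype.ext ?_))
  exact app_eqOne_symm hE hj U hU a

include hE hj hP in
/-- The morphism given by the sections induces them. -/
theorem exists_iso_genData (h : Gens φ) {O1 : P.Modules}
    {lam : ∀ (U : S.Opens) (hU : IsAffineOpen U),
      O1 ⟶ (Scheme.Modules.pushforward (RelProj.emb p chart U hU)).obj (GrTwist.twist (𝒮.deg U hU) 1)}
    (hO : RelProj.IsRelTwist 𝒮 p chart 1 O1 lam) :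
    ∃ τ : (Scheme.Modules.pullback ((genData hE hj h).toP (isGenDegOne_of_isGrSymAlg hE hj) hP)).obj O1 ≅ L,
      ∀ (U : S.Opens) (hU : IsAffineOpen U) (e : Γ(E, U)),
        sig hO ((genData hE hj h).toP (isGenDegOne_of_isGrSymAlg hE hj) hP) τ U hU ⟨j.app U e, hj.2 U hU e⟩ =
          mres L (show ((genData hE hj h).toP (isGenDegOne_of_isGrSymAlg hE hj) hP) ⁻¹ᵁ (p ⁻¹ᵁ U) ≤ f ⁻¹ᵁ U by
            rw [← Scheme.Hom.comp_preimage, GenData.toP_comp]) (secs φ U e) := by
  let G := genData hE hj h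
  have hgen := isGenDegOne_of_isGrSymAlg hE hj
  obtain ⟨τ, hτ⟩ := G.exists_iso hgen hP hO
  refine ⟨τ, fun U hU e => ?_⟩
  let r := G.toP hgen hP
  let b : 𝒮.deg U hU 1 := ⟨j.app U e, hj.2 U hU e⟩
  have hb : G.s U hU b = secs φ U e := congrArg (secs φ U) ((eqOne hE hj U hU).symm_apply_apply e)
  have hle : r ⁻¹ᵁ (p ⁻¹ᵁ U) ≤ f ⁻¹ᵁ U := by rw [← Scheme.Hom.comp_preimage, GenData.toP_comp]
  change sig hO r τ U hU b = mres L hle (secs φ U e)
  rw [← hb]
  refine modules_eq_of_locally_eq L _ (fun a : 𝒮.deg U hU 1 => r ⁻¹ᵁ dd p chart U hU a.1)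
    (fun a => r.preimage_mono (dd_le U hU a.1)) (fun x hx => ?_) _ _ fun a => ?_
  · obtain ⟨a, ha⟩ := G.cov U hU x (hle hx)
    exact Opens.mem_iSup.2 ⟨a, (G.preimage_dd_toP hgen hP U hU a).ge ha⟩
  have hga := G.preimage_dd_toP hgen hP U hU a
  have hsa : mres L (r.preimage_mono (dd_le U hU a.1)) (sig hO r τ U hU a) =
      mres L (hga.le.trans (gl_le _)) (G.s U hU a) := by
    have h1 : τ.hom.app (gl (G.s U hU a)) (mres _ hga.ge
        (M2.pullSec r O1 (mres O1 (dd_le U hU a.1) (phi hO U hU a.1 a.2)))) =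
        mres L (gl_le _) (G.s U hU a) := hτ ⟨⟨U, hU⟩, a⟩
    rw [app_mres, ← mres_sig hO r τ U hU a (dd_le U hU a.1), mres_mres] at h1
    have h2 := congrArg (mres L hga.le) h1
    rw [mres_mres, mres_mres] at h2
    exact h2
  show mres L (r.preimage_mono (dd_le U hU a.1)) (sig hO r τ U hU b) =
    mres L (r.preimage_mono (dd_le U hU a.1)) (mres L hle (G.s U hU b))
  have hc : r.app (dd p chart U hU a.1) (rat p chart U hU a.2 b.1) = ores hga.le (cf (G.s U hU a) (G.s U hU b)) := by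
    rw [← G.psi_one, ← G.app_rat_toP hgen hP U hU a b.1, ores_ores, ores_id]
  rw [sig_eq_smul hO r τ U hU a b, hsa, hc, mres_mres]
  exact cf_smul_res _ _ hga.le

variable {r : (RelProj.domQ u pL chartL).toScheme ⟶ P}
  (hr : RelProj.IsProjQMapOn u p chart pL chartL (RelProj.domQ u pL chartL) r)

include hE hj hLq hjL hL hP hPL hu hr in
/-- If the morphism is an immersion the criterion holds. -/
theorem vamp_of_qMapOn_isImmersion (h : Gens φ) [IsImmersion r] : VAmp φ := by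
  haveI := SymAlg11.isIso_pL hLq hjL hL hPL
  have htop := domQ_eq_top_of_gens hE hj hLq hjL hL hPL hu h
  haveI : IsIso (RelProj.domQ u pL chartL).ι := by
    have : ∀ W : PL.Opens, W = ⊤ → IsIso W.ι := by
      rintro _ rfl
      rw [← Scheme.topIso_hom]
      infer_instance
    exact this _ htop
  have hT : (genData hE hj h).toP (isGenDegOne_of_isGrSymAlg hE hj) hP =
      inv ((RelProj.domQ u pL chartL).ι ≫ pL) ≫ r :=
    (IsIso.eq_inv_comp _).2 ((Category.assoc _ _ _).trans (qMapOn_eq_toP hE hj hP hLq hjL hL hPL hu hr h).symm)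
  haveI : IsImmersion ((genData hE hj h).toP (isGenDegOne_of_isGrSymAlg hE hj) hP) := hT ▸ inferInstance
  obtain ⟨O1, lam, hO⟩ := RelProj11.exists_isRelTwist hP 1
  obtain ⟨τ, hτ⟩ := exists_iso_genData hE hj hP h hO
  exact vamp_of_immersion hE hj (GenData.toP_comp _ _ hP) hO τ hτ

end Groth.Agent.VA11
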