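import Groth.Agent.Lib.VeryAmple11.ProjOne
import Groth.Agent.Lib.SymAlg11.LineAmple

/-!
An immersion given by a graded morphism from an algebra generated in degree one.
-/

set_option autoImplicit false

universe u

open CategoryTheory Limits AlgebraicGeometry TopologicalSpace Opposite HomogeneousLocalization
open scoped HomogeneousIdeal

set_option backward.isDefEq.respectTransparency false

noncomputable section

namespace Groth.Agent.VA11

open Groth.Agent.M1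

section crit

variable {S P X : Scheme.{u}} {𝒮 : RelProj.QCGrAlg S} {p : P ⟶ S}
  {chart : ∀ (U : S.Opens) (hU : IsAffineOpen U), ((p ⁻¹ᵁ U : P.Opens) : Scheme.{u}) ≅ Proj (𝒮.deg U hU)}
  {L : X.Modules} (i : X ⟶ P)

/-- An immersion into a relative `Proj` satisfies the criterion over every affine open. -/
theorem va_of_immersion' [IsImmersion i] (hgen : 𝒮.IsGenDegOne) (U : S.Opens) (hU : IsAffineOpen U)
    (σ : 𝒮.deg U hU 1 → Γ(L, i ⁻¹ᵁ (p ⁻¹ᵁ U)))
    (hgl : ∀ e : 𝒮.deg U hU 1, gl (σ e) = i ⁻¹ᵁ dd p chart U hU e.1)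
    (hrat : ∀ e a : 𝒮.deg U hU 1, i.app (dd p chart U hU e.1) (rat p chart U hU e.2 a.1) =
      ores (hgl e).ge (cf (σ e) (σ a))) :
    VA ((i ≫ p).app U).hom σ := by
  intro x hx
  obtain ⟨f, hf, hxf⟩ := mem_dd_of_mem (chart := chart) (hU := hU) hgen (hx : i x ∈ p ⁻¹ᵁ U)
  let f' : 𝒮.deg U hU 1 := ⟨f, hf⟩
  have hge : i ⁻¹ᵁ dd p chart U hU f ≤ gl (σ f') := (hgl f').ge
  have hle : gl (σ f') ≤ i ⁻¹ᵁ dd p chart U hU f := (hgl f').le
  let ev : 𝒮.presheaf.obj (op U) →+* Γ(X, gl (σ f')) :=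
    (ores hle).hom.comp ((i.app (dd p chart U hU f)).hom.comp (rat p chart U hU hf))
  have hev1 : ∀ a : 𝒮.deg U hU 1, ev a.1 = cf (σ f') (σ a) := fun a => by
    refine ores_injective hge hle ?_
    show ores hge (ores hle _) = _
    rw [ores_ores, ores_id]
    exact hrat f' a
  have hev : ∀ a, ev a ∈ ratSub ((i ≫ p).app U).hom σ f' := by
    intro a
    have ha : a ∈ Subring.closure ((𝒮.deg U hU 0 : Set (𝒮.presheaf.obj (op U))) ∪ (𝒮.deg U hU 1 : Set _)) :=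
      hgen U hU ▸ Subring.mem_top a
    revert a
    show Subring.closure _ ≤ (ratSub ((i ≫ p).app U).hom σ f').comap ev
    rw [Subring.closure_le]
    rintro a (ha | ha)
    · have h1 : a * f ∈ 𝒮.deg U hU 1 := by simpa using SetLike.mul_mem_graded ha hf
      have h2 := hev1 ⟨a * f, h1⟩
      have h3 : ev f = 1 := (hev1 f').trans (cf_self _)
      rw [map_mul, h3, mul_one] at h2
      rw [SetLike.mem_coe, Subring.mem_comap, h2]
      exact cf_mem_ratSub _
    · rw [SetLike.mem_coe, Subring.mem_comap, hev1 ⟨a, ha⟩]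
      exact cf_mem_ratSub _
  obtain ⟨y, hy, hyx⟩ := hxf
  have hA := Proj.isAffineOpen_basicOpen (𝒮.deg U hU) f hf one_pos
  obtain ⟨h, hh, hyh⟩ := hA.exists_basicOpen_le (V := RelProj.emb p chart U hU ⁻¹ᵁ i.coborderRange)
    ⟨y, show RelProj.emb p chart U hU y ∈ i.coborderRange from hyx ▸ subset_coborder ⟨x, rfl⟩⟩ hy
  haveI : IsIso (Proj.awayToSection (𝒮.deg U hU) f) := by
    rw [← Proj.basicOpenIsoAway_hom (𝒮.deg U hU) f hf one_pos]; infer_instance
  obtain ⟨q, hq⟩ := (ConcreteCategory.bijective_of_isIso (Proj.awayToSection (𝒮.deg U hU) f)).2 h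
  obtain ⟨a, rfl⟩ := dh_surjective (𝒮.deg U hU) hf q
  let r := rat p chart U hU hf a
  have hD : IsAffineOpen (dd p chart U hU f) := hA.image_of_isOpenImmersion _
  have hE : IsAffineOpen (P.basicOpen r) := hD.basicOpen r
  have hpre : RelProj.emb p chart U hU ⁻¹ᵁ P.basicOpen r = (Proj (𝒮.deg U hU)).basicOpen h := by
    rw [Scheme.preimage_basicOpen, app_rat, basicOpen_ores, hq, inf_eq_right]
    exact (Scheme.basicOpen_le _ _).trans (preimage_dd U hU f).ge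
  have hxE : i x ∈ P.basicOpen r := by
    have : y ∈ RelProj.emb p chart U hU ⁻¹ᵁ P.basicOpen r := hpre ▸ hyh
    exact hyx ▸ this
  have hEO : P.basicOpen r ≤ i.coborderRange := by
    intro z hz
    obtain ⟨y', -, rfl⟩ := P.basicOpen_le _ hz
    exact hh (hpre ▸ hz : y' ∈ (Proj (𝒮.deg U hU)).basicOpen h)
  have hci : IsClosedImmersion (i ∣_ P.basicOpen r) :=
    (restrict_comp_ι_iff i.liftCoborder i i.liftCoborder_ι hEO @IsClosedImmersion).1
      (IsZariskiLocalAtTarget.restrict (P := @IsClosedImmersion) (f := i.liftCoborder) inferInstance _)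
  haveI : IsAffine (P.basicOpen r : Scheme.{u}) := hE
  obtain ⟨haff, hsurj⟩ := IsClosedImmersion.isAffine_surjective_of_isAffine (f := i ∣_ P.basicOpen r)
  have hbo : X.basicOpen (ev a) = i ⁻¹ᵁ P.basicOpen r := by
    rw [Scheme.preimage_basicOpen]
    show X.basicOpen (ores hle (i.app _ r)) = _
    rw [basicOpen_ores, inf_eq_right]
    exact (X.basicOpen_le _).trans hge
  refine ⟨f', ev a, hev a, hbo ▸ hxE, hbo ▸ haff, ?_⟩
  rw [eq_top_iff]
  intro t _
  have hsurj' : Function.Surjective (i.appLE (P.basicOpen r) (X.basicOpen (ev a)) hbo.le) := by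
    rw [morphismRestrict_appTop, Scheme.Hom.app_eq_appLE, Scheme.Hom.appLE_map] at hsurj
    have key : ∀ (E : P.Opens) (D : X.Opens) (h₀ : D ≤ i ⁻¹ᵁ E) (E' : P.Opens) (D' : X.Opens)
        (h₁ : D' ≤ i ⁻¹ᵁ E'), E = E' → D = D' → Function.Surjective (i.appLE E D h₀) →
        Function.Surjective (i.appLE E' D' h₁) := fun E D h₀ E' D' h₁ e1 e2 h => by subst e1 e2; exact h
    exact key _ _ _ _ _ _ (Scheme.Opens.ι_image_top _) ((Scheme.Opens.ι_image_top _).trans hbo.symm) hsurj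
  obtain ⟨t', rfl⟩ := hsurj' t
  letI : Algebra Γ(P, dd p chart U hU f) Γ(P, P.basicOpen r) := (ores (P.basicOpen_le r)).hom.toAlgebra
  haveI : IsLocalization.Away r Γ(P, P.basicOpen r) := hD.isLocalization_basicOpen r
  obtain ⟨k, s, hs⟩ := IsLocalization.Away.surj r t'
  obtain ⟨c, rfl⟩ : ∃ c, rat p chart U hU hf c = s := by
    have hb : Function.Bijective ((RelProj.emb p chart U hU).app (dd p chart U hU f)) :=
      ConcreteCategory.bijective_of_isIso _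
    obtain ⟨q', hq'⟩ := (ConcreteCategory.bijective_of_isIso (Proj.awayToSection (𝒮.deg U hU) f)).2
      (ores (preimage_dd U hU f).ge ((RelProj.emb p chart U hU).app (dd p chart U hU f) s))
    obtain ⟨c, rfl⟩ := dh_surjective (𝒮.deg U hU) hf q'
    refine ⟨c, hb.1 ?_⟩
    rw [app_rat, hq', ores_ores, ores_id]
  refine ⟨k, ev c, hev c, ?_⟩
  have hnat : ∀ z : Γ(P, dd p chart U hU f),
      (i.appLE (P.basicOpen r) (X.basicOpen (ev a)) hbo.le) (ores (P.basicOpen_le r) z) =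
        ores (X.basicOpen_le (ev a)) (ores hle (i.app (dd p chart U hU f) z)) := fun z => by
    rw [← ConcreteCategory.comp_apply, ← ConcreteCategory.comp_apply, ← ConcreteCategory.comp_apply]
    simp [Scheme.Hom.app_eq_appLE]
  have h1 := congrArg (i.appLE (P.basicOpen r) (X.basicOpen (ev a)) hbo.le) hs
  rw [map_mul, map_pow] at h1
  refine Eq.trans ?_ (h1.trans (hnat _))
  show _ * ores (X.basicOpen_le (ev a)) (ev a) ^ k = _
  rw [show ores (X.basicOpen_le (ev a)) (ev a) =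
    (i.appLE (P.basicOpen r) (X.basicOpen (ev a)) hbo.le) (ores (P.basicOpen_le r) r) from (hnat r).symm]
  rfl

end crit

theorem appLE_dd {S P : Scheme.{u}} {𝒮 : RelProj.QCGrAlg S} {p : P ⟶ S}
    {chart : ∀ (U : S.Opens) (hU : IsAffineOpen U), ((p ⁻¹ᵁ U : P.Opens) : Scheme.{u}) ≅ Proj (𝒮.deg U hU)}
    (U : S.Opens) (hU : IsAffineOpen U) {f : 𝒮.presheaf.obj (op U)} (hf : f ∈ 𝒮.deg U hU 1)
    (h : (⊤ : (Spec (CommRingCat.of (Away (𝒮.deg U hU) f))).Opens) ≤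
      (Proj.awayι (𝒮.deg U hU) f hf one_pos ≫ RelProj.emb p chart U hU) ⁻¹ᵁ dd p chart U hU f)
    (a : 𝒮.presheaf.obj (op U)) :
    (Proj.awayι (𝒮.deg U hU) f hf one_pos ≫ RelProj.emb p chart U hU).appLE (dd p chart U hU f) ⊤ h
      (rat p chart U hU hf a) = (Scheme.ΓSpecIso (CommRingCat.of (Away (𝒮.deg U hU) f))).inv
        (dh (𝒮.deg U hU) hf a) := by
  have e : (⊤ : (Spec (CommRingCat.of (Away (𝒮.deg U hU) f))).Opens) ≤
      Proj.awayι (𝒮.deg U hU) f hf one_pos ⁻¹ᵁ Proj.basicOpen (𝒮.deg U hU) f := by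
    intro w _
    rw [← Proj.opensRange_awayι (𝒮.deg U hU) f hf one_pos]
    exact ⟨_, rfl⟩
  have hB : Proj.basicOpen (𝒮.deg U hU) f ≤ RelProj.emb p chart U hU ⁻¹ᵁ dd p chart U hU f :=
    (preimage_dd U hU f).ge
  rw [← Scheme.Hom.appLE_comp_appLE _ (RelProj.emb p chart U hU) (dd p chart U hU f) _ ⊤ hB e,
    ConcreteCategory.comp_apply]
  refine Eq.trans (congrArg _ ?_) (PullBC11.appLE_awayι hf one_pos (dh (𝒮.deg U hU) hf a) e)
  rw [Scheme.Hom.appLE, ConcreteCategory.comp_apply, app_rat]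
  exact (ores_ores _ _ _).trans (ores_id _ _)

theorem appLE_chart {S P : Scheme.{u}} {𝒮 : RelProj.QCGrAlg S} {p : P ⟶ S}
    {chart : ∀ (U : S.Opens) (hU : IsAffineOpen U), ((p ⁻¹ᵁ U : P.Opens) : Scheme.{u}) ≅ Proj (𝒮.deg U hU)}
    (U : S.Opens) (hU : IsAffineOpen U) {B τ : Type u} [CommRing B] [SetLike τ B] [AddSubgroupClass τ B]
    {ℬ : ℕ → τ} [GradedRing ℬ] (ψ : 𝒮.deg U hU →+*ᵍ ℬ) {f : 𝒮.presheaf.obj (op U)} (hf : f ∈ 𝒮.deg U hU 1)
    (n : Spec (CommRingCat.of (Away ℬ (ψ f))) ⟶ P)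
    (hn : n = Spec.map (CommRingCat.ofHom (Away.map ψ f)) ≫
      Proj.awayι (𝒮.deg U hU) f hf one_pos ≫ RelProj.emb p chart U hU)
    (h : (⊤ : (Spec (CommRingCat.of (Away ℬ (ψ f)))).Opens) ≤ n ⁻¹ᵁ dd p chart U hU f)
    (a : 𝒮.presheaf.obj (op U)) :
    n.appLE (dd p chart U hU f) ⊤ h (rat p chart U hU hf a) =
      (Scheme.ΓSpecIso _).inv (Away.map ψ f (dh (𝒮.deg U hU) hf a)) := by
  subst hn
  have hA : (⊤ : (Spec (CommRingCat.of (Away (𝒮.deg U hU) f))).Opens) ≤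
      (Proj.awayι (𝒮.deg U hU) f hf one_pos ≫ RelProj.emb p chart U hU) ⁻¹ᵁ dd p chart U hU f := by
    rw [Scheme.Hom.comp_preimage]
    refine le_trans ?_ (Scheme.Hom.preimage_mono _ (preimage_dd (p := p) (chart := chart) U hU f).ge)
    rw [← Proj.opensRange_awayι (𝒮.deg U hU) f hf one_pos, Scheme.Hom.preimage_opensRange]
  rw [← Scheme.Hom.appLE_comp_appLE (Spec.map (CommRingCat.ofHom (Away.map ψ f))) _ (dd p chart U hU f) ⊤ ⊤ hA
    le_top, ConcreteCategory.comp_apply, appLE_dd U hU hf hA a]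
  refine Eq.trans ?_ (ConcreteCategory.congr_hom
    (Scheme.ΓSpecIso_inv_naturality (CommRingCat.ofHom (Away.map ψ f))) _).symm
  rw [ConcreteCategory.comp_apply]
  exact ConcreteCategory.congr_hom (Scheme.Hom.appLE_eq_app (Spec.map (CommRingCat.ofHom (Away.map ψ f)))) _

variable {Y X P PL : Scheme.{u}} {f : X ⟶ Y} {L : X.Modules} {𝒜 : RelProj.QCGrAlg Y}
  {𝒮L : RelProj.QCGrAlg X} {jL : L ⟶ 𝒮L.toModule}
  (hLq : Coh.IsQCoh L) (hjL : RelProj.IsGrSymAlg L 𝒮L jL) (hL : PicF.IsInvertible L)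
  (u : RelProj.QGrHom f 𝒜 𝒮L)
  {p : P ⟶ Y}
  {chart : ∀ (U : Y.Opens) (hU : IsAffineOpen U), (((p ⁻¹ᵁ U : P.Opens) : Scheme.{u}) ≅ Proj (𝒜.deg U hU))}
  (hP : RelProj.IsRelProj 𝒜 p chart)
  {pL : PL ⟶ X}
  {chartL : ∀ (U : X.Opens) (hU : IsAffineOpen U), (((pL ⁻¹ᵁ U : PL.Opens) : Scheme.{u}) ≅ Proj (𝒮L.deg U hU))}
  (hPL : RelProj.IsRelProj 𝒮L pL chartL)
  {r : (RelProj.domQ u pL chartL).toScheme ⟶ P}
  (hr : RelProj.IsProjQMapOn u p chart pL chartL (RelProj.domQ u pL chartL) r)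

include hLq hjL hL hPL hP hr in
/-- Over every affine open the sections of degree one satisfy the criterion. -/
theorem va_of_genDegOne (hgen : 𝒜.IsGenDegOne) (g : X ⟶ P) [IsImmersion g] (hg : g ≫ p = f)
    [IsIso ((RelProj.domQ u pL chartL).ι ≫ pL)] (hm : ((RelProj.domQ u pL chartL).ι ≫ pL) ≫ g = r)
    (π : 𝒮L.toModule ⟶ L)
    (hπ : ∀ (W : X.Opens) (c : 𝒮L.presheaf.obj (op W)), SymAlg11.IsHom 𝒮L W 1 c → jL.app W (π.app W c) = c)
    (U : Y.Opens) (hU : IsAffineOpen U) :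
    VA (f.app U).hom (secs (𝟙 ((Scheme.Modules.pushforward f).obj L)) U) := by
  classical
  subst hg
  let m := (RelProj.domQ u pL chartL).ι ≫ pL
  let σ : 𝒜.deg U hU 1 → Γ(L, g ⁻¹ᵁ (p ⁻¹ᵁ U)) := fun a => π.app ((g ≫ p) ⁻¹ᵁ U) ((u.app U).hom a.1)
  have hσ : ∀ a : 𝒜.deg U hU 1,
      jL.app ((g ≫ p) ⁻¹ᵁ U) (σ a) = (u.app U).hom a.1 := fun a =>
    hπ _ _ (SymAlg11.isHom_app u hU a.2)
  have hloc : ∀ a : 𝒜.deg U hU 1, gl (σ a) = SymAlg11.locU u 1 a.1 := fun a =>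
    (gl_eq_nv hLq hjL hL (W := (g ≫ p) ⁻¹ᵁ U) (σ a)).trans (congrArg (SymAlg11.nv 𝒮L _ 1) (hσ a))
  have hgl : ∀ e : 𝒜.deg U hU 1, gl (σ e) = g ⁻¹ᵁ dd p chart U hU e.1 := fun e => by
    refine (hloc e).trans (SetLike.ext fun x => ?_)
    obtain ⟨z, rfl⟩ := m.surjective x
    have h1 : g (m z) = r z := by
      rw [← Scheme.Hom.comp_apply, hm]
    show pL z.1 ∈ _ ↔ g (m z) ∈ dd p chart U hU e.1
    rw [h1]
    exact (SymAlg11.mem_preimage_iff' hLq hjL hL u hP hPL hr hU one_pos e.2 z).symm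
  refine va_congr (f := g ≫ p) σ (fun a => rfl) (va_of_immersion' (chart := chart) g hgen U hU σ hgl fun e a => ?_)
  let D := dd p chart U hU e.1
  refine TopCat.Presheaf.section_ext X.sheaf _ _ _ fun x hx => ?_
  obtain ⟨V, hV, hxV, hVD⟩ := exists_isAffineOpen_mem_and_subset hx
  have hVgl : V ≤ gl (σ e) := le_of_le_of_eq hVD (hgl e).symm
  show X.presheaf.germ (g ⁻¹ᵁ D) x hx _ = X.presheaf.germ (g ⁻¹ᵁ D) x hx _
  rw [← X.presheaf.germ_res_apply (homOfLE hVD) x hxV, ← X.presheaf.germ_res_apply (homOfLE hVD) x hxV]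
  refine congrArg _ ?_
  show ores hVD (g.app D (rat p chart U hU e.2 a.1)) = ores hVD (ores _ (cf (σ e) (σ a)))
  rw [ores_ores]
  have hVW : V ≤ (g ≫ p) ⁻¹ᵁ U := hVgl.trans (gl_le _)
  let e' := mres L hVW (σ e)
  have he' : M2.IsGenerator e' := isGenerator_of_le_gl _ hVgl
  let ψ := u.gradedAt U hU V hV hVW
  have hψ : ∀ b : 𝒜.deg U hU 1, ψ b.1 = SymAlg11.tgen jL V (mres L hVW (σ b)) := fun b =>
    (congrArg (SymAlg11.gres 𝒮L hVW) (hσ b).symm).trans (SymAlg11.gres_tgen hVW (σ b))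
  let i : RelProj11.QIdx (g := g ≫ p) (𝒮 := 𝒜) := ⟨U, hU, V, hV, hVW, 1, one_pos, e.1, e.2⟩
  let ς : CommRingCat.of Γ(X, V) ⟶ CommRingCat.of (Away (𝒮L.deg V hV) (ψ e.1)) :=
    𝒮L.strZero V hV ≫ CommRingCat.ofHom (fromZeroRingHom (𝒮L.deg V hV) (Submonoid.powers (ψ e.1)))
  have hςinj : Function.Injective ς := by
    have key : ∀ c, c = SymAlg11.tgen jL V e' → Function.Bijective
        ((fromZeroRingHom (𝒮L.deg V hV) (Submonoid.powers c)).comp (𝒮L.strZero V hV).hom) := by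
      rintro _ rfl
      exact SymAlg11.bijective_away_tgen hLq hjL hV he'
    exact (key _ (hψ e)).1
  let qm := RelProj11.qC u pL chartL i ≫ pL
  have hqm : qm = Spec.map ς ≫ hV.fromSpec := by
    change (RelProj.awayEmb _ _ _ _ _ _ _ _ _ _ _) ≫ pL = _
    rw [RelProj.awayEmb, Category.assoc, SymAlg11.emb_comp hPL, SymAlg11.toBaseAff, Category.assoc,
      Proj.awayι_toSpecZero_assoc, ← Spec.map_comp_assoc]
  have hqg : qm ≫ g = Spec.map (CommRingCat.ofHom (Away.map ψ e.1)) ≫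
      Proj.awayι (𝒜.deg U hU) e.1 e.2 one_pos ≫ RelProj.emb p chart U hU := by
    refine Eq.trans ?_ (RelProj11.lift_qC_comp hr i)
    show (RelProj11.qC u pL chartL i ≫ pL) ≫ g = _
    rw [← hm, Category.assoc, Category.assoc, IsOpenImmersion.lift_fac_assoc]
  have h1 : (⊤ : (Spec _).Opens) ≤ qm ⁻¹ᵁ V := fun w _ => by
    rw [hqm]
    exact hV.opensRange_fromSpec.le ⟨_, rfl⟩
  have h2 := appLE_specMap_fromSpec hV ς qm h1 hqm (ores hVD (g.app D (rat p chart U hU e.2 a.1)))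
  have h3 : (qm ≫ g).appLE D ⊤ (fun w hw => hVD (h1 hw)) (rat p chart U hU e.2 a.1) =
      qm.appLE V ⊤ h1 (ores hVD (g.app D (rat p chart U hU e.2 a.1))) := by
    rw [← Scheme.Hom.appLE_comp_appLE qm g D V ⊤ hVD h1, ConcreteCategory.comp_apply]
    congr 1
  have h4 := appLE_chart U hU ψ e.2 (qm ≫ g) hqg (fun w hw => hVD (h1 hw)) a.1
  have h5 : ς (ores hVD (g.app D (rat p chart U hU e.2 a.1))) = Away.map ψ e.1 (dh (𝒜.deg U hU) e.2 a.1) :=
    (ConcreteCategory.bijective_of_isIso (Scheme.ΓSpecIso _).inv).1 (h2.symm.trans (h3.symm.trans h4))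
  refine hςinj (h5.trans ?_)
  rw [dh_of_mem _ e.2 a.2, Away.map_mk]
  apply HomogeneousLocalization.val_injective
  rw [Away.val_mk]
  change _ = Localization.mk ((𝒮L.str.app (op V)).hom _) 1
  rw [Localization.mk_eq_mk_iff, Localization.r_iff_exists]
  refine ⟨1, ?_⟩
  simp only [OneMemClass.coe_one, one_mul, pow_one]
  refine (hψ a).trans (Eq.trans ?_ (congrArg (fun t => t * _) (hψ e)).symm)
  rw [mul_comm]
  refine Eq.trans ?_ (jL.app_smul (U := V) _ _)
  exact congrArg (jL.app V) (cf_smul_res (σ e) (σ a) hVgl).symm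


include hLq hjL hL hPL hP hr in
/-- An everywhere defined immersion from an algebra generated in degree one makes the module very ample. -/
theorem isRelVeryAmple_of_genDegOne [QuasiCompact f] (hgen : 𝒜.IsGenDegOne)
    (htop : RelProj.domQ u pL chartL = ⊤) [IsImmersion r] : RelProj.IsRelVeryAmple f L := by
  haveI := SymAlg11.isIso_pL hLq hjL hL hPL
  haveI : IsIso (RelProj.domQ u pL chartL).ι := by
    have : ∀ W : PL.Opens, W = ⊤ → IsIso W.ι := by
      rintro _ rfl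
      rw [← Scheme.topIso_hom]
      infer_instance
    exact this _ htop
  let m := (RelProj.domQ u pL chartL).ι ≫ pL
  let g : X ⟶ P := inv m ≫ r
  have hg : g ≫ p = f := by
    rw [Category.assoc, RelProj11.qMapOn_comp hP hPL hr, IsIso.inv_comp_eq, Category.assoc]
  haveI : IsSeparated p := RelProj11.isSeparated hP
  haveI : IsSeparated f := by rw [← hg]; infer_instance
  have hE : Coh.IsQCoh ((Scheme.Modules.pushforward f).obj L) := M1.isQCoh_push f hLq
  obtain ⟨π, hπ⟩ := exists_proj_one hLq hjL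
  exact isRelVeryAmple_of_vamp hE (𝟙 _) (vamp_of_forall fun U hU =>
    va_of_genDegOne hLq hjL hL u hP hPL hr hgen g hg (IsIso.hom_inv_id_assoc m r) π hπ U hU)

end Groth.Agent.VA11
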