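import Groth.Agent.Lib.RelProj11.Map

/-!
Dehomogenisation at an element of degree one and ring maps out of homogeneous localizations.
-/

set_option autoImplicit false

universe u v

open DirectSum HomogeneousLocalization

noncomputable section

namespace Groth.Agent.VA11

variable {A : Type u} {σ : Type v} [CommRing A] [SetLike σ A] [AddSubgroupClass σ A] (𝒜 : ℕ → σ) [GradedRing 𝒜]

section dh

variable {f : A} (hf : f ∈ 𝒜 1)

/-- `a ↦ a / f ^ n` on the part of degree `n`. -/
def dhPiece (n : ℕ) : 𝒜 n →+ Away 𝒜 f :=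
  AddMonoidHom.mk' (fun x => Away.mk 𝒜 hf n x.1 (by simp)) fun x y => by
    apply val_injective
    rw [val_add, Away.val_mk, Away.val_mk, Away.val_mk]
    simp only [AddMemClass.coe_add]
    rw [Localization.add_mk_self]

theorem val_dhPiece (n : ℕ) (x : 𝒜 n) :
    (dhPiece 𝒜 hf n x).val = Localization.mk x.1 ⟨f ^ n, pow_mem (Submonoid.mem_powers f) n⟩ :=
  Away.val_mk _ _ hf _ _

/-- Dehomogenisation. -/
def dh : A →+* Away 𝒜 f :=
  (DirectSum.toSemiring (dhPiece 𝒜 hf)
    (by
      apply val_injective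
      rw [val_dhPiece, val_one, ← Localization.mk_one]
      congr 1
      exact Subtype.ext (pow_zero f))
    (fun {i j} x y => by
      apply val_injective
      rw [val_mul, val_dhPiece, val_dhPiece, val_dhPiece, Localization.mk_mul]
      congr 1
      exact Subtype.ext (pow_add f i j))).comp (DirectSum.decomposeRingEquiv 𝒜).toRingHom

theorem dh_of_mem {n : ℕ} {x : A} (hx : x ∈ 𝒜 n) :
    dh 𝒜 hf x = Away.mk 𝒜 hf n x (by simpa using hx) := by
  simp only [dh, RingHom.comp_apply, RingEquiv.toRingHom_eq_coe, RingHom.coe_coe]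
  erw [DirectSum.decompose_of_mem 𝒜 hx, DirectSum.toSemiring_of]
  rfl

theorem dh_self : dh 𝒜 hf f = 1 := by
  rw [dh_of_mem 𝒜 hf hf]
  apply val_injective
  rw [Away.val_mk, val_one, Localization.mk_eq_mk']
  simp only [pow_one]
  exact IsLocalization.mk'_self _ _

theorem dh_surjective : Function.Surjective (dh 𝒜 hf) := by
  intro x
  obtain ⟨n, b, hb, rfl⟩ := Away.mk_surjective 𝒜 hf x
  exact ⟨b, dh_of_mem 𝒜 hf (by simpa using hb)⟩

end dh

section unit

variable {T : Type*} [CommRing T] (ψ : A →+* T) {x : A} (hu : IsUnit (ψ x))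

/-- The map out of a homogeneous localization given by a ring map inverting the denominator. -/
def chartUnit : Away 𝒜 x →+* T :=
  (Localization.awayLift ψ x hu).comp (algebraMap (Away 𝒜 x) (Localization.Away x))

theorem chartUnit_mk {d : ℕ} (hx : x ∈ 𝒜 d) (n : ℕ) (a : A) (ha : a ∈ 𝒜 (n • d)) :
    chartUnit 𝒜 ψ hu (Away.mk 𝒜 hx n a ha) * ψ x ^ n = ψ a := by
  show Localization.awayLift ψ x hu (Away.mk 𝒜 hx n a ha).val * ψ x ^ n = ψ a
  rw [Away.val_mk]
  have key : Localization.mk a (⟨x ^ n, pow_mem (Submonoid.mem_powers x) n⟩ : Submonoid.powers x) *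
      algebraMap A (Localization.Away x) x ^ n = algebraMap A (Localization.Away x) a := by
    rw [← map_pow, Localization.mk_eq_mk']
    exact IsLocalization.mk'_spec' _ _ _ |>.symm.trans (by rw [mul_comm]) |>.symm
  have h := congrArg (Localization.awayLift ψ x hu) key
  rwa [map_mul, map_pow, Localization.awayLift, IsLocalization.Away.lift_eq, IsLocalization.Away.lift_eq] at h

theorem chartUnit_dh {f : A} (hf : f ∈ 𝒜 1) (hψ : ψ f = 1) (a : A) :
    chartUnit 𝒜 ψ (x := f) (hψ ▸ isUnit_one) (dh 𝒜 hf a) = ψ a := by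
  induction a using DirectSum.Decomposition.inductionOn 𝒜 with
  | zero => simp
  | add p q hp hq => rw [map_add, map_add, hp, hq, map_add]
  | @homogeneous n p =>
    have h := chartUnit_mk 𝒜 ψ (hψ ▸ isUnit_one : IsUnit (ψ f)) hf n p.1 (by simp)
    simp only [hψ, one_pow, mul_one] at h
    rwa [dh_of_mem 𝒜 hf p.2]

theorem chartUnit_awayMap {f g : A} {e : ℕ} (hg : g ∈ 𝒜 e) {y : A} (hy : y = f * g) (hyu : IsUnit (ψ y))
    (hfu : IsUnit (ψ f)) : (chartUnit 𝒜 ψ hyu).comp (awayMap 𝒜 hg hy) = chartUnit 𝒜 ψ hfu := by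
  refine RingHom.ext fun z => ?_
  show Localization.awayLift ψ y hyu (awayMap 𝒜 hg hy z).val = Localization.awayLift ψ f hfu z.val
  rw [val_awayMap, ← RingHom.comp_apply]
  refine RingHom.congr_fun (IsLocalization.ringHom_ext (Submonoid.powers f) ?_) z.val
  ext a
  simp [Localization.awayLift, IsLocalization.Away.lift_eq]

theorem chartUnit_congr_scale {d : ℕ} (hx : x ∈ 𝒜 d) (ψ' : A →+* T) (hu' : IsUnit (ψ' x)) (c : T)
    (h : ∀ n, ∀ a ∈ 𝒜 n, ψ a = c ^ n * ψ' a) : chartUnit 𝒜 ψ hu = chartUnit 𝒜 ψ' hu' := by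
  refine RingHom.ext fun z => ?_
  obtain ⟨n, a, ha, rfl⟩ := Away.mk_surjective 𝒜 hx z
  refine (hu.pow n).mul_right_cancel ((chartUnit_mk 𝒜 ψ hu hx n a ha).trans ?_)
  rw [h _ a ha, h d x hx, mul_pow, ← pow_mul, smul_eq_mul, mul_comm d n, ← chartUnit_mk 𝒜 ψ' hu' hx n a ha]
  ring

/-- Two ring maps differing by a scaling on generators differ by the scaling in every degree. -/
theorem eq_pow_mul (ψ' : A →+* T) (c : T) (hgen : Subring.closure ((𝒜 0 : Set A) ∪ (𝒜 1 : Set A)) = ⊤)
    (h0 : ∀ a ∈ 𝒜 0, ψ a = ψ' a) (h1 : ∀ a ∈ 𝒜 1, ψ a = c * ψ' a) :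
    ∀ n, ∀ a ∈ 𝒜 n, ψ a = c ^ n * ψ' a := by
  classical
  let P : A → Prop := fun a => ∀ n, ψ (decompose 𝒜 a n) = c ^ n * ψ' (decompose 𝒜 a n)
  have hom : ∀ (m : ℕ) (a : A), a ∈ 𝒜 m → ψ a = c ^ m * ψ' a → P a := fun m a ha h n => by
    by_cases hn : m = n
    · subst hn; rwa [decompose_of_mem_same 𝒜 ha]
    · rw [decompose_of_mem_ne 𝒜 ha hn, map_zero, map_zero, mul_zero]
  have hadd : ∀ a b, P a → P b → P (a + b) := fun a b ha hb n => by
    rw [decompose_add, DirectSum.add_apply, AddMemClass.coe_add, map_add, map_add, ha, hb, mul_add]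
  intro n a ha
  have key : P a := by
    have hmem : a ∈ Subring.closure ((𝒜 0 : Set A) ∪ (𝒜 1 : Set A)) := hgen ▸ Subring.mem_top a
    clear ha
    induction hmem using Subring.closure_induction with
    | mem b hb =>
      rcases hb with hb | hb
      · exact hom 0 b hb (by rw [h0 b hb, pow_zero, one_mul])
      · exact hom 1 b hb (by rw [h1 b hb, pow_one])
    | zero => exact hom 0 0 (zero_mem _) (by simp)
    | one => exact hom 0 1 (SetLike.one_mem_graded 𝒜) (by simp)
    | add p q _ _ hp hq => exact hadd p q hp hq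
    | neg p _ hp =>
      intro m
      have e : (decompose 𝒜 (-p) m : A) = -(decompose 𝒜 p m : A) := by
        rw [decompose_neg]; rfl
      rw [e, map_neg, map_neg, hp m, mul_neg]
    | mul p q _ _ hp hq =>
      intro m
      rw [decompose_mul, DirectSum.coe_mul_apply, map_sum, map_sum, Finset.mul_sum]
      refine Finset.sum_congr rfl fun ij hij => ?_
      simp only [Finset.mem_filter] at hij
      rw [map_mul, map_mul, hp, hq, ← hij.2, pow_add]
      ring
  simpa [decompose_of_mem_same 𝒜 ha] using key n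

end unit

end Groth.Agent.VA11
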