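import Groth.Agent.Lib.VeryAmple11.Locality

/-!
Relative very ampleness on a disjoint union.
-/

set_option autoImplicit false

universe u v

open CategoryTheory Limits AlgebraicGeometry TopologicalSpace Opposite

set_option backward.isDefEq.respectTransparency false

noncomputable section

namespace Groth.Agent.VA11

open Groth.Agent.M1

variable {X S : Scheme.{u}}

theorem subsingleton_bot (M : X.Modules) {O : X.Opens} (h : O = ⊥) (a b : Γ(M, O)) : a = b :=
  modules_eq_of_locally_eq M O (fun i : Empty => i.elim) (fun i => i.elim) (h.le.trans bot_le) a b fun i => i.elim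

/-- Sections on two disjoint opens glue. -/
theorem exists_glue_two (M : X.Modules) {V V₁ V₂ : X.Opens} (h₁ : V₁ ≤ V) (h₂ : V₂ ≤ V) (hc : V ≤ V₁ ⊔ V₂)
    (hd : V₁ ⊓ V₂ = ⊥) (a : Γ(M, V₁)) (b : Γ(M, V₂)) : ∃ t : Γ(M, V), mres M h₁ t = a ∧ mres M h₂ t = b := by
  let O : ULift.{u} Bool → X.Opens := fun i => cond i.down V₁ V₂
  have hO : ∀ i, O i ≤ V := fun ⟨i⟩ => by cases i <;> assumption
  let s : ∀ i, Γ(M, O i) := fun i => match i with
    | ⟨true⟩ => a
    | ⟨false⟩ => b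
  obtain ⟨t, ht, -⟩ := TopCat.Sheaf.existsUnique_gluing' ⟨_, M.isSheaf⟩ O V (fun i => homOfLE (hO i))
    (fun x hx => by
      rcases hc hx with h | h
      · exact Opens.mem_iSup.2 ⟨⟨true⟩, h⟩
      · exact Opens.mem_iSup.2 ⟨⟨false⟩, h⟩) s (fun i j => by
      rcases i with ⟨_ | _⟩ <;> rcases j with ⟨_ | _⟩
      · rfl
      · exact subsingleton_bot M ((inf_comm _ _).trans hd) _ _
      · exact subsingleton_bot M hd _ _
      · rfl)
  exact ⟨t, ht ⟨true⟩, ht ⟨false⟩⟩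

variable {f : X ⟶ S} {L : X.Modules}

theorem eq_of_parts {W W' : X.Opens} (hc : W ⊔ W' = ⊤) {O : X.Opens} {a b : Γ(L, O)}
    (h : mres L (inf_le_left : O ⊓ W ≤ O) a = mres L inf_le_left b)
    (h' : mres L (inf_le_left : O ⊓ W' ≤ O) a = mres L inf_le_left b) : a = b :=
  modules_eq_of_locally_eq L O (fun i : Bool => O ⊓ cond i W W') (fun _ => inf_le_left)
    (fun x hx => by
      rcases hc.ge (show x ∈ (⊤ : X.Opens) from trivial) with h | h
      · exact Opens.mem_iSup.2 ⟨true, hx, h⟩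
      · exact Opens.mem_iSup.2 ⟨false, hx, h⟩) a b fun i => by cases i <;> assumption

/-- The image in `X` of the preimage of an open of the base. -/
theorem image_preimage_comp (W : X.Opens) (f : X ⟶ S) (U : S.Opens) :
    W.ι ''ᵁ ((W.ι ≫ f) ⁻¹ᵁ U) = f ⁻¹ᵁ U ⊓ W := by
  rw [Scheme.Hom.comp_preimage, Scheme.Hom.image_preimage_eq_opensRange_inf, Scheme.Opens.opensRange_ι, inf_comm]

/-- Sections on one piece, extended by zero. -/
theorem exists_ext_zero {W W' : X.Opens} (hd : W ⊓ W' = ⊥) (hc : W ⊔ W' = ⊤) (L : X.Modules) (f : X ⟶ S)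
    {E : S.Modules} (φ : E ⟶ (Scheme.Modules.pushforward (W.ι ≫ f)).obj (L.restrict W.ι)) :
    ∃ ψ : E ⟶ (Scheme.Modules.pushforward f).obj L, ∀ (U : S.Opens), IsAffineOpen U → ∀ m : Γ(E, U),
      mres L (inf_le_left : f ⁻¹ᵁ U ⊓ W ≤ f ⁻¹ᵁ U) (ψ.app U m) =
          mres L (image_preimage_comp W f U).ge ((L.restrictAppIso W.ι _).hom (secs φ U m)) ∧
        mres L (inf_le_left : f ⁻¹ᵁ U ⊓ W' ≤ f ⁻¹ᵁ U) (ψ.app U m) = 0 := by
  choose g hg hg' using fun (U : S.Opens) (m : Γ(E, U)) => exists_glue_two L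
    (inf_le_left : f ⁻¹ᵁ U ⊓ W ≤ f ⁻¹ᵁ U) (inf_le_left : f ⁻¹ᵁ U ⊓ W' ≤ f ⁻¹ᵁ U)
    (by rw [← inf_sup_left, hc, inf_top_eq]) (by rw [inf_inf_inf_comm, hd, inf_bot_eq])
    (mres L (image_preimage_comp W f U).ge ((L.restrictAppIso W.ι _).hom (secs φ U m))) 0
  obtain ⟨ψ, hψ⟩ := exists_hom_of_affine E ((Scheme.Modules.pushforward f).obj L)
    (fun U _ => AddMonoidHom.mk' (fun m => g U m) fun m m' => by
      refine eq_of_parts (O := f ⁻¹ᵁ U) hc ?_ ?_
      · show _ = mres L _ ((g U m : Γ(L, f ⁻¹ᵁ U)) + g U m')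
        rw [map_add, hg, hg, hg, secs, map_add]
        exact (congrArg _ (map_add _ (secs φ U m) (secs φ U m'))).trans (map_add _ _ _)
      · show _ = mres L _ ((g U m : Γ(L, f ⁻¹ᵁ U)) + g U m')
        rw [map_add, hg', hg', hg', add_zero])
    (fun U hU r m => by
      refine eq_of_parts (O := f ⁻¹ᵁ U) hc ?_ ?_
      · show mres L _ (g U (r • m)) = mres L _ (f.app U r • (g U m : Γ(L, f ⁻¹ᵁ U)))
        rw [mres_smul, hg, hg, secs_smul]
        let a : Γ(X, W.ι ''ᵁ ((W.ι ≫ f) ⁻¹ᵁ U)) := ores ((image_preimage_comp W f U).le.trans inf_le_left) (f.app U r)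
        have h1 : (L.restrictAppIso W.ι _).hom ((W.ι ≫ f).app U r • secs φ U m) =
            a • (L.restrictAppIso W.ι _).hom (secs φ U m) := by
          refine (M1.restrict_ι_smul L (show Γ(X, W.ι ''ᵁ ((W.ι ≫ f) ⁻¹ᵁ U)) from (W.ι ≫ f).app U r) _).trans ?_
          congr 1
        rw [h1, mres_smul, ores_ores]
      · show mres L _ (g U (r • m)) = mres L _ (f.app U r • (g U m : Γ(L, f ⁻¹ᵁ U)))
        rw [mres_smul, hg', hg', smul_zero])
    (fun {U V} hU hV hle m => by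
      refine eq_of_parts (O := f ⁻¹ᵁ V) hc ?_ ?_
      · show mres L _ (mres L (f.preimage_mono hle) (g U m)) = mres L _ (g V (mres E hle m))
        rw [mres_mres, hg, ← mres_mres L (inf_le_left : f ⁻¹ᵁ U ⊓ W ≤ _)
          (inf_le_inf_right W (f.preimage_mono hle) : f ⁻¹ᵁ V ⊓ W ≤ f ⁻¹ᵁ U ⊓ W), hg, mres_mres,
          ← secs_res φ hle]
        have h1 : (L.restrictAppIso W.ι _).hom (mres (L.restrict W.ι) ((W.ι ≫ f).preimage_mono hle) (secs φ U m)) =
            mres L (W.ι.image_mono ((W.ι ≫ f).preimage_mono hle)) ((L.restrictAppIso W.ι _).hom (secs φ U m)) := rfl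
        rw [h1, mres_mres]
      · show mres L _ (mres L (f.preimage_mono hle) (g U m)) = mres L _ (g V (mres E hle m))
        rw [mres_mres, hg', ← mres_mres L (inf_le_left : f ⁻¹ᵁ U ⊓ W' ≤ _)
          (inf_le_inf_right W' (f.preimage_mono hle) : f ⁻¹ᵁ V ⊓ W' ≤ f ⁻¹ᵁ U ⊓ W'), hg', map_zero])
  exact ⟨ψ, fun U hU m => ⟨by rw [hψ U hU m]; exact hg U m, by rw [hψ U hU m]; exact hg' U m⟩⟩

theorem eq_bot_of_isGen_zero {O : X.Opens} (h : Twist.IsGen L O 0) : O = ⊥ := by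
  have h1 := (h O le_rfl).1 (a₁ := (1 : Γ(X, O))) (a₂ := 0) (by simp)
  rw [← X.basicOpen_of_isUnit (isUnit_one (M := Γ(X, O))), h1, Scheme.basicOpen_zero]

theorem VAmp.at_point {E : S.Modules} {φ : E ⟶ (Scheme.Modules.pushforward f).obj L} (h : VAmp φ) (x : X) :
    ∃ U : S.Opens, IsAffineOpen U ∧ VAat (f.app U).hom (secs φ U) x := h x

/-- The criterion on one of two disjoint pieces, for a map extending its sections by zero. -/
theorem exists_vaat_of_piece {W W' : X.Opens} (hd : W ⊓ W' = ⊥) (hc : W ⊔ W' = ⊤) {E E' : S.Modules}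
    {φ : E ⟶ (Scheme.Modules.pushforward (W.ι ≫ f)).obj (L.restrict W.ι)} (h : VAmp φ)
    {ψ : E ⟶ (Scheme.Modules.pushforward f).obj L} (hψ : ∀ (U : S.Opens), IsAffineOpen U → ∀ m : Γ(E, U),
      mres L (inf_le_left : f ⁻¹ᵁ U ⊓ W ≤ f ⁻¹ᵁ U) (ψ.app U m) =
          mres L (image_preimage_comp W f U).ge ((L.restrictAppIso W.ι _).hom (secs φ U m)) ∧
        mres L (inf_le_left : f ⁻¹ᵁ U ⊓ W' ≤ f ⁻¹ᵁ U) (ψ.app U m) = 0)
    (χ : E' ⟶ (Scheme.Modules.pushforward f).obj L) (k : E ⟶ E') (hk : k ≫ χ = ψ) {x : X} (hx : x ∈ W) :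
    ∃ U : S.Opens, IsAffineOpen U ∧ VAat (f.app U).hom (secs χ U) x := by
  obtain ⟨U, hU, hva⟩ := h ⟨x, hx⟩
  let σ : Γ(E, U) → Γ(L, f ⁻¹ᵁ U ⊓ W) := fun m => mres L inf_le_left (secs χ U (k.app U m))
  have hsec : ∀ m, secs χ U (k.app U m) = ψ.app U m := fun m =>
    congrArg (fun q : E ⟶ (Scheme.Modules.pushforward f).obj L => q.app U m) hk
  have h1 : VAat ((ores (inf_le_left : f ⁻¹ᵁ U ⊓ W ≤ f ⁻¹ᵁ U)).hom.comp (f.app U).hom) σ x :=
    vaat_of_restrict (W := W) (image_preimage_comp W f U) (σ₀ := secs φ U) (fun m => m)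
      (fun m => by
        show _ = mres L _ (mres L _ (secs χ U (k.app U m)))
        rw [hsec, (hψ U hU m).1, mres_mres, mres_id])
      (fun r => ⟨r, by
        show (W.ι ≫ f).app U r = ores _ (ores _ (f.app U r))
        simp
        exact (ores_ores _ _ _).symm⟩) hva
  refine ⟨U, hU, h1.mono fun m hm => ?_⟩
  have hgW : gl (secs χ U (k.app U m)) ≤ W := by
    intro y hy
    rcases hc.ge (show y ∈ (⊤ : X.Opens) from trivial) with h' | h'
    · exact h'
    let O := gl (secs χ U (k.app U m)) ⊓ W'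
    have hO := isGen_of_le_gl (inf_le_left : O ≤ gl (secs χ U (k.app U m)))
    have h0 : mres L (inf_le_left.trans (gl_le _) : O ≤ f ⁻¹ᵁ U) (secs χ U (k.app U m)) = 0 := by
      refine (congrArg (mres L _) (hsec m)).trans ?_
      refine ((mres_mres L (inf_le_left : f ⁻¹ᵁ U ⊓ W' ≤ f ⁻¹ᵁ U)
        (inf_le_inf_right W' (gl_le _) : O ≤ f ⁻¹ᵁ U ⊓ W') (ψ.app U m : Γ(L, f ⁻¹ᵁ U))).symm).trans ?_
      exact (congrArg (mres L _) (hψ U hU m).2).trans (map_zero _)
    rw [h0] at hO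
    exact ((eq_bot_of_isGen_zero hO).le (show y ∈ O from ⟨hy, h'⟩)).elim
  have heq : gl (σ m) = gl (secs χ U (k.app U m)) := by
    rw [gl_mres]
    exact inf_eq_left.2 (le_inf (gl_le _) hgW)
  refine ⟨k.app U m, heq.ge, heq.le hm, fun r => ?_, fun j => ?_⟩
  · rw [RingHom.comp_apply, ores_ores, ores_ores]
    exact base_mem_ratSub r
  · have h2 : ores heq.ge (cf (σ m) (σ j)) = cf (secs χ U (k.app U m)) (secs χ U (k.app U j)) := by
      refine ores_eq_cf ?_
      have h3 := congrArg (mres L heq.ge) (cf_smul (σ m) (σ j))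
      simp only [mres_smul, mres_mres, σ] at h3
      exact h3
    rw [h2]
    exact cf_mem_ratSub _

/-- Very ampleness on two disjoint open pieces gives it on the whole. -/
theorem isRelVeryAmple_of_disjoint {W W' : X.Opens} (hd : W ⊓ W' = ⊥) (hc : W ⊔ W' = ⊤)
    (h : RelProj.IsRelVeryAmple (W.ι ≫ f) (L.restrict W.ι))
    (h' : RelProj.IsRelVeryAmple (W'.ι ≫ f) (L.restrict W'.ι)) : RelProj.IsRelVeryAmple f L := by
  obtain ⟨E, φ, hE, hφ⟩ := exists_va_of_isRelVeryAmple h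
  obtain ⟨E', φ', hE', hφ'⟩ := exists_va_of_isRelVeryAmple h'
  obtain ⟨ψ, hψ⟩ := exists_ext_zero hd hc L f φ
  obtain ⟨ψ', hψ'⟩ := exists_ext_zero ((inf_comm _ _).trans hd) ((sup_comm _ _).trans hc) L f φ'
  refine isRelVeryAmple_of_vamp (M1.isQCoh_biprod hE hE') (biprod.desc ψ ψ') fun x => ?_
  rcases hc.ge (show x ∈ (⊤ : X.Opens) from trivial) with hx | hx
  · exact exists_vaat_of_piece hd hc (vamp_of_forall hφ) hψ _ biprod.inl (biprod.inl_desc _ _) hx
  · exact exists_vaat_of_piece ((inf_comm _ _).trans hd) ((sup_comm _ _).trans hc) (vamp_of_forall hφ') hψ' _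
      biprod.inr (biprod.inr_desc _ _) hx

end Groth.Agent.VA11
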