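import Groth.Agent.Lib.VeryAmple11.RelCrit
import Groth.Agent.Lib.GrMod11.TwistEpi

/-!
Large twists by a relatively ample module as quotients of inverse images of finite type.
-/

set_option autoImplicit false

universe u

open CategoryTheory Limits AlgebraicGeometry TopologicalSpace Opposite

set_option backward.isDefEq.respectTransparency false

noncomputable section

namespace Groth.Agent.VA11

open Groth.Agent.M1

theorem exists_ft_epi_of_isRelAmple {Y Z : Scheme.{u}} [CompactSpace Z] [QuasiSeparatedSpace Z] (g : Y ⟶ Z)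
    [QuasiCompact g] [IsSeparated g] (K : Y.Modules) (hK : PicF.IsInvertible K) (hamp : RelAmple.IsRelAmple g K)
    (E : Y.Modules) (hE : Coh.IsQCoh E) (hEft : CohB1.IsFT E) :
    ∃ m₀ : ℕ, ∀ m : ℕ, m₀ ≤ m →
      ∃ (F : Z.Modules) (φ : (Scheme.Modules.pullback g).obj F ⟶ CohB1.tensorMod E (CohB1.tensorPow K m)),
        Coh.IsQCoh F ∧ CohB1.IsFT F ∧ Epi φ := by
  obtain ⟨T, hT⟩ := isCompact_univ.elim_finite_subcover (fun U : Z.affineOpens => (U.1 : Set Z))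
    (fun U => U.1.isOpen) fun y _ => by
      obtain ⟨U, hU, hy, -⟩ := exists_isAffineOpen_mem_and_subset (show y ∈ (⊤ : Z.Opens) from trivial)
      exact Set.mem_iUnion.2 ⟨⟨U, hU⟩, hy⟩
  have key : ∀ U : T, ∃ n₀ : ℕ, ∀ n, n₀ ≤ n → Curv2.IsGloballyGenerated
      (CohB1.tensorMod (E.restrict (g ⁻¹ᵁ U.1.1).ι)
        (CohB1.tensorPow (K.restrict (g ⁻¹ᵁ U.1.1).ι) n)) := fun U =>
    RA.exists_globallyGenerated ((RA.isRelAmple_def g).1 hamp U.1.1 U.1.2) _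
      (M1.isQCoh_restrict hE _) (M1.isFT_restrict hEft _)
  choose n₀ hn₀ using key
  refine ⟨Finset.univ.sup n₀, fun m hm => ?_⟩
  let G := CohB1.tensorMod E (CohB1.tensorPow K m)
  have hKm := Amp.isInvertible_tensorPow hK m
  have hGq : Coh.IsQCoh G := M2.isQCoh_tensor hE (Twist.isQCoh_of_isInvertible hKm)
  have hGf : CohB1.IsFT G := M2.isFT_tensor hE (Twist.isQCoh_of_isInvertible hKm) hEft
    (M1.isFP_isFT (M1.isFP_of_isFinLocFree (M2.isFinLocFree_of_isInvertible hKm)))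
  have hgen : ∀ U : T, ∃ (k : ℕ) (p : FlatMod.freeMod _ k ⟶ G.restrict (g ⁻¹ᵁ U.1.1).ι), Epi p := by
    intro U
    haveI : CompactSpace ((g ⁻¹ᵁ U.1.1 : Y.Opens) : Scheme.{u}) :=
      isCompact_iff_compactSpace.1 (g.isCompact_preimage U.1.2.isCompact)
    obtain ⟨k, p, hp⟩ := GrMod11.exists_epi_freeMod
      (M2.isQCoh_tensor (M1.isQCoh_restrict hE _) (Twist.isQCoh_of_isInvertible
        (Amp.isInvertible_tensorPow (M2.isInvertible_restrict hK _) m)))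
      (M1.isFT_of_isIso (M2.restrictTensorIso _ _ _ ≪≫ M2.tensorIso (Iso.refl _) (M2.restrictTensorPowIso _ K m))
        (M1.isFT_restrict hGf _))
      (hn₀ U m ((Finset.le_sup (Finset.mem_univ U)).trans hm))
    exact ⟨k, p ≫ (M2.restrictTensorIso (g ⁻¹ᵁ U.1.1).ι _ _ ≪≫
      M2.tensorIso (Iso.refl _) (M2.restrictTensorPowIso _ K m)).inv, @epi_comp _ _ _ _ _ p hp _ inferInstance⟩
  choose k p hp using hgen
  let N := (Scheme.Modules.pushforward g).obj G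
  let sec : ∀ a : (Σ U : T, Fin (k U)), Γ(G.restrict (g ⁻¹ᵁ a.1.1.1).ι, ⊤) := fun a =>
    (Sigma.ι (fun _ : Fin (k a.1) => Coh.structureModule _) a.2 ≫ p a.1).app ⊤ (M1.one ⊤)
  let a : ∀ c : ULift.{u} (Σ U : T, Fin (k U)), Γ(G, g ⁻¹ᵁ c.down.1.1.1) := fun c =>
    M1.mres G (M1.image_ι_top (g ⁻¹ᵁ c.down.1.1.1)).ge (sec c.down)
  obtain ⟨q, hq1, hq2, hq3⟩ := exists_ft_sub_mem (M1.isQCoh_push g hGq)
    (fun c : ULift.{u} (Σ U : T, Fin (k U)) => c.down.1.1.1)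
    (fun c => c.down.1.1.2.isCompact) (fun c => (a c : Γ(N, c.down.1.1.1)))
  let adj := Scheme.Modules.pullbackPushforwardAdjunction g
  refine ⟨q.P, (adj.homEquiv q.P G).symm q.i, hq1, hq2, ⟨fun {C} u v huv => ?_⟩⟩
  have h0 : ∀ c, (u.app (g ⁻¹ᵁ c.down.1.1.1)) (a c) = v.app (g ⁻¹ᵁ c.down.1.1.1) (a c) := by
    intro c
    obtain ⟨b, hb⟩ := hq3 c
    have e : q.i ≫ (Scheme.Modules.pushforward g).map u = q.i ≫ (Scheme.Modules.pushforward g).map v := by
      have := congrArg (adj.homEquiv q.P C) huv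
      rw [adj.homEquiv_naturality_right, adj.homEquiv_naturality_right, Equiv.apply_symm_apply] at this
      exact this
    have := congrArg (fun ψ : q.P ⟶ (Scheme.Modules.pushforward g).obj C => ψ.app c.down.1.1.1 b) e
    simp only [M1.comp_app_apply, hb] at this
    exact this
  have h1 : ∀ U : T, (Scheme.Modules.restrictFunctor (g ⁻¹ᵁ U.1.1).ι).map u =
      (Scheme.Modules.restrictFunctor (g ⁻¹ᵁ U.1.1).ι).map v := fun U => by
    haveI := hp U
    refine (cancel_epi (p U)).1 (Sigma.hom_ext _ _ fun i => M1.unit_hom_ext ?_)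
    rw [← Category.assoc, ← Category.assoc, M1.comp_app_apply, M1.comp_app_apply]
    have e := h0 ⟨⟨U, i⟩⟩
    change u.app _ (sec ⟨U, i⟩) = v.app _ (sec ⟨U, i⟩)
    have e' := congrArg (fun z => M1.mres C (M1.image_ι_top (g ⁻¹ᵁ U.1.1)).le z) e
    rw [← M1.app_mres, ← M1.app_mres] at e'
    simp only [a] at e'
    erw [M1.mres_mres, M1.mres_id] at e'
    exact e'
  refine Scheme.Modules.hom_ext _ _ fun V => ?_
  ext t
  refine M1.section_ext _ _ fun x hx => ?_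
  obtain ⟨U, hU, hxU⟩ := Set.mem_iUnion₂.1 (hT (Set.mem_univ (g x)))
  let W : Y.Opens := (g ⁻¹ᵁ U.1).ι ''ᵁ ((g ⁻¹ᵁ U.1).ι ⁻¹ᵁ V)
  have hW : W ≤ V := (Scheme.Hom.image_preimage_eq_opensRange_inf (g ⁻¹ᵁ U.1).ι V).le.trans inf_le_right
  have hxW : x ∈ W := ⟨⟨x, hxU⟩, hx, rfl⟩
  have e : u.app W (M1.mres G hW t) = v.app W (M1.mres G hW t) :=
    congrArg (fun ψ : (Scheme.Modules.restrictFunctor (g ⁻¹ᵁ U.1).ι).obj G ⟶ (Scheme.Modules.restrictFunctor (g ⁻¹ᵁ U.1).ι).obj C =>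
      ψ.app ((g ⁻¹ᵁ U.1).ι ⁻¹ᵁ V) (M1.mres G hW t)) (h1 ⟨U, hU⟩)
  rw [M1.app_mres, M1.app_mres] at e
  rw [← TopCat.Presheaf.germ_res_apply C.presheaf (homOfLE hW) x hxW (u.app V t),
    ← TopCat.Presheaf.germ_res_apply C.presheaf (homOfLE hW) x hxW (v.app V t)]
  exact congrArg _ e

end Groth.Agent.VA11
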