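import Groth.Agent.Lib.VeryAmple11.FT
import Groth.Agent.Lib.VeryAmple11.AmplePow
import Groth.Agent.Lib.RelAmple18.Generated
import Groth.Agent.Lib.TensorMod.IdealMod
import Groth.Prelude.Def_BlowUp2

/-!
Ampleness from the generation of twisted ideals of finite type.
-/

set_option autoImplicit false

universe u

open CategoryTheory Limits AlgebraicGeometry TopologicalSpace Opposite

set_option backward.isDefEq.respectTransparency false

noncomputable section

namespace Groth.Agent.VA11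

open Groth.Agent.M1

variable {X : Scheme.{u}}

/-- A quasi-coherent submodule of an ideal module gives an ideal sheaf. -/
theorem exists_idealSheaf_of_sub (J : X.IdealSheafData) (q : M1.Sub (ClSub.idealMod J)) (hq : Coh.IsQCoh q.P) :
    ∃ I : X.IdealSheafData, I ≤ J ∧ ∀ U : X.affineOpens,
      (I.ideal U : Set Γ(X, U.1)) = Set.range fun a : Γ(q.P, U.1) => M2.idealIncl J (q.i.app U.1 a) := by
  haveI := hq
  let f : ∀ U : X.affineOpens, Γ(q.P, U.1) → Γ(X, U.1) := fun U a => M2.idealIncl J (q.i.app U.1 a)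
  have hsmul : ∀ (U : X.affineOpens) (r : Γ(X, U.1)) (a : Γ(q.P, U.1)), f U (r • a) = r * f U a := fun U r a => by
    simp only [f, Scheme.Modules.Hom.app_smul]
    exact M2.idealIncl_smul J r _
  let idl : ∀ U : X.affineOpens, Ideal Γ(X, U.1) := fun U =>
    { carrier := Set.range (f U)
      add_mem' := by
        rintro _ _ ⟨a, rfl⟩ ⟨b, rfl⟩
        exact ⟨a + b, by simp only [f, map_add]; exact M2.idealIncl_add J _ _⟩
      zero_mem' := ⟨(0 : Γ(X, U.1)) • 0, by rw [hsmul, zero_mul]⟩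
      smul_mem' := by
        rintro r _ ⟨a, rfl⟩
        exact ⟨r • a, hsmul U r a⟩ }
  refine ⟨{ ideal := idl, map_ideal_basicOpen := fun U g => ?_ }, fun U => ?_, fun U => rfl⟩
  · refine le_antisymm (Ideal.map_le_iff_le_comap.2 ?_) ?_
    · rintro _ ⟨a, rfl⟩
      refine ⟨mres q.P (X.basicOpen_le g) a, ?_⟩
      show M2.idealIncl J (q.i.app _ (mres q.P _ a)) = X.presheaf.map _ (M2.idealIncl J (q.i.app U.1 a))
      rw [app_mres]
      exact M2.idealIncl_res J (X.basicOpen_le g) _
    · rintro _ ⟨b, rfl⟩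
      obtain ⟨k, t₀, ht⟩ := exists_pow_smul_eq_res_affine q.P U.2 g b
      have hu : IsUnit (ores (X.basicOpen_le g) g ^ k) :=
        (RingedSpace.isUnit_res_basicOpen X.toRingedSpace g).pow k
      have h1 : ores (X.basicOpen_le g) g ^ k * (show Γ(X, X.basicOpen g) from f (X.affineBasicOpen g) b) =
          (X.presheaf.map (homOfLE (X.basicOpen_le g)).op).hom (f U t₀) := by
        refine (hsmul (X.affineBasicOpen g) _ b).symm.trans ?_
        refine (congrArg (f (X.affineBasicOpen g)) ht.symm).trans ?_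
        show M2.idealIncl J (q.i.app _ (mres q.P _ t₀)) = X.presheaf.map _ (M2.idealIncl J (q.i.app U.1 t₀))
        rw [app_mres]
        exact M2.idealIncl_res J (X.basicOpen_le g) _
      have h2 : (X.presheaf.map (homOfLE (X.basicOpen_le g)).op).hom (f U t₀) ∈
          (idl U).map (X.presheaf.map (homOfLE (X.basicOpen_le g)).op).hom :=
        Ideal.mem_map_of_mem _ ⟨t₀, rfl⟩
      rw [← h1] at h2
      exact (Ideal.unit_mul_mem_iff_mem _ hu).1 h2
  · rintro _ ⟨a, rfl⟩
    exact (M2.range_idealIncl J U).le ⟨q.i.app U.1 a, rfl⟩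

theorem isFiniteTypeIdeal_of_range (I J : X.IdealSheafData) (q : M1.Sub (ClSub.idealMod J)) (hq : Coh.IsQCoh q.P)
    (hft : CohB1.IsFT q.P) (h : ∀ U : X.affineOpens,
      (I.ideal U : Set Γ(X, U.1)) = Set.range fun a : Γ(q.P, U.1) => M2.idealIncl J (q.i.app U.1 a)) :
    BlowUp.IsFiniteTypeIdeal I := fun U => by
  classical
  haveI := M1.finite_sections hq hft U.2
  obtain ⟨s, hs⟩ := Module.Finite.fg_top (R := Γ(X, U.1)) (M := Γ(q.P, U.1))
  let g : Γ(q.P, U.1) →ₗ[Γ(X, U.1)] Γ(X, U.1) :=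
    { toFun := fun a => M2.idealIncl J (q.i.app U.1 a)
      map_add' := fun a b => by simp only [map_add]; exact M2.idealIncl_add J _ _
      map_smul' := fun r a => by
        simp only [Scheme.Modules.Hom.app_smul, RingHom.id_apply]
        exact M2.idealIncl_smul J r _ }
  have e : I.ideal U = LinearMap.range g := SetLike.coe_injective (h U)
  rw [e, ← Submodule.map_top]
  exact Submodule.FG.map _ ⟨s, hs⟩

/-- The map from a twisted ideal to the twist. -/
def twistIncl (I : X.IdealSheafData) (M : X.Modules) : CohB1.tensorMod (ClSub.idealMod I) M ⟶ M :=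
  M2.tensorMap (ClSub.idealModι I) (𝟙 M) ≫ actHom M

theorem twistIncl_tsec (I : X.IdealSheafData) (M : X.Modules) {U : X.Opens} (a : Γ(ClSub.idealMod I, U))
    (w : Γ(M, U)) : (twistIncl I M).app U (M2.tsec _ M a w) = M2.idealIncl I a • w := by
  rw [twistIncl, comp_app_apply, M2.tensorMap_tsec, actHom_tsec]
  rfl

/-- Ample, if each twisted ideal of finite type is eventually generated by finitely many sections. -/
theorem isAmple_of_ideals [CompactSpace X] [QuasiSeparatedSpace X] {L : X.Modules} (hL : PicF.IsInvertible L)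
    (h : ∀ I : X.IdealSheafData, BlowUp.IsFiniteTypeIdeal I →
      ∃ (n : ℕ) (ι : Type u) (p : M1.fr ι ⟶ CohB1.tensorMod (ClSub.idealMod I) (CohB1.tensorPow L (n + 1))), Epi p) :
    CohB1.IsAmple L := by
  classical
  refine Amp.isAmple_iff.2 ⟨hL, ‹_›, fun x => ?_⟩
  obtain ⟨U, hU, hxU, -⟩ := exists_isAffineOpen_mem_and_subset (show x ∈ (⊤ : X.Opens) from trivial)
  let Z : Closeds X := ⟨(U : Set X)ᶜ, U.isOpen.isClosed_compl⟩
  let J := Scheme.IdealSheafData.vanishingIdeal Z
  have h1 : (1 : Γ(X, U)) ∈ J.ideal ⟨U, hU⟩ := by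
    rw [show J.ideal ⟨U, hU⟩ = PrimeSpectrum.vanishingIdeal (hU.fromSpec ⁻¹' (Z : Set X)) from rfl,
      PrimeSpectrum.mem_vanishingIdeal]
    intro z hz
    exact (hz (hU.range_fromSpec.le ⟨z, rfl⟩)).elim
  obtain ⟨one', hone⟩ := (M2.range_idealIncl J ⟨U, hU⟩).ge h1
  obtain ⟨q, hq, hqf, hmem⟩ := exists_ft_sub_mem (M2.isQCoh_idealMod J) (κ := PUnit.{u + 1}) (fun _ => U)
    (fun _ => hU.isCompact) (fun _ => one')
  obtain ⟨I, hIJ, hI⟩ := exists_idealSheaf_of_sub J q hq
  obtain ⟨b, hb⟩ := hmem PUnit.unit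
  have hI1 : (1 : Γ(X, U)) ∈ I.ideal ⟨U, hU⟩ := (hI ⟨U, hU⟩).ge ⟨b, by
    show M2.idealIncl J (q.i.app U b) = 1
    rw [hb, hone]⟩
  obtain ⟨oneI, honeI⟩ := (M2.range_idealIncl I ⟨U, hU⟩).ge hI1
  have hsupp : ∀ y : X, y ∉ U → y ∈ I.support := fun y hy =>
    Scheme.IdealSheafData.le_support_iff_le_vanishingIdeal.2 hIJ (show y ∈ Z from hy)
  obtain ⟨n, ι, p, hp⟩ := h I (isFiniteTypeIdeal_of_range I J q hq hqf hI)
  haveI := hp
  let M := CohB1.tensorPow L (n + 1)
  have hM : PicF.IsInvertible M := Amp.isInvertible_tensorPow hL _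
  let c := twistIncl I M
  obtain ⟨t, ht⟩ : ∃ i : ι, x ∈ CohB1.genLocus M (M1.ιF i ≫ p ≫ c) := by
    by_contra hne
    push Not at hne
    let η := (Scheme.Modules.pullbackPushforwardAdjunction (X.fromSpecResidueField x)).unit.app M
    have h0 : c ≫ η = 0 := by
      refine (cancel_epi p).1 ?_
      rw [comp_zero]
      refine M1.free_hom_ext fun i => ?_
      rw [comp_zero]
      change η.app ⊤ ((M1.ιF i ≫ p ≫ c).app ⊤ (M1.one ⊤)) = 0
      exact RA.pullSec_residue_eq_zero hM x _ fun _ hg => hne i ((Amp.mem_genLocus_iff hM _).mpr hg)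
    obtain ⟨V, e, hxV, hVU, -, he⟩ := Amp.exists_isGenerator hM (V := U) hxU
    have h2 : M2.pullSec (X.fromSpecResidueField x) M e = 0 := by
      have h3 : c.app V (M2.tsec _ M (mres (ClSub.idealMod I) hVU oneI) e) = e := by
        rw [show c = twistIncl I M from rfl, twistIncl_tsec]
        erw [M2.idealIncl_res I hVU oneI, honeI, map_one, one_smul]
      have h4 := congrArg (fun χ => χ.app V (M2.tsec (ClSub.idealMod I) M (mres (ClSub.idealMod I) hVU oneI) e)) h0
      simp only [comp_app_apply, h3] at h4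
      exact h4
    let y : Spec (X.residueField x) := default
    have hy : X.fromSpecResidueField x y ∈ V := by rw [X.fromSpecResidueField_apply x y]; exact hxV
    have hg := Amp.gen_of_isGenerator he hy
    rw [← Amp.gen_pullSec_iff (X.fromSpecResidueField x) hM hy, h2] at hg
    exact Amp.not_gen_zero (PicLoc.isInvertible_pullback (X.fromSpecResidueField x) hM) y
      (by rwa [show Amp.gm _ y hy (0 : Γ((Scheme.Modules.pullback (X.fromSpecResidueField x)).obj M, _)) = 0 from
        map_zero _] at hg)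
  let s := M1.ιF t ≫ p ≫ c
  let G := CohB1.genLocus M s
  have hsec : Amp.HasSec L (n + 1) G := ⟨s, rfl⟩
  have hGU : G ≤ U := by
    intro y hy
    by_contra hyU
    have hsy := (Amp.mem_genLocus_iff hM _).1 hy
    have key : ∀ z : ((CohB1.tensorMod (ClSub.idealMod I) M).presheaf.stalk y : Type u),
        ∀ g : (M.presheaf.stalk y : Type u), Amp.Gen g → ∃ d : X.presheaf.stalk y,
          d ∈ IsLocalRing.maximalIdeal (X.presheaf.stalk y) ∧ M2.stMap ((M2.pmF X).map c) y z = d • g := by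
      intro z g hg
      obtain ⟨z, rfl⟩ := (M2.stalkEquiv (ClSub.idealMod I) M y).symm.surjective z
      induction z using TensorProduct.induction_on with
      | zero => exact ⟨0, Submodule.zero_mem _, by rw [map_zero, map_zero, zero_smul]⟩
      | add a b ha hb =>
        obtain ⟨d, hd, ha⟩ := ha
        obtain ⟨d', hd', hb⟩ := hb
        exact ⟨d + d', add_mem hd hd', by rw [map_add, map_add, ha, hb, add_smul]⟩
      | tmul a l =>
        obtain ⟨V₁, hy₁, a', rfl⟩ := (ClSub.idealMod I).presheaf.exists_germ_eq a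
        obtain ⟨V₂, hy₂, l', rfl⟩ := M.presheaf.exists_germ_eq l
        obtain ⟨W, hW, hyW, hWV⟩ := exists_isAffineOpen_mem_and_subset (show y ∈ V₁ ⊓ V₂ from ⟨hy₁, hy₂⟩)
        have hl₁ : W ≤ V₁ := hWV.trans inf_le_left
        have hl₂ : W ≤ V₂ := hWV.trans inf_le_right
        let a'' := M2.res (ClSub.idealMod I) hl₁ a'
        let l'' := M2.res M hl₂ l'
        obtain ⟨e', he'⟩ := hg.2 (Amp.gm M y hyW l'')
        have hmem : M2.idealIncl I a'' ∈ I.ideal ⟨W, hW⟩ := (M2.range_idealIncl I ⟨W, hW⟩).le ⟨a'', rfl⟩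
        have hnb : y ∉ X.basicOpen (M2.idealIncl I a'') := by
          have := (Scheme.mem_zeroLocus_iff (X := X) _ y).1
            ((Scheme.IdealSheafData.mem_support_iff_of_mem (U := ⟨W, hW⟩) hyW).1 (hsupp y hyU)) _ hmem
          exact this
        let ga : X.presheaf.stalk y := X.presheaf.germ W y hyW (M2.idealIncl I a'')
        have hga : ga ∈ IsLocalRing.maximalIdeal (X.presheaf.stalk y) := by
          rw [IsLocalRing.mem_maximalIdeal]
          exact fun hu => hnb ((Scheme.mem_basicOpen X _ y hyW).2 hu)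
        refine ⟨ga * e', Ideal.mul_mem_right _ _ hga, ?_⟩
        have h5 : (M2.stalkEquiv (ClSub.idealMod I) M y).symm
            ((ClSub.idealMod I).presheaf.germ V₁ y hy₁ a' ⊗ₜ M.presheaf.germ V₂ y hy₂ l') =
            Amp.gm _ y hyW (M2.tsec (ClSub.idealMod I) M a'' l'') := by
          rw [LinearEquiv.symm_apply_eq]
          refine Eq.trans ?_ (M2.stalkEquiv_tsec _ _ y hyW a'' l'').symm
          congr 1
          · exact (TopCat.Presheaf.germ_res_apply _ (homOfLE hl₁) y hyW a').symm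
          · exact (TopCat.Presheaf.germ_res_apply _ (homOfLE hl₂) y hyW l').symm
        erw [h5, M2.stMap_sg ((M2.pmF X).map c) hyW]
        show Amp.gm M y hyW (c.app W (M2.tsec _ _ a'' l'')) = _
        rw [twistIncl_tsec, Amp.gm_smul, ← he', smul_smul]
    obtain ⟨g, hg⟩ := Amp.exists_stalk_gen hM y
    obtain ⟨d, hd, hd'⟩ := key (Amp.gm _ y (U := ⊤) trivial ((M1.ιF t ≫ p).app ⊤ (M1.one ⊤))) g hg
    have h6 : Amp.gm M y (U := ⊤) trivial ((M1.ιF t ≫ p ≫ c).app ⊤ (M1.one ⊤)) = d • g := by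
      rw [← hd']
      exact (M2.stMap_sg ((M2.pmF X).map c) (U := ⊤) (x := y) trivial ((M1.ιF t ≫ p).app ⊤ (M1.one ⊤))).symm
    have hsy' : Amp.Gen (Amp.gm M y (U := ⊤) trivial ((M1.ιF t ≫ p ≫ c).app ⊤ (M1.one ⊤))) := hsy
    rw [h6, hg.ne_zero_smul] at hsy'
    exact hd hsy'
  refine ⟨n, G, hsec, ht, ?_⟩
  have := Amp.isAffineOpen_inf_hasSec hL hsec hU
  rwa [inf_eq_left.2 hGU] at this

end Groth.Agent.VA11
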