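import Groth.Agent.Lib.VeryAmple11.ProjCrit
import Groth.Agent.Lib.RelProj11.TwistPullback
import Groth.Agent.Lib.SymAlg11.Sheaf

/-!
A closed subscheme of a projective bundle, with the restriction of `O(1)`, is a homogeneous spectrum.
-/

set_option autoImplicit false

universe u

open CategoryTheory Limits AlgebraicGeometry TopologicalSpace Opposite
open scoped HomogeneousIdeal

set_option backward.isDefEq.respectTransparency false

noncomputable section

namespace Groth.Agent.VA11

open Groth.Agent.QuotProj11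

variable {X S P : Scheme.{u}} {𝒯 : RelProj.QCGrAlg S} {p : P ⟶ S}
  {chart : ∀ (U : S.Opens) (hU : IsAffineOpen U), (((p ⁻¹ᵁ U : P.Opens) : Scheme.{u}) ≅ Proj (𝒯.deg U hU))}
  (hP : RelProj.IsRelProj 𝒯 p chart) (i : X ⟶ P) [IsClosedImmersion i] (hgen : 𝒯.IsGenDegOne) (hft : 𝒯.IsFTDeg 1)

set_option maxHeartbeats 1600000 in
theorem exists_quot_charts :
    ∃ e : ∀ (U : S.Opens) (hU : IsAffineOpen U),
      (((i ≫ p) ⁻¹ᵁ U : X.Opens) : Scheme.{u}) ≅ Proj ((quotAlg hP i hgen hft).deg U hU),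
      (quotAlg hP i hgen hft).IsGenDegOne ∧ (quotAlg hP i hgen hft).IsFTDeg 1 ∧
        RelProj.IsRelProj (quotAlg hP i hgen hft) (i ≫ p) e ∧
        ∀ (U : S.Opens) (hU : IsAffineOpen U),
          (e U hU).hom ≫ Proj.map (quotMap hP i hgen hft U hU) (irrelevant_quotMap hP i hgen hft U hU) =
            cU chart i U hU := by
  let Q := quotAlg hP i hgen hft
  choose e he using exists_chart hP i hgen hft
  let π : ∀ (U : S.Opens) (hU : IsAffineOpen U), Proj (Q.deg U hU) ⟶ Proj (𝒯.deg U hU) := fun U hU =>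
    Proj.map (quotMap hP i hgen hft U hU) (irrelevant_quotMap hP i hgen hft U hU)
  haveI hmono : ∀ U hU, IsClosedImmersion (π U hU) := fun U hU =>
    RelProj11.isClosedImmersion_map _ _ fun n _ =>
      RelProj11.surjOn_of_surjective _ (surjective_quotMap hP i hgen hft U hU) n
  refine ⟨fun U hU => e U hU, ?_, ?_, ⟨fun U hU => ?_, fun U hU r => ?_⟩, he⟩
  · intro U hU
    refine top_le_iff.1 fun y _ => ?_
    obtain ⟨a, rfl⟩ := surjective_quotMap hP i hgen hft U hU y
    have ha : a ∈ Subring.closure ((𝒯.deg U hU 0 : Set _) ∪ (𝒯.deg U hU 1 : Set _)) := by rw [hgen U hU]; trivial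
    refine (Subring.closure_le (t := (Subring.closure ((Q.deg U hU 0 : Set _) ∪ (Q.deg U hU 1 : Set _))).comap
      (quotMap hP i hgen hft U hU).toRingHom)).2 ?_ ha
    rintro z (hz | hz)
    · exact Subring.subset_closure (Or.inl ((quotMap hP i hgen hft U hU).map_mem hz))
    · exact Subring.subset_closure (Or.inr ((quotMap hP i hgen hft U hU).map_mem hz))
  · intro U hU
    classical
    obtain ⟨T, hT1, hT2⟩ := hft U hU
    let q := quotMap hP i hgen hft U hU
    refine ⟨T.image q, fun y hy => ?_, fun y hy => ?_⟩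
    · obtain ⟨t, ht, rfl⟩ := Finset.mem_image.1 hy
      exact q.map_mem (hT1 ht)
    · obtain ⟨a, ha, rfl⟩ := RelProj11.surjOn_of_surjective q (surjective_quotMap hP i hgen hft U hU) 1 hy
      obtain ⟨c, hc⟩ := hT2 a ha
      refine ⟨fun y => ∑ t ∈ T.filter (fun t => q t = y), c t, ?_⟩
      rw [hc, map_sum]
      refine (Finset.sum_fiberwise_of_maps_to (g := fun t => q t) (fun t ht => Finset.mem_image_of_mem q ht) _).symm.trans
        (Finset.sum_congr rfl fun y _ => ?_)
      rw [map_sum, Finset.sum_mul]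
      refine Finset.sum_congr rfl fun t ht => ?_
      rw [map_mul, (Finset.mem_filter.1 ht).2, quotMap_str hP i hgen hft U hU]
  · have h := congrArg (· ≫ Proj.toSpecZero (𝒯.deg U hU) ≫ Spec.map (𝒯.strZero U hU) ≫ hU.fromSpec) (he U hU)
    simp only [Category.assoc] at h
    rw [reassoc_of% (RelProj11.map_toSpecZero (ψ := quotMap hP i hgen hft U hU) (irrelevant_quotMap hP i hgen hft U hU))] at h
    rw [← Spec.map_comp_assoc] at h
    rw [show (𝒯.strZero U hU) ≫ CommRingCat.ofHom (RelProj11.zeroHom (quotMap hP i hgen hft U hU)) = Q.strZero U hU from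
      CommRingCat.hom_ext (RingHom.ext fun r => Subtype.ext (quotMap_str hP i hgen hft U hU r))] at h
    refine h.trans ?_
    rw [cU, Category.assoc, hP.chart_over U hU, morphismRestrict_ι_assoc]
    rfl
  · rw [← cancel_mono (π U hU), Category.assoc, he U hU, Category.assoc, ← Proj.map_comp]
    refine (cU_res hP i hU (hU.basicOpen r) (S.basicOpen_le r) r rfl).symm.trans ?_
    rw [← he (S.basicOpen r) (hU.basicOpen r), Category.assoc, ← Proj.map_comp]
    congr 1
    exact RelProj11.map_congr _ (GradedRingHom.ext fun a => (quotMap_res hP i hgen hft hU r a).symm) _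


/-- A closed subscheme of a projective bundle is a homogeneous spectrum, with the restricted `O(1)`. -/
theorem exists_isRelProj_closed {E : S.Modules} (hE : Coh.IsQCoh E) {j : E ⟶ 𝒯.toModule}
    (hj : RelProj.IsGrSymAlg E 𝒯 j) (hFT : CohB1.IsFT E) (hP : RelProj.IsRelProj 𝒯 p chart) {O1 : P.Modules}
    {lam : ∀ (U : S.Opens) (hU : IsAffineOpen U),
      O1 ⟶ (Scheme.Modules.pushforward (RelProj.emb p chart U hU)).obj (GrTwist.twist (𝒯.deg U hU) 1)}
    (hO : RelProj.IsRelTwist 𝒯 p chart 1 O1 lam) :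
    ∃ (𝒮 : RelProj.QCGrAlg S)
      (e : ∀ (U : S.Opens) (hU : IsAffineOpen U), (((i ≫ p) ⁻¹ᵁ U : X.Opens) : Scheme.{u}) ≅ Proj (𝒮.deg U hU))
      (O1' : X.Modules) (lam' : ∀ (U : S.Opens) (hU : IsAffineOpen U),
        O1' ⟶ (Scheme.Modules.pushforward (RelProj.emb (i ≫ p) e U hU)).obj (GrTwist.twist (𝒮.deg U hU) 1)),
      𝒮.IsGenDegOne ∧ 𝒮.IsFTDeg 1 ∧ RelProj.IsRelProj 𝒮 (i ≫ p) e ∧ RelProj.IsRelTwist 𝒮 (i ≫ p) e 1 O1' lam' ∧
        Nonempty ((Scheme.Modules.pullback i).obj O1 ≅ O1') := by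
  have hgen := isGenDegOne_of_isGrSymAlg hE hj
  have hft := isFTDeg_one_of_isGrSymAlg hE hFT hj
  let Q := quotAlg hP i hgen hft
  obtain ⟨e, hQgen, hQft, hQ, he⟩ := exists_quot_charts hP i hgen hft
  obtain ⟨O1', lam', hO'⟩ := RelProj11.exists_isRelTwist hQ 1
  let qm := quotMap hP i hgen hft
  have hnat : ∀ {U V : S.Opens} (hU : IsAffineOpen U) (hV : IsAffineOpen V) (hle : V ≤ U) (a : 𝒯.presheaf.obj (op U)),
      Q.res hU hV hle (qm U hU a) = qm V hV (𝒯.res hU hV hle a) := by
    intro U V hU hV hle a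
    choose D hD hDU hDV hyD using fun y : V => RelProj11.exists_common_basic hU hV y.1 ⟨hle y.2, y.2⟩
    refine Groth.Agent.M1.modules_eq_of_locally_eq Q.toModule V D (fun y => (hDV y).le)
      (fun y hy => Opens.mem_iSup.2 ⟨⟨y, hy⟩, hyD ⟨y, hy⟩⟩) _ _ fun y => ?_
    obtain ⟨r, hr⟩ := hDU y
    obtain ⟨r', hr'⟩ := hDV y
    show (Q.presheaf.map (homOfLE (hDV y).le).op).hom ((Q.presheaf.map (homOfLE hle).op).hom (qm U hU a)) =
      (Q.presheaf.map (homOfLE (hDV y).le).op).hom (qm V hV ((𝒯.presheaf.map (homOfLE hle).op).hom a))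
    rw [← ConcreteCategory.comp_apply, ← Functor.map_comp]
    have key : ∀ {W : S.Opens} (hW : IsAffineOpen W) (r : Γ(S, W)) {D : S.Opens} (hD : IsAffineOpen D) (h : D ≤ W)
        (e : D = S.basicOpen r) (b : 𝒯.presheaf.obj (op W)),
        Q.res hW hD h (qm W hW b) = qm D hD (𝒯.res hW hD h b) := by
      intro W hW r D hD h e b
      subst e
      exact quotMap_res hP i hgen hft hW r b
    refine Eq.trans (key hU r (hD y) (hDU y).le hr a) ?_
    refine Eq.trans ?_ (key hV r' (hD y) (hDV y).le hr' _).symm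
    show qm (D y) (hD y) _ = qm (D y) (hD y) ((𝒯.presheaf.map (homOfLE (hDV y).le).op).hom _)
    rw [← ConcreteCategory.comp_apply, ← Functor.map_comp]
    rfl
  obtain ⟨α, hα⟩ := exists_hom_of_affine E Q.toModule
    (fun U hU => AddMonoidHom.mk' (fun m => (show Γ(Q.toModule, U) from qm U hU (j.app U m))) fun m m' => by
      show qm U hU ((j.app U).hom (m + m')) = qm U hU (j.app U m) + qm U hU (j.app U m')
      rw [map_add]
      exact map_add (qm U hU) _ _)
    (fun U hU r m => by
      show qm U hU (j.app U (r • m)) = (Q.str.app (op U)).hom r * qm U hU (j.app U m)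
      have e1 : j.app U (r • m) = (𝒯.str.app (op U)).hom r * (show 𝒯.presheaf.obj (op U) from j.app U m) :=
        j.app_smul r m
      rw [e1, map_mul, quotMap_str])
    (fun {U V} hU hV hle m => by
      show Q.res hU hV hle (qm U hU (j.app U m)) = qm V hV (j.app V (M1.mres E hle m))
      rw [hnat hU hV hle, M1.app_mres]
      rfl)
  obtain ⟨π, hπ, -⟩ := hj.1 Q.toQCAlg α
  have happ : ∀ (U : S.Opens) (hU : IsAffineOpen U) (a : 𝒯.presheaf.obj (op U)),
      π.hom.app (op U) a = qm U hU a := by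
    intro U hU a
    obtain ⟨x, rfl⟩ := (SymAlg11.bijective_liftOn hE hj.1 U hU).2 a
    induction x using SymmetricAlgebra.induction with
    | algebraMap r =>
      rw [SymAlg11.liftOn_algebraMap]
      refine Eq.trans ?_ (quotMap_str hP i hgen hft U hU r).symm
      exact ConcreteCategory.congr_hom (NatTrans.congr_app π.comm (op U)) r
    | ι m =>
      rw [SymAlg11.liftOn_ι]
      exact (congrArg (fun χ : E ⟶ Q.toModule => χ.app U m) hπ).trans (hα U hU m)
    | mul a b ha hb => rw [map_mul, map_mul, map_mul, ha, hb]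
    | add a b ha hb => rw [map_add, map_add, map_add, ha, hb]
  have hgr : RelProj.IsGradedHom π := fun U hU n a ha => by
    rw [happ U hU]
    exact (qm U hU).map_mem ha
  have hgh : ∀ (U : S.Opens) (hU : IsAffineOpen U), RelProj.gradedHomAt π hgr U hU = qm U hU := fun U hU =>
    GradedRingHom.ext (happ U hU)
  have hirr : ∀ (U : S.Opens) (hU : IsAffineOpen U),
      (Q.deg U hU)₊ ≤ ((𝒯.deg U hU)₊).map (RelProj.gradedHomAt π hgr U hU) := fun U hU => by
    rw [hgh U hU]
    exact irrelevant_quotMap hP i hgen hft U hU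
  have hmap : RelProj.IsRelProjMap π hgr hirr chart e i := fun U hU => by
    rw [RelProj11.map_congr (irrelevant_quotMap hP i hgen hft U hU) (hgh U hU).symm (hirr U hU) |>.symm, reassoc_of% (he U hU), cU,
      Category.assoc, Iso.hom_inv_id_assoc]
    exact (morphismRestrict_ι i (p ⁻¹ᵁ U)).symm
  exact ⟨Q, e, O1', lam', hQgen, hQft, hQ, hO',
    RelProj11.nonempty_pullback_relTwist hgen hP hQ hmap 1 hO hO'⟩

end Groth.Agent.VA11
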