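import Groth.Agent.Lib.VeryAmple11.Crit
import Groth.Agent.Lib.VeryAmple11.Dehom
import Groth.Agent.Lib.RelProj11.TwistPullback

/-!
The sections of `O(1)` of a relative `Proj` given by elements of degree one.
-/

set_option autoImplicit false

universe u

open CategoryTheory Limits AlgebraicGeometry TopologicalSpace Opposite
open scoped HomogeneousIdeal

set_option backward.isDefEq.respectTransparency false

noncomputable section

namespace Groth.Agent.VA11

open Groth.Agent.M1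

variable {S P : Scheme.{u}} {𝒮 : RelProj.QCGrAlg S} {p : P ⟶ S}
  {chart : ∀ (U : S.Opens) (hU : IsAffineOpen U), ((p ⁻¹ᵁ U : P.Opens) : Scheme.{u}) ≅ Proj (𝒮.deg U hU)}
  {O1 : P.Modules}
  {lam : ∀ (U : S.Opens) (hU : IsAffineOpen U),
    O1 ⟶ (Scheme.Modules.pushforward (RelProj.emb p chart U hU)).obj (GrTwist.twist (𝒮.deg U hU) 1)}
  (hL : RelProj.IsRelTwist 𝒮 p chart 1 O1 lam)

/-- The value of a section of `O(1)` at a point of a chart. -/
abbrev cval (lam : ∀ (U : S.Opens) (hU : IsAffineOpen U),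
    O1 ⟶ (Scheme.Modules.pushforward (RelProj.emb p chart U hU)).obj (GrTwist.twist (𝒮.deg U hU) 1))
    (U : S.Opens) (hU : IsAffineOpen U) {W : P.Opens} (s : Γ(O1, W)) (y : Proj (𝒮.deg U hU))
    (hy : y ∈ RelProj.emb p chart U hU ⁻¹ᵁ W) : GrTwist.Loc (𝒮.deg U hU) y :=
  GrTw11.val (n := 1) (U := RelProj.emb p chart U hU ⁻¹ᵁ W) ((lam U hU).app W s) y hy

theorem cval_mres (U : S.Opens) (hU : IsAffineOpen U) {W W' : P.Opens} (h : W' ≤ W) (s : Γ(O1, W))
    (y : Proj (𝒮.deg U hU)) (hy : y ∈ RelProj.emb p chart U hU ⁻¹ᵁ W') :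
    cval lam U hU (mres O1 h s) y hy = cval lam U hU s y (Scheme.Hom.preimage_mono _ h hy) := by
  rw [cval, cval, app_mres]
  rfl

include hL in
theorem cval_ext (U : S.Opens) (hU : IsAffineOpen U) {W : P.Opens} (hW : W ≤ p ⁻¹ᵁ U) {s t : Γ(O1, W)}
    (h : ∀ y hy, cval lam U hU s y hy = cval lam U hU t y hy) : s = t :=
  (hL.bijective U hU W hW).1 (GrTw11.sec_ext h)

/-- The section `a / 1` of `O(1)`. -/
def phi (U : S.Opens) (hU : IsAffineOpen U) (a : 𝒮.presheaf.obj (op U)) (ha : a ∈ 𝒮.deg U hU 1) :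
    Γ(O1, p ⁻¹ᵁ U) :=
  ((hL.bijective U hU (p ⁻¹ᵁ U) le_rfl).2 (GrTw11.frac (𝒮.deg U hU) (n := 1)
    (RelProj.emb p chart U hU ⁻¹ᵁ (p ⁻¹ᵁ U)) ha (SetLike.GradedOne.one_mem (A := 𝒮.deg U hU)) (by simp)
    fun x _ => GrTw11.one_notMem_prime _ x)).choose

theorem cval_phi (U : S.Opens) (hU : IsAffineOpen U) (a : 𝒮.presheaf.obj (op U)) (ha : a ∈ 𝒮.deg U hU 1)
    (y : Proj (𝒮.deg U hU)) (hy : y ∈ RelProj.emb p chart U hU ⁻¹ᵁ (p ⁻¹ᵁ U)) :
    cval lam U hU (phi hL U hU a ha) y hy = Localization.mk a ⟨1, GrTw11.one_notMem_prime _ y⟩ := by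
  rw [cval, phi, ((hL.bijective U hU (p ⁻¹ᵁ U) le_rfl).2 _).choose_spec]
  exact GrTw11.val_frac y hy

/-- The standard open of a degree one element. -/
abbrev dd (p : P ⟶ S)
    (chart : ∀ (U : S.Opens) (hU : IsAffineOpen U), ((p ⁻¹ᵁ U : P.Opens) : Scheme.{u}) ≅ Proj (𝒮.deg U hU))
    (U : S.Opens) (hU : IsAffineOpen U) (f : 𝒮.presheaf.obj (op U)) : P.Opens :=
  RelProj.emb p chart U hU ''ᵁ Proj.basicOpen (𝒮.deg U hU) f

theorem dd_le (U : S.Opens) (hU : IsAffineOpen U) (f : 𝒮.presheaf.obj (op U)) :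
    dd p chart U hU f ≤ p ⁻¹ᵁ U := RelProj11.image_emb_le _

theorem preimage_dd (U : S.Opens) (hU : IsAffineOpen U) (f : 𝒮.presheaf.obj (op U)) :
    RelProj.emb p chart U hU ⁻¹ᵁ dd p chart U hU f = Proj.basicOpen (𝒮.deg U hU) f :=
  Scheme.Hom.preimage_image_eq _ _

instance (U : S.Opens) (hU : IsAffineOpen U) (f : 𝒮.presheaf.obj (op U)) :
    IsIso ((RelProj.emb p chart U hU).app (dd p chart U hU f)) :=
  Scheme.Hom.isIso_app _ _ (RelProj11.le_opensRange_emb (dd_le U hU f))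

/-- `a ↦ a / f ^ n` as functions on the standard open of `f`. -/
def rat (p : P ⟶ S)
    (chart : ∀ (U : S.Opens) (hU : IsAffineOpen U), ((p ⁻¹ᵁ U : P.Opens) : Scheme.{u}) ≅ Proj (𝒮.deg U hU))
    (U : S.Opens) (hU : IsAffineOpen U) {f : 𝒮.presheaf.obj (op U)} (hf : f ∈ 𝒮.deg U hU 1) :
    𝒮.presheaf.obj (op U) →+* Γ(P, dd p chart U hU f) :=
  ((inv ((RelProj.emb p chart U hU).app (dd p chart U hU f))).hom.comp
    (ores (preimage_dd U hU f).le).hom).comp
    ((Proj.awayToSection (𝒮.deg U hU) f).hom.comp (dh (𝒮.deg U hU) hf))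

theorem app_rat (U : S.Opens) (hU : IsAffineOpen U) {f : 𝒮.presheaf.obj (op U)} (hf : f ∈ 𝒮.deg U hU 1)
    (a : 𝒮.presheaf.obj (op U)) :
    (RelProj.emb p chart U hU).app (dd p chart U hU f) (rat p chart U hU hf a) =
      ores (preimage_dd U hU f).le (Proj.awayToSection (𝒮.deg U hU) f (dh (𝒮.deg U hU) hf a)) :=
  ConcreteCategory.congr_hom (IsIso.inv_hom_id ((RelProj.emb p chart U hU).app (dd p chart U hU f))) _

include hL in
theorem phi_eq_rat_smul (U : S.Opens) (hU : IsAffineOpen U) {f a : 𝒮.presheaf.obj (op U)}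
    (hf : f ∈ 𝒮.deg U hU 1) (ha : a ∈ 𝒮.deg U hU 1) :
    mres O1 (dd_le (p := p) (chart := chart) U hU f) (phi hL U hU a ha) =
      rat p chart U hU hf a • mres O1 (dd_le (p := p) (chart := chart) U hU f) (phi hL U hU f hf) := by
  refine cval_ext hL U hU (dd_le U hU f) fun y hy => ?_
  have hy' : y ∈ Proj.basicOpen (𝒮.deg U hU) f := (preimage_dd U hU f).le hy
  have h1 : cval lam U hU (rat p chart U hU hf a • mres O1 (dd_le U hU f) (phi hL U hU f hf)) y hy =
      GrTw11.valO ((RelProj.emb p chart U hU).app (dd p chart U hU f) (rat p chart U hU hf a)) y hy *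
        cval lam U hU (mres O1 (dd_le U hU f) (phi hL U hU f hf)) y hy := by
    rw [cval, Scheme.Modules.Hom.app_smul]
    exact GrTw11.val_smul _ _ y hy
  rw [h1, app_rat, GrTw11.valO_map, cval_mres, cval_mres, cval_phi, cval_phi, dh_of_mem _ hf ha]
  erw [GrTw11.valO_awayToSection _ hf (by simpa using ha) y hy' (GrTw11.pow_notMem _ hy' 1)]
  rw [Localization.mk_mul, Localization.mk_eq_mk_iff, Localization.r_iff_exists]
  exact ⟨1, by simp [mul_comm]⟩

include hL in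
theorem isGen_phi (U : S.Opens) (hU : IsAffineOpen U) {f : 𝒮.presheaf.obj (op U)} (hf : f ∈ 𝒮.deg U hU 1) :
    Twist.IsGen O1 (dd p chart U hU f) (mres O1 (dd_le U hU f) (phi hL U hU f hf)) := by
  refine RelProj11.isGen_of_lam hL (dd_le U hU f) _ (GrTw11.frac (𝒮.deg U hU) _
    (SetLike.GradedOne.one_mem (A := 𝒮.deg U hU)) hf (by simp) (preimage_dd U hU f).le) fun x hx => ?_
  show cval lam U hU (mres O1 (dd_le U hU f) (phi hL U hU f hf)) x hx * _ = 1
  rw [cval_mres, cval_phi, GrTw11.val_frac]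
  exact GrTw11.mk_mul_mk_eq_one _ ((preimage_dd U hU f).le hx) (GrTw11.one_notMem_prime _ x)

include hL in
theorem phi_add (U : S.Opens) (hU : IsAffineOpen U) {a b : 𝒮.presheaf.obj (op U)}
    (ha : a ∈ 𝒮.deg U hU 1) (hb : b ∈ 𝒮.deg U hU 1) :
    phi hL U hU (a + b) (add_mem ha hb) = phi hL U hU a ha + phi hL U hU b hb := by
  refine cval_ext hL U hU le_rfl fun y hy => ?_
  have h1 : cval lam U hU (phi hL U hU a ha + phi hL U hU b hb) y hy =
      cval lam U hU (phi hL U hU a ha) y hy + cval lam U hU (phi hL U hU b hb) y hy := by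
    rw [cval, map_add]; rfl
  rw [h1, cval_phi, cval_phi, cval_phi, Localization.add_mk_self]

variable (hP : RelProj.IsRelProj 𝒮 p chart)

include hL hP in
theorem phi_res_basic {U D : S.Opens} (hU : IsAffineOpen U) (hD : IsAffineOpen D) (h : RelProj11.IsBasic U D)
    {a : 𝒮.presheaf.obj (op U)} (ha : a ∈ 𝒮.deg U hU 1) :
    mres O1 (p.preimage_mono h.le) (phi hL U hU a ha) =
      phi hL D hD (𝒮.res hU hD h.le a) ((𝒮.res hU hD h.le).map_mem ha) := by
  obtain ⟨r, rfl⟩ := h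
  refine cval_ext hL _ hD le_rfl fun y hy => ?_
  rw [cval_phi, cval_mres]
  have hy' := RelProj11.comap_mem (W := p ⁻¹ᵁ S.basicOpen r) hU hD ⟨r, rfl⟩ hy hP
  have h1 := hL.compat U hU r (p ⁻¹ᵁ U) (phi hL U hU a ha) y
    (Scheme.Hom.preimage_mono _ (p.preimage_mono (S.basicOpen_le r)) hy)
    (p.preimage_mono (S.basicOpen_le r) hy')
  refine h1.trans ?_
  have h2 := cval_phi hL U hU a ha _ (Scheme.Hom.preimage_mono _ (p.preimage_mono (S.basicOpen_le r)) hy')
  refine (congrArg _ h2).trans ((GrTw11.locMap_frac _ _ y a 1 _).trans ?_)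
  rw [Localization.mk_eq_mk_iff, Localization.r_iff_exists]
  exact ⟨1, by simp⟩

include hL hP in
theorem phi_res {U V : S.Opens} (hU : IsAffineOpen U) (hV : IsAffineOpen V) (h : V ≤ U)
    {a : 𝒮.presheaf.obj (op U)} (ha : a ∈ 𝒮.deg U hU 1) :
    mres O1 (p.preimage_mono h) (phi hL U hU a ha) =
      phi hL V hV (𝒮.res hU hV h a) ((𝒮.res hU hV h).map_mem ha) := by
  choose D hD hUD hVD hxD using fun x : V =>
    RelProj11.exists_common_basic hU hV x.1 ⟨h x.2, x.2⟩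
  refine M1.modules_eq_of_locally_eq O1 _ (fun x : V => p ⁻¹ᵁ D x) (fun x => p.preimage_mono (hVD x).le)
    (fun z hz => Opens.mem_iSup.2 ⟨⟨p z, hz⟩, hxD ⟨p z, hz⟩⟩) _ _ fun x => ?_
  rw [mres_mres, phi_res_basic hL hP hV (hD x) (hVD x), phi_res_basic hL hP hU (hD x) (hUD x)]
  congr 1
  simp only [RelProj.QCGrAlg.res_apply]
  rw [← ConcreteCategory.comp_apply, ← Functor.map_comp]
  rfl

end Groth.Agent.VA11
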