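import Groth.Agent.Lib.VeryAmple11.Dehom
import Groth.Agent.Lib.VeryAmple11.Crit
import Groth.Agent.Lib.PullBC11.PCone

/-!
Morphisms from open subschemes into a `Proj` given by a ring map inverting one homogeneous element.
-/

set_option autoImplicit false

universe u

open CategoryTheory Limits AlgebraicGeometry TopologicalSpace Opposite HomogeneousLocalization
open scoped HomogeneousIdeal

set_option backward.isDefEq.respectTransparency false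

noncomputable section

namespace Groth.Agent.VA11

open Groth.Agent.M1

variable {A σ : Type u} [CommRing A] [SetLike σ A] [AddSubgroupClass σ A] (𝒜 : ℕ → σ) [GradedRing 𝒜]

section alg

variable {T T' : Type*} [CommRing T] [CommRing T']

theorem comp_chartUnit {x : A} {φ : A →+* T} (hu : IsUnit (φ x)) (g : T →+* T')
    (hu' : IsUnit ((g.comp φ) x)) : g.comp (chartUnit 𝒜 φ hu) = chartUnit 𝒜 (g.comp φ) hu' := by
  refine RingHom.ext fun z => ?_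
  show (g.comp (Localization.awayLift φ x hu)) z.val = Localization.awayLift (g.comp φ) x hu' z.val
  refine RingHom.congr_fun (IsLocalization.ringHom_ext (Submonoid.powers x) ?_) z.val
  ext a
  simp [Localization.awayLift, IsLocalization.Away.lift_eq]

theorem chartUnit_fromZero {x : A} {φ : A →+* T} (hu : IsUnit (φ x)) (z : 𝒜 0) :
    chartUnit 𝒜 φ hu (fromZeroRingHom 𝒜 (Submonoid.powers x) z) = φ z.1 := by
  show Localization.awayLift φ x hu (fromZeroRingHom 𝒜 (Submonoid.powers x) z).val = φ z.1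
  rw [show (fromZeroRingHom 𝒜 (Submonoid.powers x) z).val = algebraMap A (Localization.Away x) z.1 from by
    simp [fromZeroRingHom, ← Localization.mk_one_eq_algebraMap]; rfl]
  exact IsLocalization.Away.lift_eq x hu z.1

variable {B τ : Type u} [CommRing B] [SetLike τ B] [AddSubgroupClass τ B] {ℬ : ℕ → τ} [GradedRing ℬ]

theorem chartUnit_map (ρ : 𝒜 →+*ᵍ ℬ) {d : ℕ} {x : A} (hx : x ∈ 𝒜 d) (φ : B →+* T) (hu : IsUnit (φ (ρ x)))
    (φ' : A →+* T) (hφ : ∀ a, φ' a = φ (ρ a)) (hu' : IsUnit (φ' x)) :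
    (chartUnit ℬ φ hu).comp (Away.map ρ x) = chartUnit 𝒜 φ' hu' := by
  refine RingHom.ext fun z => ?_
  obtain ⟨n, a, ha, rfl⟩ := Away.mk_surjective 𝒜 hx z
  refine (hu'.pow n).mul_right_cancel (Eq.trans ?_ (chartUnit_mk 𝒜 φ' hu' hx n a ha).symm)
  rw [RingHom.comp_apply, Away.map_mk, hφ, hφ]
  exact chartUnit_mk ℬ φ hu (ρ.map_mem hx) n (ρ a) _

end alg

variable {X : Scheme.{u}} {V : X.Opens}

/-- The morphism given by a ring map inverting `x`. -/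
def pm {d : ℕ} {x : A} (hx : x ∈ 𝒜 d) (hd : 0 < d) (φ : A →+* Γ(X, V)) (hu : IsUnit (φ x)) :
    (V : Scheme.{u}) ⟶ Proj 𝒜 :=
  V.toSpecΓ ≫ Spec.map (CommRingCat.ofHom (chartUnit 𝒜 φ hu)) ≫ Proj.awayι 𝒜 x hx hd

section

variable {d : ℕ} {x : A} (hx : x ∈ 𝒜 d) (hd : 0 < d) (φ : A →+* Γ(X, V)) (hu : IsUnit (φ x))

theorem homOfLE_pm {V' : X.Opens} (h : V' ≤ V) (φ' : A →+* Γ(X, V')) (hφ : ∀ a, φ' a = ores h (φ a))
    (hu' : IsUnit (φ' x)) : X.homOfLE h ≫ pm 𝒜 hx hd φ hu = pm 𝒜 hx hd φ' hu' := by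
  obtain rfl : φ' = (ores h).hom.comp φ := RingHom.ext hφ
  rw [pm, pm, ← Scheme.Opens.toSpecΓ_SpecMap_presheaf_map_assoc, ← Spec.map_comp_assoc,
    ← comp_chartUnit 𝒜 hu (ores h).hom hu']
  rfl

theorem pm_mul {e : ℕ} {g y : A} (hg : g ∈ 𝒜 e) (hy : y = x * g) (hy' : y ∈ 𝒜 (d + e))
    (hyu : IsUnit (φ y)) : pm 𝒜 hy' (hd.trans_le (d.le_add_right e)) φ hyu = pm 𝒜 hx hd φ hu := by
  rw [pm, pm, ← Proj.SpecMap_awayMap_awayι 𝒜 hx hd hg hy, ← Spec.map_comp_assoc, ← CommRingCat.ofHom_comp,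
    chartUnit_awayMap 𝒜 φ hg hy hyu hu]

theorem pm_scale (φ' : A →+* Γ(X, V)) (hu' : IsUnit (φ' x)) (c : Γ(X, V))
    (h : ∀ n, ∀ a ∈ 𝒜 n, φ a = c ^ n * φ' a) : pm 𝒜 hx hd φ hu = pm 𝒜 hx hd φ' hu' := by
  rw [pm, pm, chartUnit_congr_scale 𝒜 φ hu hx φ' hu' c h]

theorem pm_comp_map {B τ : Type u} [CommRing B] [SetLike τ B] [AddSubgroupClass τ B] {ℬ : ℕ → τ}
    [GradedRing ℬ] (ρ : 𝒜 →+*ᵍ ℬ) (hρ : ℬ₊ ≤ (𝒜₊).map ρ) (φB : B →+* Γ(X, V))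
    (hφ : ∀ a, φ a = φB (ρ a)) (huB : IsUnit (φB (ρ x))) :
    pm ℬ (ρ.map_mem hx) hd φB huB ≫ Proj.map ρ hρ = pm 𝒜 hx hd φ hu := by
  rw [pm, pm, Category.assoc, Category.assoc]
  refine Eq.trans (congrArg (fun m => V.toSpecΓ ≫ Spec.map _ ≫ m) (Proj.awayι_comp_map ρ hρ hd x hx)) ?_
  rw [← Spec.map_comp_assoc, ← CommRingCat.ofHom_comp, chartUnit_map 𝒜 ρ hx φB huB φ hφ hu]

theorem pm_toSpecZero {R : CommRingCat.{u}} (g : R ⟶ CommRingCat.of (𝒜 0)) (h : R ⟶ Γ(X, V))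
    (hgh : ∀ r, φ (g r : 𝒜 0).1 = h r) :
    pm 𝒜 hx hd φ hu ≫ Proj.toSpecZero 𝒜 ≫ Spec.map g = V.toSpecΓ ≫ Spec.map h := by
  rw [pm, Category.assoc, Category.assoc, Proj.awayι_toSpecZero_assoc, ← Spec.map_comp, ← Spec.map_comp]
  congr 2
  refine CommRingCat.hom_ext (RingHom.ext fun r => ?_)
  exact (chartUnit_fromZero 𝒜 hu (g r)).trans (hgh r)

theorem range_pm_le : (⊤ : (V : Scheme.{u}).Opens) ≤ pm 𝒜 hx hd φ hu ⁻¹ᵁ Proj.basicOpen 𝒜 x := by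
  intro z _
  rw [← Proj.opensRange_awayι 𝒜 x hx hd]
  exact ⟨_, rfl⟩

theorem pm_appLE (z : Away 𝒜 x) :
    (pm 𝒜 hx hd φ hu).appLE (Proj.basicOpen 𝒜 x) ⊤ (range_pm_le 𝒜 hx hd φ hu) (Proj.awayToSection 𝒜 x z) =
      V.topIso.inv (chartUnit 𝒜 φ hu z) := by
  have e : (⊤ : (Spec (CommRingCat.of (Away 𝒜 x))).Opens) ≤ Proj.awayι 𝒜 x hx hd ⁻¹ᵁ Proj.basicOpen 𝒜 x := by
    intro w _
    rw [← Proj.opensRange_awayι 𝒜 x hx hd]
    exact ⟨_, rfl⟩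
  have key : (pm 𝒜 hx hd φ hu).appLE (Proj.basicOpen 𝒜 x) ⊤ (range_pm_le 𝒜 hx hd φ hu) =
      (Proj.awayι 𝒜 x hx hd).appLE (Proj.basicOpen 𝒜 x) ⊤ e ≫
        (V.toSpecΓ ≫ Spec.map (CommRingCat.ofHom (chartUnit 𝒜 φ hu))).appTop := by
    rw [Scheme.Hom.appTop, ← Scheme.Hom.appLE_eq_app, Scheme.Hom.appLE_comp_appLE]
    simp only [pm, Category.assoc]
    rfl
  rw [key, ConcreteCategory.comp_apply, PullBC11.appLE_awayι hx hd z e, Scheme.Hom.comp_appTop,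
    Scheme.Opens.toSpecΓ_appTop, ← ConcreteCategory.comp_apply]
  have h2 := Scheme.ΓSpecIso_inv_naturality (CommRingCat.ofHom (chartUnit 𝒜 φ hu))
  have h3 := ConcreteCategory.congr_hom h2 z
  simp only [ConcreteCategory.comp_apply, CommRingCat.hom_ofHom] at h3 ⊢
  refine Eq.trans (congrArg (fun w => V.topIso.inv ((Scheme.ΓSpecIso Γ(X, V)).hom w)) h3.symm) ?_
  exact congrArg V.topIso.inv ((Scheme.ΓSpecIso Γ(X, V)).inv_hom_id_apply _)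

theorem pm_preimage {a : A} {n : ℕ} (ha : a ∈ 𝒜 (n • d)) :
    pm 𝒜 hx hd φ hu ⁻¹ᵁ (Proj 𝒜).basicOpen (Proj.awayToSection 𝒜 x (Away.mk 𝒜 hx n a ha)) =
      V.ι ⁻¹ᵁ X.basicOpen (φ a) := by
  have hz : chartUnit 𝒜 φ hu (Away.mk 𝒜 hx n a ha) * φ x ^ n = φ a := chartUnit_mk 𝒜 φ hu hx n a ha
  have h1 := Scheme.preimage_basicOpen (pm 𝒜 hx hd φ hu) (Proj.awayToSection 𝒜 x (Away.mk 𝒜 hx n a ha))
  have h2 : ((pm 𝒜 hx hd φ hu).app (Proj.basicOpen 𝒜 x) (Proj.awayToSection 𝒜 x (Away.mk 𝒜 hx n a ha))) =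
      ores (U := ⊤) le_top ((pm 𝒜 hx hd φ hu).appLE (Proj.basicOpen 𝒜 x) ⊤ (range_pm_le 𝒜 hx hd φ hu)
        (Proj.awayToSection 𝒜 x (Away.mk 𝒜 hx n a ha))) := by
    refine Eq.symm ?_
    simp only [Scheme.Hom.appLE, ConcreteCategory.comp_apply]
    refine (ores_ores _ _ _).trans ?_
    exact ores_id _ _
  rw [h1, h2, pm_appLE, basicOpen_ores, top_le_iff.1 (range_pm_le 𝒜 hx hd φ hu), top_inf_eq,
    ← hz, Scheme.basicOpen_mul, X.basicOpen_of_isUnit (hu.pow n),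
    inf_eq_left.2 (X.basicOpen_le _), Scheme.preimage_basicOpen, Scheme.Opens.ι_app]
  have : ∀ w : Γ(X, V), (V : Scheme.{u}).basicOpen (V.topIso.inv w) =
      (V : Scheme.{u}).basicOpen (X.presheaf.map (homOfLE (by simp : V.ι ''ᵁ V.ι ⁻¹ᵁ V ≤ V)).op w) := by
    intro w
    rw [← (V : Scheme.{u}).basicOpen_res_eq (V.topIso.inv w)
      (eqToHom (Scheme.Opens.ι_preimage_self V : V.ι ⁻¹ᵁ V = ⊤)).op]
    congr 1
    rw [← ConcreteCategory.comp_apply]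
    exact congrArg (fun m : Γ(X, V) ⟶ _ => m w) (by simp [← Functor.map_comp]; rfl)
  exact this _

end

end Groth.Agent.VA11
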