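import Groth.Agent.Lib.VeryAmple11.QMapVA
import Groth.Agent.Lib.SymAlg11.LineSections

/-!
Projection of the symmetric algebra of an invertible module to degree one.
-/

set_option autoImplicit false

universe u

open CategoryTheory Limits AlgebraicGeometry TopologicalSpace Opposite
open scoped HomogeneousIdeal

set_option backward.isDefEq.respectTransparency false

noncomputable section

namespace Groth.Agent.VA11

open Groth.Agent.M1

variable {X : Scheme.{u}} {L : X.Modules} {𝒮L : RelProj.QCGrAlg X} {jL : L ⟶ 𝒮L.toModule}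
  (hLq : Coh.IsQCoh L) (hjL : RelProj.IsGrSymAlg L 𝒮L jL)

include hLq hjL in
/-- A homogeneous section of degree one comes from a section of the module. -/
theorem exists_proj_one : ∃ π : 𝒮L.toModule ⟶ L, ∀ (W : X.Opens) (c : 𝒮L.presheaf.obj (op W)),
    SymAlg11.IsHom 𝒮L W 1 c → jL.app W (π.app W c) = c := by
  classical
  have hinj : ∀ (V : X.Opens), IsAffineOpen V → ∀ a b : Γ(L, V), jL.app V a = jL.app V b → a = b :=
    fun V hV a b h => (bijective_deg_one hLq hjL V hV).1 (Subtype.ext h)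
  have hex : ∀ (V : X.Opens) (hV : IsAffineOpen V) (x : 𝒮L.presheaf.obj (op V)), ∃ e : Γ(L, V),
      jL.app V e = (DirectSum.decompose (𝒮L.deg V hV) x 1).1 := fun V hV x => by
    obtain ⟨e, he⟩ := (bijective_deg_one hLq hjL V hV).2 (DirectSum.decompose (𝒮L.deg V hV) x 1)
    exact ⟨e, congrArg Subtype.val he⟩
  choose g hg using hex
  obtain ⟨π, hπ⟩ := exists_hom_of_affine 𝒮L.toModule L
    (fun V hV => AddMonoidHom.mk' (fun x : Γ(𝒮L.toModule, V) => g V hV x) fun x y => hinj V hV _ _ (by
      rw [map_add, hg, hg, hg]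
      erw [DirectSum.decompose_add]
      rfl))
    (fun V hV r x => hinj V hV _ _ (by
      show jL.app V (g V hV ((𝒮L.str.app (op V)).hom r * (show 𝒮L.presheaf.obj (op V) from x))) =
        jL.app V (r • g V hV x)
      rw [hg]
      refine Eq.trans ?_ (jL.app_smul r _).symm
      show _ = (𝒮L.str.app (op V)).hom r * (show 𝒮L.presheaf.obj (op V) from jL.app V (g V hV x))
      rw [hg, DirectSum.coe_decompose_mul_of_left_mem_of_le (𝒮L.deg V hV) (𝒮L.str_mem V hV r) (Nat.zero_le 1)]))
    (fun {V W} hV hW hle x => hinj W hW _ _ (by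
      show jL.app W (mres L hle (g V hV x)) = jL.app W (g W hW (𝒮L.res hV hW hle x))
      rw [app_mres jL hle, hg, hg]
      have h3 := GradedRingHom.map_directSumDecompose (𝒜 := 𝒮L.deg V hV) (ℬ := 𝒮L.deg W hW)
        (𝒮L.res hV hW hle) (x := (x : 𝒮L.presheaf.obj (op V))) (i := 1)
      exact h3))
  refine ⟨π, fun W c hc => SymAlg11.eq_of_locally fun x hx => ?_⟩
  obtain ⟨V, hV, hxV, hle⟩ := exists_isAffineOpen_mem_and_subset hx
  refine ⟨V, hle, hxV, ?_⟩
  show mres 𝒮L.toModule hle (jL.app W (π.app W c)) = SymAlg11.gres 𝒮L hle c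
  rw [← app_mres jL hle, ← app_mres π hle, hπ V hV]
  refine (hg V hV _).trans ?_
  have h3 := DirectSum.decompose_of_mem_same (𝒮L.deg V hV) (hc V hV hle)
  exact h3

include hLq hjL in
/-- A section generates where its image does not vanish. -/
theorem gl_eq_nv (hL : PicF.IsInvertible L) {W : X.Opens} (s : Γ(L, W)) :
    gl s = SymAlg11.nv 𝒮L W 1 (jL.app W s) := by
  refine SetLike.ext fun x => ⟨fun hx => ?_, fun hx => ?_⟩
  · obtain ⟨V, hV, hxV, hVle⟩ := exists_isAffineOpen_mem_and_subset hx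
    refine (SymAlg11.mem_nv_iff hLq hjL hV (hVle.trans (gl_le _)) (isGenerator_of_le_gl _ hVle) (a := 1) ?_ hxV).2
      (by rw [Scheme.basicOpen_of_isUnit _ isUnit_one]; exact hxV)
    rw [map_one, one_mul, pow_one]
    exact SymAlg11.gres_tgen (hVle.trans (gl_le s)) s
  · obtain ⟨V, hV, hVW, g, a, hxV, -, hgen, ha⟩ := SymAlg11.exists_local hLq hjL hL
      (c := (jL.app W s : 𝒮L.presheaf.obj (op W))) (n := 1)
      (fun V' hV' h => by
        show SymAlg11.gres 𝒮L h (SymAlg11.tgen jL W s) ∈ _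
        rw [SymAlg11.gres_tgen]
        exact SymAlg11.tgen_mem hjL hV' _) ⊤ (x := x) trivial (SymAlg11.nv_le _ _ _ hx)
    have hxa := (SymAlg11.mem_nv_iff hLq hjL hV hVW hgen ha hxV).1 hx
    have h2 : mres L hVW s = a • g := (bijective_deg_one hLq hjL V hV).1 (Subtype.ext (by
      rw [pow_one] at ha
      exact ((app_mres jL hVW s).trans ha).trans (jL.app_smul a g).symm))
    refine le_gl ((X.basicOpen_le a).trans hVW) ?_ hxa
    rw [← mres_mres L hVW (X.basicOpen_le a), h2, mres_smul]
    exact isGen_smul_unit (Twist.IsGen.mres hgen (X.basicOpen_le a))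
      (RingedSpace.isUnit_res_basicOpen X.toRingedSpace a)

end Groth.Agent.VA11
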