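import Groth.Agent.Lib.VeryAmple11.SymGr
import Groth.Prelude.Def_RelProj4

/-!
Graded morphisms out of a graded symmetric algebra over a change of base.
-/

set_option autoImplicit false

universe u

open CategoryTheory Limits AlgebraicGeometry TopologicalSpace Opposite

set_option backward.isDefEq.respectTransparency false

noncomputable section

namespace Groth.Agent.VA11

open Groth.Agent.SymAlg11
open Scheme.AffineZariskiSite (toOpens toOpens_mono toOpensFunctor)

variable {Y X : Scheme.{u}} {q : X ⟶ Y} {E : Y.Modules} {𝒮' : RelProj.QCGrAlg X}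

/-- The ring map on symmetric algebras of sections given by a module map to a direct image. -/
def pushLiftOn (φ : E ⟶ (Scheme.Modules.pushforward q).obj 𝒮'.toModule) (U : Y.Opens) :
    SymOn E U →+* 𝒮'.presheaf.obj (op (q ⁻¹ᵁ U)) :=
  symLift ((𝒮'.str.app (op (q ⁻¹ᵁ U))).hom.comp (q.app U).hom) (φ.app U).hom fun r m => φ.app_smul r m

theorem pushLiftOn_algebraMap (φ : E ⟶ (Scheme.Modules.pushforward q).obj 𝒮'.toModule) (U : Y.Opens)
    (r : Γ(Y, U)) :
    pushLiftOn φ U (algebraMap Γ(Y, U) _ r) = (𝒮'.str.app (op (q ⁻¹ᵁ U))).hom (q.app U r) :=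
  symLift_algebraMap _ _ _ r

theorem pushLiftOn_ι (φ : E ⟶ (Scheme.Modules.pushforward q).obj 𝒮'.toModule) (U : Y.Opens) (m : Γ(E, U)) :
    pushLiftOn φ U (SymmetricAlgebra.ι Γ(Y, U) Γ(E, U) m) = φ.app U m :=
  symLift_ι _ _ _ m

/-- The sheaf of rings given by the direct image. -/
def pushSheaf (q : X ⟶ Y) (𝒮' : RelProj.QCGrAlg X) : TopCat.Sheaf CommRingCat.{u} Y.carrier :=
  ⟨q.base _* 𝒮'.presheaf, TopCat.Sheaf.pushforward_sheaf_of_sheaf _ 𝒮'.isSheaf⟩

/-- On affine opens. -/
def pushLiftAff (φ : E ⟶ (Scheme.Modules.pushforward q).obj 𝒮'.toModule) :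
    symAff E ⟶ (toOpensFunctor Y).op ⋙ (pushSheaf q 𝒮').obj where
  app U := CommRingCat.ofHom (pushLiftOn φ U.unop.1)
  naturality U V i := by
    refine CommRingCat.hom_ext (symHom_ext (fun r => ?_) (fun m => ?_))
    · change pushLiftOn φ V.unop.1 (symRes E (toOpens_mono i.unop.le) (algebraMap Γ(Y, U.unop.1) _ r)) =
        (𝒮'.presheaf.map (homOfLE (q.preimage_mono (toOpens_mono i.unop.le))).op).hom
          (pushLiftOn φ U.unop.1 (algebraMap Γ(Y, U.unop.1) _ r))
      rw [symRes_algebraMap, pushLiftOn_algebraMap, pushLiftOn_algebraMap]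
      refine Eq.trans ?_ (ConcreteCategory.congr_hom
        (𝒮'.str.naturality (homOfLE (q.preimage_mono (toOpens_mono i.unop.le))).op) _)
      exact congrArg _ (ConcreteCategory.congr_hom (q.naturality (homOfLE (toOpens_mono i.unop.le)).op) r)
    · change pushLiftOn φ V.unop.1 (symRes E (toOpens_mono i.unop.le) (SymmetricAlgebra.ι Γ(Y, U.unop.1) _ m)) =
        (𝒮'.presheaf.map (homOfLE (q.preimage_mono (toOpens_mono i.unop.le))).op).hom
          (pushLiftOn φ U.unop.1 (SymmetricAlgebra.ι Γ(Y, U.unop.1) _ m))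
      rw [symRes_ι, pushLiftOn_ι, pushLiftOn_ι]
      exact M1.app_mres φ (toOpens_mono i.unop.le) m

/-- A module map of degree one to a direct image extends to a graded morphism. -/
theorem exists_qGrHom_symGr (hE : Coh.IsQCoh E) (φ : E ⟶ (Scheme.Modules.pushforward q).obj 𝒮'.toModule)
    (hφ : ∀ (U : Y.Opens) (_ : IsAffineOpen U) (U' : X.Opens) (hU' : IsAffineOpen U') (hle : U' ≤ q ⁻¹ᵁ U)
      (m : Γ(E, U)), (𝒮'.presheaf.map (homOfLE hle).op).hom (φ.app U m) ∈ 𝒮'.deg U' hU' 1) :
    ∃ u : RelProj.QGrHom q (symGr hE) 𝒮', ∀ (U : Y.Opens) (m : Γ(E, U)),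
      (u.app U).hom ((symGen hE).app U m) = φ.app U m := by
  let ψ : (symQC hE).presheaf ⟶ (pushSheaf q 𝒮').obj :=
    Functor.IsCoverDense.restrictHomEquivHom (G := toOpensFunctor Y)
      (K := Opens.grothendieckTopology Y) (ℱ := (symQC hE).presheaf) (ℱ' := pushSheaf q 𝒮')
      ((symIso hE).hom ≫ pushLiftAff φ)
  have hψ : ∀ (U : Y.Opens) (hU : IsAffineOpen U) (a : (symQC hE).presheaf.obj (op U)),
      (ψ.app (op U)).hom a = pushLiftOn φ U (symEquiv hE U hU a) := by
    intro U hU a
    have h : (toOpensFunctor Y).op.whiskerLeft ψ = (symIso hE).hom ≫ pushLiftAff φ :=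
      (Functor.IsCoverDense.restrictHomEquivHom (G := toOpensFunctor Y)
        (K := Opens.grothendieckTopology Y) (ℱ := (symQC hE).presheaf)
        (ℱ' := pushSheaf q 𝒮')).symm_apply_apply _
    exact ConcreteCategory.congr_hom (NatTrans.congr_app h (op (⟨U, hU⟩ : Y.AffineZariskiSite))) a
  have hext : ∀ {F G : Y.presheaf ⟶ (pushSheaf q 𝒮').obj},
      (∀ U : Y.Opens, IsAffineOpen U → F.app (op U) = G.app (op U)) → F = G := fun h =>
    (Functor.IsCoverDense.restrictHomEquivHom (G := toOpensFunctor Y)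
      (K := Opens.grothendieckTopology Y) (ℱ := Y.presheaf) (ℱ' := pushSheaf q 𝒮')).symm.injective
        (NatTrans.ext (funext fun U => h U.unop.1 U.unop.2))
  have hstr : (symQC hE).str ≫ ψ = q.c ≫ Functor.whiskerLeft (Opens.map q.base).op 𝒮'.str :=
    hext fun U hU => CommRingCat.hom_ext (RingHom.ext fun r => by
      change (ψ.app (op U)).hom (((symQC hE).str.app (op U)).hom r) = _
      rw [hψ U hU, symEquiv_str, pushLiftOn_algebraMap]
      rfl)
  let u : RelProj.QGrHom q (symGr hE) 𝒮' :=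
    { app := fun U => ψ.app (op U)
      naturality := fun i => (ψ.naturality (homOfLE i).op).symm
      str_app := fun U => NatTrans.congr_app hstr (op U)
      map_mem := fun U hU U' hU' hle d x hx => by
        show (𝒮'.presheaf.map (homOfLE hle).op).hom ((ψ.app (op U)).hom x) ∈ _
        rw [hψ U hU]
        have hx' : symEquiv hE U hU x ∈ symDeg Γ(Y, U) Γ(E, U) d := hx
        refine map_symDeg (𝒮'.deg U' hU') ((𝒮'.presheaf.map (homOfLE hle).op).hom.comp (pushLiftOn φ U))
          (fun r => ?_) (fun m => ?_) hx'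
        · rw [RingHom.comp_apply, pushLiftOn_algebraMap]
          have h := ConcreteCategory.congr_hom (𝒮'.str.naturality (homOfLE hle).op) (q.app U r)
          exact (congrArg (· ∈ 𝒮'.deg U' hU' 0) h).mp (𝒮'.str_mem U' hU' _)
        · rw [RingHom.comp_apply, pushLiftOn_ι]
          exact hφ U hU U' hU' hle m }
  refine ⟨u, fun U m => ?_⟩
  -- agreement on affine opens suffices
  refine M1.section_ext (M := 𝒮'.toModule) _ _ fun x hx => ?_
  obtain ⟨W, hW, hxW, hWU⟩ := exists_isAffineOpen_mem_and_subset (show q x ∈ U from hx)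
  rw [← TopCat.Presheaf.germ_res_apply 𝒮'.toModule.presheaf (homOfLE (q.preimage_mono hWU)) x hxW,
    ← TopCat.Presheaf.germ_res_apply 𝒮'.toModule.presheaf (homOfLE (q.preimage_mono hWU)) x hxW]
  refine congrArg _ ?_
  show (𝒮'.presheaf.map (homOfLE (q.preimage_mono hWU)).op).hom ((ψ.app (op U)).hom ((symGen hE).app U m)) = _
  have h1 := ConcreteCategory.congr_hom (ψ.naturality (homOfLE hWU).op) ((symGen hE).app U m)
  refine (h1.symm.trans ?_).trans (M1.app_mres φ hWU m)
  show (ψ.app (op W)).hom (((symQC hE).presheaf.map (homOfLE hWU).op).hom ((symGen hE).app U m)) = _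
  rw [show ((symQC hE).presheaf.map (homOfLE hWU).op).hom ((symGen hE).app U m) =
    (symGen hE).app W (M1.mres E hWU m) from (M1.app_mres (symGen hE) hWU m).symm, hψ W hW, symGen_app hE W hW,
    RingEquiv.apply_symm_apply, pushLiftOn_ι]

end Groth.Agent.VA11
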