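import Groth.Agent.Lib.SymAlg11.LineAmple
import Groth.Agent.Lib.VeryAmple11.Bundle

/-!
Evaluation of fractions on the source of the morphism attached to an invertible module and a
graded morphism.
-/

set_option autoImplicit false

universe u

open CategoryTheory Limits AlgebraicGeometry TopologicalSpace Opposite HomogeneousLocalization
open scoped HomogeneousIdeal

set_option backward.isDefEq.respectTransparency false

noncomputable section

namespace Groth.Agent.VA11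

open Groth.Agent.M1

variable {S P : Scheme.{u}} {𝒮 : RelProj.QCGrAlg S} {p : P ⟶ S}
  {chart : ∀ (U : S.Opens) (hU : IsAffineOpen U), ((p ⁻¹ᵁ U : P.Opens) : Scheme.{u}) ≅ Proj (𝒮.deg U hU)}

/-- A fraction as a function on a standard open. -/
def asec (p : P ⟶ S)
    (chart : ∀ (U : S.Opens) (hU : IsAffineOpen U), ((p ⁻¹ᵁ U : P.Opens) : Scheme.{u}) ≅ Proj (𝒮.deg U hU))
    (U : S.Opens) (hU : IsAffineOpen U) (f : 𝒮.presheaf.obj (op U)) (z : Away (𝒮.deg U hU) f) :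
    Γ(P, dd p chart U hU f) :=
  inv ((RelProj.emb p chart U hU).app (dd p chart U hU f))
    (ores (preimage_dd U hU f).le (Proj.awayToSection (𝒮.deg U hU) f z))

theorem app_asec (U : S.Opens) (hU : IsAffineOpen U) (f : 𝒮.presheaf.obj (op U)) (z : Away (𝒮.deg U hU) f) :
    (RelProj.emb p chart U hU).app (dd p chart U hU f) (asec p chart U hU f z) =
      ores (preimage_dd U hU f).le (Proj.awayToSection (𝒮.deg U hU) f z) :=
  ConcreteCategory.congr_hom (IsIso.inv_hom_id ((RelProj.emb p chart U hU).app (dd p chart U hU f))) _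

theorem appLE_asec_awayι (U : S.Opens) (hU : IsAffineOpen U) {d : ℕ} (hd : 0 < d) {f : 𝒮.presheaf.obj (op U)}
    (hf : f ∈ 𝒮.deg U hU d)
    (h : (⊤ : (Spec (CommRingCat.of (Away (𝒮.deg U hU) f))).Opens) ≤
      (Proj.awayι (𝒮.deg U hU) f hf hd ≫ RelProj.emb p chart U hU) ⁻¹ᵁ dd p chart U hU f)
    (z : Away (𝒮.deg U hU) f) :
    (Proj.awayι (𝒮.deg U hU) f hf hd ≫ RelProj.emb p chart U hU).appLE (dd p chart U hU f) ⊤ h
      (asec p chart U hU f z) = (Scheme.ΓSpecIso (CommRingCat.of (Away (𝒮.deg U hU) f))).inv z := by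
  have e : (⊤ : (Spec (CommRingCat.of (Away (𝒮.deg U hU) f))).Opens) ≤
      Proj.awayι (𝒮.deg U hU) f hf hd ⁻¹ᵁ Proj.basicOpen (𝒮.deg U hU) f := by
    intro w _
    rw [← Proj.opensRange_awayι (𝒮.deg U hU) f hf hd]
    exact ⟨_, rfl⟩
  have hB : Proj.basicOpen (𝒮.deg U hU) f ≤ RelProj.emb p chart U hU ⁻¹ᵁ dd p chart U hU f :=
    (preimage_dd U hU f).ge
  rw [← Scheme.Hom.appLE_comp_appLE _ (RelProj.emb p chart U hU) (dd p chart U hU f) _ ⊤ hB e,
    ConcreteCategory.comp_apply]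
  refine Eq.trans (congrArg _ ?_) (PullBC11.appLE_awayι hf hd z e)
  rw [Scheme.Hom.appLE, ConcreteCategory.comp_apply, app_asec]
  exact (ores_ores _ _ _).trans (ores_id _ _)

theorem appLE_asec_chart (U : S.Opens) (hU : IsAffineOpen U) {B τ : Type u} [CommRing B] [SetLike τ B]
    [AddSubgroupClass τ B] {ℬ : ℕ → τ} [GradedRing ℬ] (ψ : 𝒮.deg U hU →+*ᵍ ℬ) {d : ℕ} (hd : 0 < d)
    {f : 𝒮.presheaf.obj (op U)} (hf : f ∈ 𝒮.deg U hU d)
    (n : Spec (CommRingCat.of (Away ℬ (ψ f))) ⟶ P)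
    (hn : n = Spec.map (CommRingCat.ofHom (Away.map ψ f)) ≫
      Proj.awayι (𝒮.deg U hU) f hf hd ≫ RelProj.emb p chart U hU)
    (h : (⊤ : (Spec (CommRingCat.of (Away ℬ (ψ f)))).Opens) ≤ n ⁻¹ᵁ dd p chart U hU f)
    (z : Away (𝒮.deg U hU) f) :
    n.appLE (dd p chart U hU f) ⊤ h (asec p chart U hU f z) =
      (Scheme.ΓSpecIso _).inv (Away.map ψ f z) := by
  subst hn
  have hA : (⊤ : (Spec (CommRingCat.of (Away (𝒮.deg U hU) f))).Opens) ≤
      (Proj.awayι (𝒮.deg U hU) f hf hd ≫ RelProj.emb p chart U hU) ⁻¹ᵁ dd p chart U hU f := by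
    rw [Scheme.Hom.comp_preimage]
    refine le_trans ?_ (Scheme.Hom.preimage_mono _ (preimage_dd (p := p) (chart := chart) U hU f).ge)
    rw [← Proj.opensRange_awayι (𝒮.deg U hU) f hf hd, Scheme.Hom.preimage_opensRange]
  rw [← Scheme.Hom.appLE_comp_appLE (Spec.map (CommRingCat.ofHom (Away.map ψ f))) _ (dd p chart U hU f) ⊤ ⊤ hA
    le_top, ConcreteCategory.comp_apply, appLE_asec_awayι U hU hd hf hA z]
  refine Eq.trans ?_ (ConcreteCategory.congr_hom
    (Scheme.ΓSpecIso_inv_naturality (CommRingCat.ofHom (Away.map ψ f))) _).symm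
  rw [ConcreteCategory.comp_apply]
  exact ConcreteCategory.congr_hom (Scheme.Hom.appLE_eq_app (Spec.map (CommRingCat.ofHom (Away.map ψ f)))) _

variable {X PL : Scheme.{u}} {L : X.Modules} {𝒮L : RelProj.QCGrAlg X} {jL : L ⟶ 𝒮L.toModule}
  (hLq : Coh.IsQCoh L) (hjL : RelProj.IsGrSymAlg L 𝒮L jL) (hL : PicF.IsInvertible L)
  {pL : PL ⟶ X}
  {chartL : ∀ (U : X.Opens) (hU : IsAffineOpen U), (((pL ⁻¹ᵁ U : PL.Opens) : Scheme.{u}) ≅ Proj (𝒮L.deg U hU))}
  (hPL : RelProj.IsRelProj 𝒮L pL chartL) (g : X ⟶ P) (u : RelProj.QGrHom (g ≫ p) 𝒮 𝒮L)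
  {r : (RelProj.domQ u pL chartL).toScheme ⟶ P}
  (hr : RelProj.IsProjQMapOn u p chart pL chartL (RelProj.domQ u pL chartL) r)
  (hm : ((RelProj.domQ u pL chartL).ι ≫ pL) ≫ g = r)

include hPL hr hm in
/-- The value of a fraction, cleared of its denominator. -/
theorem exists_pow_mul_app_asec (U : S.Opens) (hU : IsAffineOpen U) {V : X.Opens} (hV : IsAffineOpen V)
    (hVW : V ≤ (g ≫ p) ⁻¹ᵁ U) {d : ℕ} (hd : 0 < d) {f : 𝒮.presheaf.obj (op U)} (hf : f ∈ 𝒮.deg U hU d)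
    (hVf : V ≤ g ⁻¹ᵁ dd p chart U hU f) {l : ℕ} {a : 𝒮.presheaf.obj (op U)} (ha : a ∈ 𝒮.deg U hU (l • d)) :
    ∃ M : ℕ, u.gradedAt U hU V hV hVW f ^ M * u.gradedAt U hU V hV hVW a =
      u.gradedAt U hU V hV hVW f ^ M * (u.gradedAt U hU V hV hVW f ^ l *
        (𝒮L.str.app (op V)).hom (ores hVf (g.app (dd p chart U hU f)
          (asec p chart U hU f (Away.mk (𝒮.deg U hU) hf l a ha))))) := by
  let D := dd p chart U hU f
  let ψ := u.gradedAt U hU V hV hVW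
  let i : RelProj11.QIdx (g := g ≫ p) (𝒮 := 𝒮) := ⟨U, hU, V, hV, hVW, d, hd, f, hf⟩
  let ς : CommRingCat.of Γ(X, V) ⟶ CommRingCat.of (Away (𝒮L.deg V hV) (ψ f)) :=
    𝒮L.strZero V hV ≫ CommRingCat.ofHom (fromZeroRingHom (𝒮L.deg V hV) (Submonoid.powers (ψ f)))
  let qm := RelProj11.qC u pL chartL i ≫ pL
  have hqm : qm = Spec.map ς ≫ hV.fromSpec := by
    change (RelProj.awayEmb _ _ _ _ _ _ _ _ _ _ _) ≫ pL = _
    rw [RelProj.awayEmb, Category.assoc, SymAlg11.emb_comp hPL, SymAlg11.toBaseAff, Category.assoc,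
      Proj.awayι_toSpecZero_assoc, ← Spec.map_comp_assoc]
  have hqg : qm ≫ g = Spec.map (CommRingCat.ofHom (Away.map ψ f)) ≫
      Proj.awayι (𝒮.deg U hU) f hf hd ≫ RelProj.emb p chart U hU := by
    refine Eq.trans ?_ (RelProj11.lift_qC_comp hr i)
    show (RelProj11.qC u pL chartL i ≫ pL) ≫ g = _
    rw [← hm, Category.assoc, Category.assoc, IsOpenImmersion.lift_fac_assoc]
  have h1 : (⊤ : (Spec _).Opens) ≤ qm ⁻¹ᵁ V := fun w _ => by
    rw [hqm]
    exact hV.opensRange_fromSpec.le ⟨_, rfl⟩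
  let z := Away.mk (𝒮.deg U hU) hf l a ha
  let b := ores hVf (g.app D (asec p chart U hU f z))
  have h2 := appLE_specMap_fromSpec hV ς qm h1 hqm b
  have h3 : (qm ≫ g).appLE D ⊤ (fun w hw => hVf (h1 hw)) (asec p chart U hU f z) = qm.appLE V ⊤ h1 b := by
    rw [← Scheme.Hom.appLE_comp_appLE qm g D V ⊤ hVf h1, ConcreteCategory.comp_apply]
    congr 1
  have h4 := appLE_asec_chart U hU ψ hd hf (qm ≫ g) hqg (fun w hw => hVf (h1 hw)) z
  have h5 : ς b = Away.map ψ f z :=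
    (ConcreteCategory.bijective_of_isIso (Scheme.ΓSpecIso _).inv).1 (h2.symm.trans (h3.symm.trans h4))
  have h6 := congrArg HomogeneousLocalization.val h5
  rw [Away.map_mk, Away.val_mk] at h6
  change Localization.mk ((𝒮L.str.app (op V)).hom b) 1 = _ at h6
  rw [Localization.mk_eq_mk_iff, Localization.r_iff_exists] at h6
  obtain ⟨⟨_, M, rfl⟩, hM⟩ := h6
  refine ⟨M, ?_⟩
  simp only [OneMemClass.coe_one, one_mul] at hM
  exact hM.symm

end Groth.Agent.VA11
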