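import Groth.Agent.Lib.VeryAmple11.Univ
import Groth.Agent.Lib.SymAlg11.Line

/-!
The morphism into a projective bundle attached to sections of an invertible module, computed on
the homogeneous spectrum of the symmetric algebra of that module.
-/

set_option autoImplicit false

universe u

open CategoryTheory Limits AlgebraicGeometry TopologicalSpace Opposite HomogeneousLocalization
open scoped HomogeneousIdeal

set_option backward.isDefEq.respectTransparency false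

noncomputable section

namespace Groth.Agent.VA11

open Groth.Agent.M1

variable {S X : Scheme.{u}} {f : X ⟶ S} {L : X.Modules} {E : S.Modules}
  {φ : E ⟶ (Scheme.Modules.pushforward f).obj L} {𝒮 : RelProj.QCGrAlg S} {j : E ⟶ 𝒮.toModule}
  (hE : Coh.IsQCoh E) (hj : RelProj.IsGrSymAlg E 𝒮 j)

/-- The degree one part is the module. -/
def eqOne (U : S.Opens) (hU : IsAffineOpen U) : Γ(E, U) ≃ 𝒮.deg U hU 1 :=
  Equiv.ofBijective _ (bijective_deg_one hE hj U hU)

theorem app_eqOne_symm (U : S.Opens) (hU : IsAffineOpen U) (a : 𝒮.deg U hU 1) :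
    j.app U ((eqOne hE hj U hU).symm a) = a.1 :=
  congrArg Subtype.val ((eqOne hE hj U hU).apply_symm_apply a)

/-- The ring map given by the ratios of the sections. -/
def ratMap (U : S.Opens) (hU : IsAffineOpen U) (s : Γ(L, f ⁻¹ᵁ U)) :
    𝒮.presheaf.obj (op U) →+* Γ(X, gl s) :=
  (SymAlg11.symLift ((ores (gl_le s)).hom.comp (f.app U).hom)
    (AddMonoidHom.mk' (fun m : Γ(E, U) => cf s (secs φ U m))
      fun m m' => by simp only [secs, map_add, cf_add])
    (fun r m => by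
      show cf s (secs φ U (r • m)) = _
      rw [secs_smul, cf_smul_right]; rfl)).comp
    (RingEquiv.ofBijective (SymAlg11.liftOn 𝒮.toQCAlg j U)
      (SymAlg11.bijective_liftOn hE hj.1 U hU)).symm.toRingHom

theorem ratMap_gen (U : S.Opens) (hU : IsAffineOpen U) (s : Γ(L, f ⁻¹ᵁ U)) (m : Γ(E, U)) :
    ratMap (φ := φ) hE hj U hU s (j.app U m) = cf s (secs φ U m) := by
  have h1 : (RingEquiv.ofBijective (SymAlg11.liftOn 𝒮.toQCAlg j U)
      (SymAlg11.bijective_liftOn hE hj.1 U hU)).symm (j.app U m) =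
      SymmetricAlgebra.ι Γ(S, U) Γ(E, U) m := by
    rw [RingEquiv.symm_apply_eq]
    exact (SymAlg11.liftOn_ι _ _ U _).symm
  rw [ratMap, RingHom.comp_apply]
  erw [h1, SymAlg11.symLift_ι]
  rfl

theorem ratMap_str (U : S.Opens) (hU : IsAffineOpen U) (s : Γ(L, f ⁻¹ᵁ U)) (r : Γ(S, U)) :
    ratMap (φ := φ) hE hj U hU s ((𝒮.str.app (op U)).hom r) = ores (gl_le s) (f.app U r) := by
  have h1 : (RingEquiv.ofBijective (SymAlg11.liftOn 𝒮.toQCAlg j U)
      (SymAlg11.bijective_liftOn hE hj.1 U hU)).symm ((𝒮.str.app (op U)).hom r) =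
      algebraMap Γ(S, U) (SymAlg11.SymOn E U) r := by
    rw [RingEquiv.symm_apply_eq]
    exact (SymAlg11.liftOn_algebraMap _ _ U r).symm
  rw [ratMap, RingHom.comp_apply]
  erw [h1, SymAlg11.symLift_algebraMap]
  rfl

/-- Generating sections give generating data. -/
def genData (h : Gens φ) : GenData f L 𝒮 where
  s U hU a := secs φ U ((eqOne hE hj U hU).symm a)
  s_res {U V} hU hV hle a := by
    rw [secs_res]
    congr 1
    refine ((eqOne hE hj V hV).eq_symm_apply).2 (Subtype.ext ?_)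
    show j.app V (mres E hle ((eqOne hE hj U hU).symm a)) = (𝒮.res hU hV hle a.1)
    rw [app_mres j hle]
    exact congrArg _ (app_eqOne_symm hE hj U hU a)
  cov U hU x hx := by
    obtain ⟨U₀, m₀, hm₀⟩ := h x
    obtain ⟨m, hm⟩ := exists_mem_gl_of_nbhd hE φ hU hx hm₀
    exact ⟨eqOne hE hj U hU m, by rwa [Equiv.symm_apply_apply]⟩
  psi U hU e := ratMap (φ := φ) hE hj U hU _
  psi_one U hU e a :=
    (congrArg (ratMap (φ := φ) hE hj U hU _) (app_eqOne_symm hE hj U hU a).symm).trans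
      (ratMap_gen hE hj U hU _ _)
  psi_str U hU e r := ratMap_str hE hj U hU _ r

theorem genData_s (h : Gens φ) (U : S.Opens) (hU : IsAffineOpen U) (m : Γ(E, U)) :
    (genData hE hj h).s U hU (eqOne hE hj U hU m) = secs φ U m :=
  congrArg (secs φ U) ((eqOne hE hj U hU).symm_apply_apply m)

variable {P : Scheme.{u}} {p : P ⟶ S}
  {chart : ∀ (U : S.Opens) (hU : IsAffineOpen U), ((p ⁻¹ᵁ U : P.Opens) : Scheme.{u}) ≅ Proj (𝒮.deg U hU)}
  (hP : RelProj.IsRelProj 𝒮 p chart)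

include hE hj in
/-- The criterion makes the morphism given by the sections an immersion. -/
theorem isImmersion_genData_toP (h : VAmp φ) :
    IsImmersion ((genData hE hj h.gens).toP (isGenDegOne_of_isGrSymAlg hE hj) hP) := by
  let G := genData hE hj h.gens
  refine G.isImmersion_toP (isGenDegOne_of_isGrSymAlg hE hj) hP fun x => ?_
  obtain ⟨U, hU, hva⟩ := h x
  refine ⟨U, hU, hva.mono fun m hm => ?_⟩
  have hs : ∀ k, G.s U hU (eqOne hE hj U hU k) = secs φ U k := genData_s hE hj h.gens U hU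
  have hgl : gl (G.s U hU (eqOne hE hj U hU m)) ≤ gl (secs φ U m) := (gl_congr (hs m)).le
  have hcf : ∀ (u u' : Γ(L, f ⁻¹ᵁ U)) (e : u' = u) (v v' : Γ(L, f ⁻¹ᵁ U)) (ev : v' = v) (h : gl u' ≤ gl u),
      ores h (cf u v) = cf u' v' := by
    rintro u _ rfl v _ rfl h
    exact ores_id _ _
  refine ⟨eqOne hE hj U hU m, hgl, (gl_congr (hs m)).ge hm, fun r => ?_, fun k => ?_⟩
  · rw [ores_ores]
    exact base_mem_ratSub r
  · rw [hcf _ _ (hs m) _ _ (hs k) hgl]
    exact cf_mem_ratSub _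

section qmap

variable {PL : Scheme.{u}} {𝒮L : RelProj.QCGrAlg X} {jL : L ⟶ 𝒮L.toModule}
  (hLq : Coh.IsQCoh L) (hjL : RelProj.IsGrSymAlg L 𝒮L jL) (hL : PicF.IsInvertible L)
  {pL : PL ⟶ X}
  {chartL : ∀ (U : X.Opens) (hU : IsAffineOpen U), (((pL ⁻¹ᵁ U : PL.Opens) : Scheme.{u}) ≅ Proj (𝒮L.deg U hU))}
  (hPL : RelProj.IsRelProj 𝒮L pL chartL)
  {u : RelProj.QGrHom f 𝒮 𝒮L}
  (hu : ∀ (U : S.Opens) (m : Γ(E, U)), (u.app U).hom ((j.app U) m) = (jL.app (f ⁻¹ᵁ U)) (φ.app U m))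

include hu in
theorem gradedAt_gen (U : S.Opens) (hU : IsAffineOpen U) {V : X.Opens} (hV : IsAffineOpen V)
    (hle : V ≤ f ⁻¹ᵁ U) (m : Γ(E, U)) :
    u.gradedAt U hU V hV hle (j.app U m) = SymAlg11.tgen jL V (mres L hle (secs φ U m)) := by
  refine Eq.trans ?_ (SymAlg11.gres_tgen hle (secs φ U m))
  show SymAlg11.gres 𝒮L hle ((u.app U).hom (j.app U m)) = _
  rw [hu]

theorem isGenerator_of_le_gl {W V : X.Opens} (s : Γ(L, W)) (h : V ≤ gl s) :
    M2.IsGenerator (mres L (h.trans (gl_le s)) s) := by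
  have h1 := (isGen_gl s).mres h
  rw [mres_mres] at h1
  exact h1

include hLq hjL hL hPL hu in
/-- The chart attached to a section lies over the locus where it generates. -/
theorem mem_range_qC_of_mem (U : S.Opens) (hU : IsAffineOpen U) {V : X.Opens} (hV : IsAffineOpen V)
    (m : Γ(E, U)) (h : V ≤ gl (secs φ U m)) {z : PL} (hz : pL z ∈ V) :
    z ∈ Set.range (RelProj11.qC u pL chartL
      ⟨U, hU, V, hV, h.trans (gl_le _), 1, one_pos, j.app U m, hj.2 U hU m⟩) := by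
  refine (SymAlg11.mem_range_qC_iff hLq hjL hL hPL u _ z).2 ?_
  refine (SymAlg11.mem_nv_iff hLq hjL hV (le_refl V) (isGenerator_of_le_gl _ h) (a := 1) ?_ hz).2
    (by rw [Scheme.basicOpen_of_isUnit _ isUnit_one]; exact hz)
  rw [SymAlg11.gres_self, map_one, one_mul, pow_one]
  exact gradedAt_gen hu U hU hV _ m

include hE hj hLq hjL hL hPL hu in
/-- The morphism is everywhere defined. -/
theorem domQ_eq_top_of_gens (h : Gens φ) : RelProj.domQ u pL chartL = ⊤ := by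
  refine top_le_iff.1 fun z _ => ?_
  obtain ⟨U₀, m₀, hm₀⟩ := h (pL z)
  obtain ⟨U, hU, hzU, -⟩ := exists_isAffineOpen_mem_and_subset (U := (⊤ : S.Opens)) (x := f (pL z)) trivial
  obtain ⟨m, hm⟩ := exists_mem_gl_of_nbhd hE φ hU hzU hm₀
  obtain ⟨V, hV, hzV, hVle⟩ := exists_isAffineOpen_mem_and_subset hm
  have := RelProj11.range_qC_subset _ (mem_range_qC_of_mem hj hLq hjL hL hPL hu U hU hV m hVle hzV)
  rwa [Scheme.Opens.range_ι] at this

/-- Index of the charts attached to sections. -/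
structure GIdx (φ : E ⟶ (Scheme.Modules.pushforward f).obj L) where
  /-- the affine open of the base -/
  U : S.Opens
  hU : IsAffineOpen U
  /-- the affine open of the source -/
  V : X.Opens
  hV : IsAffineOpen V
  /-- the section -/
  m : Γ(E, U)
  hle : V ≤ gl (secs φ U m)

/-- The chart index of a section. -/
abbrev GIdx.toQ (i : GIdx φ) : RelProj11.QIdx (g := f) (𝒮 := 𝒮) :=
  ⟨i.U, i.hU, i.V, i.hV, i.hle.trans (gl_le _), 1, one_pos, j.app i.U i.m, hj.2 i.U i.hU i.m⟩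

variable {r : (RelProj.domQ u pL chartL).toScheme ⟶ P}
  (hr : RelProj.IsProjQMapOn u p chart pL chartL (RelProj.domQ u pL chartL) r)

include hLq hjL hu in
/-- Degree by degree the graded map is the ratio times a power of the section. -/
theorem gradedAt_eq_pow_mul (h : Gens φ) (i : GIdx φ) (hV : i.V ≤ gl ((genData hE hj h).s i.U i.hU
      (eqOne hE hj i.U i.hU i.m))) :
    ∀ n, ∀ a ∈ 𝒮.deg i.U i.hU n,
      u.gradedAt i.U i.hU i.V i.hV (i.hle.trans (gl_le _)) a =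
        u.gradedAt i.U i.hU i.V i.hV (i.hle.trans (gl_le _)) (j.app i.U i.m) ^ n *
          (𝒮L.str.app (op i.V)).hom (ores hV ((genData hE hj h).psi i.U i.hU (eqOne hE hj i.U i.hU i.m) a)) := by
  let G := genData hE hj h
  let a₀ := eqOne hE hj i.U i.hU i.m
  let ψ := u.gradedAt i.U i.hU i.V i.hV (i.hle.trans (gl_le _))
  let e := mres L (i.hle.trans (gl_le _)) (secs φ i.U i.m)
  have he : M2.IsGenerator e := isGenerator_of_le_gl _ i.hle
  have hc : ψ (j.app i.U i.m) = SymAlg11.tgen jL i.V e := gradedAt_gen hu _ _ i.hV _ _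
  have hdeg1 : ∀ a ∈ 𝒮.deg i.U i.hU 1, ψ a = ψ (j.app i.U i.m) *
      (𝒮L.str.app (op i.V)).hom (ores hV (G.psi i.U i.hU a₀ a)) := by
    intro a ha
    obtain ⟨k, hk⟩ : ∃ k, eqOne hE hj i.U i.hU k = ⟨a, ha⟩ := ⟨_, (eqOne hE hj i.U i.hU).apply_symm_apply _⟩
    obtain rfl : (show 𝒮.presheaf.obj (op i.U) from j.app i.U k) = a := congrArg Subtype.val hk
    rw [show ψ (j.app i.U k) = _ from gradedAt_gen hu _ _ i.hV _ k, hc, mul_comm]
    refine Eq.trans ?_ (jL.app_smul (U := i.V) _ _)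
    show jL.app i.V _ = jL.app i.V _
    congr 1
    have h1 := G.psi_one i.U i.hU a₀ (eqOne hE hj i.U i.hU k)
    refine Eq.trans ?_ (congrArg (fun t => ores hV t • e) h1).symm
    have h2 := cf_smul_res (G.s i.U i.hU a₀) (G.s i.U i.hU (eqOne hE hj i.U i.hU k)) hV
    have key : ∀ (s s' : Γ(L, f ⁻¹ᵁ i.U)) (t t' : Γ(L, f ⁻¹ᵁ i.U)), s = s' → t = t' →
        ∀ (h' : i.V ≤ f ⁻¹ᵁ i.U) (c : Γ(X, i.V)), c • mres L h' s = mres L h' t →
        mres L h' t' = c • mres L h' s' := by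
      rintro s _ t _ rfl rfl h' c hc
      exact hc.symm
    exact key _ _ _ _ (genData_s hE hj h _ _ _) (genData_s hE hj h _ _ _) _ _ h2
  refine eq_pow_mul (𝒮.deg i.U i.hU) ψ.toRingHom
    ((𝒮L.str.app (op i.V)).hom.comp ((ores hV).hom.comp (G.psi i.U i.hU a₀))) (ψ (j.app i.U i.m))
    (isGenDegOne_of_isGrSymAlg hE hj i.U i.hU) (fun a ha => ?_) hdeg1
  obtain ⟨b, hb⟩ := SymAlg11.exists_eq_of_mem hLq hjL i.hV he (ψ.map_mem ha)
  rw [pow_zero, mul_one] at hb
  show ψ a = (𝒮L.str.app (op i.V)).hom (ores hV (G.psi i.U i.hU a₀ a))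
  have hb' : ψ a = (𝒮L.str.app (op i.V)).hom b := hb
  rw [hb']
  congr 1
  let c₀ : 𝒮.presheaf.obj (op i.U) := j.app i.U i.m
  have h1 : a * c₀ ∈ 𝒮.deg i.U i.hU 1 := by
    simpa using SetLike.mul_mem_graded ha (hj.2 i.U i.hU i.m)
  have h2 := hdeg1 _ h1
  have h0 : G.psi i.U i.hU a₀ c₀ = 1 := G.psi_self i.U i.hU a₀
  rw [map_mul, map_mul, h0, mul_one] at h2
  erw [hb', hc, mul_comm (SymAlg11.tgen jL i.V e)] at h2
  refine SymAlg11.str_mul_pow_inj hLq hjL i.hV he (n := 1) ?_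
  rwa [pow_one]

include hE hj hP hLq hjL hL hPL hu hr in
/-- The morphism is the one given by the sections. -/
theorem qMapOn_eq_toP (h : Gens φ) :
    r = (RelProj.domQ u pL chartL).ι ≫ pL ≫
      (genData hE hj h).toP (isGenDegOne_of_isGrSymAlg hE hj) hP := by
  let G := genData hE hj h
  have hgen := isGenDegOne_of_isGrSymAlg hE hj
  refine RelProj11.hom_ext_refine (c := fun i : GIdx φ => RelProj11.qC u pL chartL (i.toQ hj)) _
    (fun i => RelProj11.range_qC_subset _) (fun z _ => ?_) _ _ fun i => ?_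
  · obtain ⟨U₀, m₀, hm₀⟩ := h (pL z)
    obtain ⟨U, hU, hzU, -⟩ := exists_isAffineOpen_mem_and_subset (U := (⊤ : S.Opens)) (x := f (pL z)) trivial
    obtain ⟨m, hm⟩ := exists_mem_gl_of_nbhd hE φ hU hzU hm₀
    obtain ⟨V, hV, hzV, hVle⟩ := exists_isAffineOpen_mem_and_subset hm
    exact ⟨⟨U, hU, V, hV, m, hVle⟩, mem_range_qC_of_mem hj hLq hjL hL hPL hu U hU hV m hVle hzV⟩
  rw [RelProj11.lift_qC_comp hr (i.toQ hj), IsOpenImmersion.lift_fac_assoc]
  obtain ⟨U, hU, V, hV, m, hle⟩ := i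
  let a₀ := eqOne hE hj U hU m
  have hV' : V ≤ gl (G.s U hU a₀) := hle.trans (gl_congr (genData_s hE hj h U hU m)).ge
  have hι : hV.fromSpec ≫ G.toP hgen hP = hV.isoSpec.inv ≫ G.loc p chart ⟨⟨U, hU⟩, a₀⟩ hV' := by
    rw [← G.homOfLE_loc ⟨⟨U, hU⟩, a₀⟩ le_rfl hV', ← G.ι_toP hgen hP ⟨⟨U, hU⟩, a₀⟩,
      ← IsAffineOpen.isoSpec_inv_ι, Category.assoc, Scheme.homOfLE_ι_assoc]
  show _ = RelProj.awayEmb u pL chartL U hU V hV (hle.trans (gl_le _)) one_pos (j.app U m)
    (hj.2 U hU m) ≫ pL ≫ _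
  rw [RelProj.awayEmb, Category.assoc, reassoc_of% (SymAlg11.emb_comp hPL hV),
    Proj.awayι_toSpecZero_assoc, hι, GenData.loc, GenData.pmap, pm, Category.assoc,
    ← hV.isoSpec_hom, Iso.inv_hom_id_assoc, Category.assoc, ← Spec.map_comp_assoc, ← Spec.map_comp_assoc]
  show Spec.map _ ≫ Proj.awayι _ _ _ _ ≫ _ = _
  congr 2
  refine CommRingCat.hom_ext (RingHom.ext fun z => ?_)
  let c₀ : 𝒮.presheaf.obj (op U) := j.app U m
  have hc₀ : c₀ ∈ 𝒮.deg U hU 1 := hj.2 U hU m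
  obtain ⟨n, a, ha, rfl⟩ := Away.mk_surjective (𝒮.deg U hU) hc₀ z
  let φ' := (ores hV').hom.comp (G.psi U hU a₀)
  have h1 : φ' a₀.1 = 1 := by simp [φ', G.psi_self]
  have hc : chartUnit (𝒮.deg U hU) φ' (h1 ▸ isUnit_one) (Away.mk (𝒮.deg U hU) a₀.2 n a ha) = φ' a := by
    have := chartUnit_mk (𝒮.deg U hU) φ' (h1 ▸ isUnit_one) a₀.2 n a ha
    rwa [show φ' a₀.1 ^ n = 1 by rw [h1, one_pow], mul_one] at this
  show Away.map (u.gradedAt U hU V hV _) c₀ (Away.mk _ hc₀ n a ha) =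
    fromZeroRingHom _ _ ((𝒮L.strZero V hV).hom (chartUnit (𝒮.deg U hU) φ' _ (Away.mk (𝒮.deg U hU) a₀.2 n a ha)))
  rw [hc, Away.map_mk]
  apply HomogeneousLocalization.val_injective
  rw [Away.val_mk]
  show _ = Localization.mk ((𝒮L.str.app (op V)).hom (φ' a)) 1
  rw [Localization.mk_eq_mk_iff, Localization.r_iff_exists]
  refine ⟨1, ?_⟩
  simp only [OneMemClass.coe_one, one_mul]
  exact gradedAt_eq_pow_mul hE hj hLq hjL hu h ⟨U, hU, V, hV, m, hle⟩ hV' n a (by simpa using ha)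

include hE hj hP hLq hjL hL hPL hu hr in
/-- The criterion makes the morphism an immersion, everywhere defined. -/
theorem qMapOn_isImmersion_of_vamp (h : VAmp φ) :
    RelProj.domQ u pL chartL = ⊤ ∧ IsImmersion r := by
  have htop := domQ_eq_top_of_gens hE hj hLq hjL hL hPL hu h.gens
  refine ⟨htop, ?_⟩
  haveI := SymAlg11.isIso_pL hLq hjL hL hPL
  haveI : IsIso (RelProj.domQ u pL chartL).ι := by
    have : ∀ W : PL.Opens, W = ⊤ → IsIso W.ι := by
      rintro _ rfl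
      rw [← Scheme.topIso_hom]
      infer_instance
    exact this _ htop
  haveI := isImmersion_genData_toP hE hj hP h
  rw [qMapOn_eq_toP hE hj hP hLq hjL hL hPL hu hr h.gens]
  infer_instance

end qmap

end Groth.Agent.VA11
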