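import Groth.Agent.Lib.VeryAmple11.OfMorph
import Groth.Agent.Lib.VeryAmple11.Pm
import Groth.Agent.Lib.QAffImm12.Basic

/-!
A compatible family of generating sections gives a morphism into a relative `Proj`.
-/

set_option autoImplicit false

universe u

open CategoryTheory Limits AlgebraicGeometry TopologicalSpace Opposite
open scoped HomogeneousIdeal

set_option backward.isDefEq.respectTransparency false

noncomputable section

namespace Groth.Agent.VA11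

open Groth.Agent.M1

/-- Restriction in degree one. -/
def resOne {S : Scheme.{u}} (𝒮 : RelProj.QCGrAlg S) {U V : S.Opens} (hU : IsAffineOpen U) (hV : IsAffineOpen V)
    (h : V ≤ U) (a : 𝒮.deg U hU 1) : 𝒮.deg V hV 1 := ⟨𝒮.res hU hV h a.1, (𝒮.res hU hV h).map_mem a.2⟩

theorem resOne_coe {S : Scheme.{u}} (𝒮 : RelProj.QCGrAlg S) {U V : S.Opens} (hU : IsAffineOpen U)
    (hV : IsAffineOpen V) (h : V ≤ U) (a : 𝒮.deg U hU 1) : (resOne 𝒮 hU hV h a).1 = 𝒮.res hU hV h a.1 := rfl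

/-- Generating sections of `L` indexed by the degree one part, with their ratios multiplicative. -/
structure GenData {S X : Scheme.{u}} (f : X ⟶ S) (L : X.Modules) (𝒮 : RelProj.QCGrAlg S) where
  /-- the sections -/
  s : ∀ (U : S.Opens) (hU : IsAffineOpen U), 𝒮.deg U hU 1 → Γ(L, f ⁻¹ᵁ U)
  s_res : ∀ {U V : S.Opens} (hU : IsAffineOpen U) (hV : IsAffineOpen V) (h : V ≤ U) (a : 𝒮.deg U hU 1),
    mres L (f.preimage_mono h) (s U hU a) = s V hV (resOne 𝒮 hU hV h a)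
  cov : ∀ (U : S.Opens) (hU : IsAffineOpen U), ∀ x ∈ f ⁻¹ᵁ U, ∃ a, x ∈ gl (s U hU a)
  /-- the ratios -/
  psi : ∀ (U : S.Opens) (hU : IsAffineOpen U) (e : 𝒮.deg U hU 1),
    𝒮.presheaf.obj (op U) →+* Γ(X, gl (s U hU e))
  psi_one : ∀ (U : S.Opens) (hU : IsAffineOpen U) (e a : 𝒮.deg U hU 1),
    psi U hU e a.1 = cf (s U hU e) (s U hU a)
  psi_str : ∀ (U : S.Opens) (hU : IsAffineOpen U) (e : 𝒮.deg U hU 1) (r : Γ(S, U)),
    psi U hU e ((𝒮.str.app (op U)).hom r) = ores (gl_le (s U hU e)) (f.app U r)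

theorem ringHom_ext_deg {A σ T : Type*} [CommRing A] [SetLike σ A] [CommRing T] {𝒜 : ℕ → σ}
    (hgen : Subring.closure ((𝒜 0 : Set A) ∪ (𝒜 1 : Set A)) = ⊤) {φ φ' : A →+* T}
    (h0 : ∀ a ∈ 𝒜 0, φ a = φ' a) (h1 : ∀ a ∈ 𝒜 1, φ a = φ' a) : φ = φ' :=
  RingHom.ext fun a => RingHom.eqOn_set_closure (s := (𝒜 0 : Set A) ∪ (𝒜 1 : Set A))
    (fun b hb => hb.elim (h0 b) (h1 b)) (hgen ▸ Subring.mem_top a)

/-- Two morphisms out of an open subscheme agreeing locally agree. -/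
theorem hom_ext_nhds {X Z : Scheme.{u}} {A : X.Opens} {g g' : (A : Scheme.{u}) ⟶ Z}
    (h : ∀ x ∈ A, ∃ (V : X.Opens) (hV : V ≤ A), x ∈ V ∧ X.homOfLE hV ≫ g = X.homOfLE hV ≫ g') : g = g' := by
  choose V hV hx he using fun x : A => h x.1 x.2
  refine Scheme.Cover.hom_ext ((A : Scheme.{u}).openCoverOfIsOpenCover (fun x : A => A.ι ⁻¹ᵁ V x)
    (top_le_iff.1 fun z _ => Opens.mem_iSup.2 ⟨z, hx z⟩)) _ _ fun x => ?_
  show (A.ι ⁻¹ᵁ V x).ι ≫ g = (A.ι ⁻¹ᵁ V x).ι ≫ g'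
  let l : ((A.ι ⁻¹ᵁ V x : (A : Scheme.{u}).Opens) : Scheme.{u}) ⟶ V x := A.ι.resLE (V x) (A.ι ⁻¹ᵁ V x) le_rfl
  have hl : l ≫ X.homOfLE (hV x) = (A.ι ⁻¹ᵁ V x).ι := by
    rw [← cancel_mono A.ι]; simp [l]
  rw [← hl, Category.assoc, Category.assoc, he x]

namespace GenData

variable {S X : Scheme.{u}} {f : X ⟶ S} {L : X.Modules} {𝒮 : RelProj.QCGrAlg S} (G : GenData f L 𝒮)
  (hgen : 𝒮.IsGenDegOne)

theorem psi_self (U : S.Opens) (hU : IsAffineOpen U) (e : 𝒮.deg U hU 1) : G.psi U hU e e.1 = 1 :=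
  (G.psi_one U hU e e).trans (cf_self _)

theorem psi_zero (U : S.Opens) (hU : IsAffineOpen U) (e : 𝒮.deg U hU 1) {a : 𝒮.presheaf.obj (op U)}
    (ha : a ∈ 𝒮.deg U hU 0) :
    G.psi U hU e a = cf (G.s U hU e) (G.s U hU ⟨a * e.1, by simpa using SetLike.mul_mem_graded ha e.2⟩) := by
  have := G.psi_one U hU e ⟨a * e.1, by simpa using SetLike.mul_mem_graded ha e.2⟩
  rwa [map_mul, G.psi_self, mul_one] at this

theorem gl_s_res {U D : S.Opens} (hU : IsAffineOpen U) (hD : IsAffineOpen D) (h : D ≤ U) (e : 𝒮.deg U hU 1) :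
    gl (G.s D hD (resOne 𝒮 hU hD h e)) = gl (G.s U hU e) ⊓ f ⁻¹ᵁ D := by
  rw [← G.s_res hU hD h e, gl_mres]

theorem cf_res {U D : S.Opens} (hU : IsAffineOpen U) (hD : IsAffineOpen D) (h : D ≤ U) (e a : 𝒮.deg U hU 1)
    {V : X.Opens} (hV : V ≤ gl (G.s U hU e))
    (hV' : V ≤ gl (G.s D hD (resOne 𝒮 hU hD h e))) :
    ores hV' (cf (G.s D hD (resOne 𝒮 hU hD h e))
      (G.s D hD (resOne 𝒮 hU hD h a))) = ores hV (cf (G.s U hU e) (G.s U hU a)) := by
  refine ores_cf_eq hV' ?_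
  have := cf_smul_res (G.s U hU e) (G.s U hU a) hV
  simpa only [← G.s_res hU hD h, mres_mres] using this

include hgen in
theorem psi_res {U D : S.Opens} (hU : IsAffineOpen U) (hD : IsAffineOpen D) (h : D ≤ U) (e : 𝒮.deg U hU 1)
    {V : X.Opens} (hV : V ≤ gl (G.s U hU e))
    (hV' : V ≤ gl (G.s D hD (resOne 𝒮 hU hD h e))) (a : 𝒮.presheaf.obj (op U)) :
    ores hV (G.psi U hU e a) =
      ores hV' (G.psi D hD (resOne 𝒮 hU hD h e) (𝒮.res hU hD h a)) := by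
  refine RingHom.congr_fun (ringHom_ext_deg (φ := (ores hV).hom.comp (G.psi U hU e))
    (φ' := ((ores hV').hom.comp (G.psi D hD (resOne 𝒮 hU hD h e))).comp
      (𝒮.presheaf.map (homOfLE h).op).hom) (hgen U hU) (fun a ha => ?_) fun a ha => ?_) a
  · have h1 : a * e.1 ∈ 𝒮.deg U hU 1 := by simpa using SetLike.mul_mem_graded ha e.2
    show ores hV (G.psi U hU e a) = ores hV' (G.psi D hD _ (𝒮.res hU hD h a))
    refine Eq.trans ?_ (congrArg (ores hV') (G.psi_zero D hD _ ((𝒮.res hU hD h).map_mem ha)).symm)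
    rw [G.psi_zero U hU e ha, ← G.cf_res hU hD h e ⟨a * e.1, h1⟩ hV hV']
    congr 3
    exact Subtype.ext (map_mul (𝒮.res hU hD h) a e.1)
  · show ores hV (G.psi U hU e a) = ores hV' (G.psi D hD _ (𝒮.res hU hD h a))
    refine Eq.trans ?_ (congrArg (ores hV') (G.psi_one D hD _ (resOne 𝒮 hU hD h ⟨a, ha⟩))).symm
    rw [G.psi_one U hU e ⟨a, ha⟩, G.cf_res hU hD h e ⟨a, ha⟩ hV hV']

theorem isUnit_cf (U : S.Opens) (hU : IsAffineOpen U) (e e' : 𝒮.deg U hU 1) {V : X.Opens}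
    (he : V ≤ gl (G.s U hU e)) (he' : V ≤ gl (G.s U hU e')) :
    IsUnit (ores he (cf (G.s U hU e) (G.s U hU e'))) :=
  IsUnit.of_mul_eq_one_right (ores he' (cf (G.s U hU e') (G.s U hU e)))
    (by rw [ores_cf_mul, cf_self, map_one])

include hgen in
theorem psi_scale (U : S.Opens) (hU : IsAffineOpen U) (e e' : 𝒮.deg U hU 1) {V : X.Opens}
    (he : V ≤ gl (G.s U hU e)) (he' : V ≤ gl (G.s U hU e')) :
    ∀ n, ∀ a ∈ 𝒮.deg U hU n, ores he (G.psi U hU e a) =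
      ores he (cf (G.s U hU e) (G.s U hU e')) ^ n * ores he' (G.psi U hU e' a) := by
  refine eq_pow_mul (𝒮.deg U hU) ((ores he).hom.comp (G.psi U hU e)) ((ores he').hom.comp (G.psi U hU e'))
    (ores he (cf (G.s U hU e) (G.s U hU e'))) (hgen U hU) (fun a ha => ?_) fun a ha => ?_
  · show ores he (G.psi U hU e a) = ores he' (G.psi U hU e' a)
    let c := ores he (cf (G.s U hU e) (G.s U hU e'))
    have h1 : a * e'.1 ∈ 𝒮.deg U hU 1 := by simpa using SetLike.mul_mem_graded ha e'.2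
    have h2 := G.psi_one U hU e ⟨a * e'.1, h1⟩
    rw [map_mul, G.psi_one U hU e e'] at h2
    refine ((G.isUnit_cf U hU e e' he he').mul_left_inj).1 ?_
    rw [← map_mul, h2, G.psi_zero U hU e' ha, ores_cf_mul]
  · show ores he (G.psi U hU e a) = _ * ores he' (G.psi U hU e' a)
    rw [G.psi_one U hU e ⟨a, ha⟩, G.psi_one U hU e' ⟨a, ha⟩, mul_comm, ores_cf_mul]

/-- The morphism into the chart over `U` given on the generating locus of one section. -/
def pmap (U : S.Opens) (hU : IsAffineOpen U) (e : 𝒮.deg U hU 1) {V : X.Opens} (h : V ≤ gl (G.s U hU e)) :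
    (V : Scheme.{u}) ⟶ Proj (𝒮.deg U hU) :=
  pm (𝒮.deg U hU) e.2 one_pos ((ores h).hom.comp (G.psi U hU e)) (by
    simp [G.psi_self])

theorem homOfLE_pmap (U : S.Opens) (hU : IsAffineOpen U) (e : 𝒮.deg U hU 1) {V V' : X.Opens}
    (h : V ≤ gl (G.s U hU e)) (h' : V' ≤ V) :
    X.homOfLE h' ≫ G.pmap U hU e h = G.pmap U hU e (h'.trans h) :=
  homOfLE_pm (𝒮.deg U hU) e.2 one_pos _ _ h' _ (fun a => (ores_ores h h' (G.psi U hU e a)).symm) _

include hgen in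
theorem pmap_eq (U : S.Opens) (hU : IsAffineOpen U) (e e' : 𝒮.deg U hU 1) {V : X.Opens}
    (he : V ≤ gl (G.s U hU e)) (he' : V ≤ gl (G.s U hU e')) : G.pmap U hU e he = G.pmap U hU e' he' := by
  let φ := (ores he).hom.comp (G.psi U hU e)
  let φ' := (ores he').hom.comp (G.psi U hU e')
  have hu : IsUnit (φ (e.1 * e'.1)) := by
    simp only [φ, RingHom.comp_apply, map_mul, G.psi_self, map_one, one_mul]
    rw [G.psi_one]; exact G.isUnit_cf U hU e e' he he'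
  have hu' : IsUnit (φ' (e.1 * e'.1)) := by
    simp only [φ', RingHom.comp_apply, map_mul, G.psi_self, map_one, mul_one]
    rw [G.psi_one]; exact G.isUnit_cf U hU e' e he' he
  have hd : e.1 * e'.1 ∈ 𝒮.deg U hU (1 + 1) := SetLike.mul_mem_graded e.2 e'.2
  have h1 := pm_mul (𝒮.deg U hU) e.2 one_pos φ (by simp [φ, G.psi_self]) e'.2 rfl hd hu
  have h2 := pm_mul (𝒮.deg U hU) e'.2 one_pos φ' (by simp [φ', G.psi_self]) e.2 (mul_comm _ _) hd hu'
  rw [pmap, pmap, ← h1, ← h2]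
  exact pm_scale (𝒮.deg U hU) hd _ φ hu φ' hu' _ (G.psi_scale hgen U hU e e' he he')

section morphism

variable {P : Scheme.{u}} {p : P ⟶ S}
  {chart : ∀ (U : S.Opens) (hU : IsAffineOpen U), ((p ⁻¹ᵁ U : P.Opens) : Scheme.{u}) ≅ Proj (𝒮.deg U hU)}
  (hP : RelProj.IsRelProj 𝒮 p chart)

include hgen hP in
theorem pmap_res {U D : S.Opens} (hU : IsAffineOpen U) (hD : IsAffineOpen D) (hUD : RelProj11.IsBasic U D)
    (e : 𝒮.deg U hU 1) {V : X.Opens} (h : V ≤ gl (G.s U hU e))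
    (h' : V ≤ gl (G.s D hD (resOne 𝒮 hU hD hUD.le e))) :
    G.pmap U hU e h ≫ RelProj.emb p chart U hU =
      G.pmap D hD (resOne 𝒮 hU hD hUD.le e) h' ≫
        RelProj.emb p chart D hD := by
  have h0 := pm_comp_map (𝒮.deg U hU) e.2 one_pos ((ores h).hom.comp (G.psi U hU e))
    (by simp [G.psi_self]) (𝒮.res hU hD hUD.le) (hUD.irrelevant hU hD)
    ((ores h').hom.comp (G.psi D hD (resOne 𝒮 hU hD hUD.le e))) (fun a => G.psi_res hgen hU hD hUD.le e h h' a)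
    (by
      refine IsUnit.map (ores h').hom (Eq.subst (motive := IsUnit) (G.psi_self D hD (resOne 𝒮 hU hD hUD.le e)).symm
        isUnit_one))
  rw [pmap, pmap, ← h0, Category.assoc, RelProj11.map_res_emb' hP hU hD hUD]

/-- Index of the cover of the source. -/
abbrev Idx (𝒮 : RelProj.QCGrAlg S) := Σ U : S.affineOpens, 𝒮.deg U.1 U.2 1

/-- The cover of the source. -/
abbrev opn (i : Idx 𝒮) : X.Opens := gl (G.s i.1.1 i.1.2 i.2)

theorem iSup_opn : (⨆ i, G.opn i) = ⊤ := top_le_iff.1 fun x _ => by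
  obtain ⟨U, hU, hx, -⟩ := exists_isAffineOpen_mem_and_subset (show f x ∈ (⊤ : S.Opens) from trivial)
  obtain ⟨a, ha⟩ := G.cov U hU x hx
  exact Opens.mem_iSup.2 ⟨⟨⟨U, hU⟩, a⟩, ha⟩

/-- The morphism on a member of the cover. -/
def loc (p : P ⟶ S)
    (chart : ∀ (U : S.Opens) (hU : IsAffineOpen U), ((p ⁻¹ᵁ U : P.Opens) : Scheme.{u}) ≅ Proj (𝒮.deg U hU))
    (i : Idx 𝒮) {V : X.Opens} (h : V ≤ G.opn i) : (V : Scheme.{u}) ⟶ P :=
  G.pmap i.1.1 i.1.2 i.2 h ≫ RelProj.emb p chart i.1.1 i.1.2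

theorem homOfLE_loc (i : Idx 𝒮) {V V' : X.Opens} (h : V ≤ G.opn i) (h' : V' ≤ V) :
    X.homOfLE h' ≫ G.loc p chart i h = G.loc p chart i (h'.trans h) := by
  rw [loc, ← Category.assoc, homOfLE_pmap]; rfl

include hgen hP in
theorem loc_eq (i j : Idx 𝒮) {V : X.Opens} (hi : V ≤ G.opn i) (hj : V ≤ G.opn j) :
    G.loc p chart i hi = G.loc p chart j hj := by
  refine hom_ext_nhds fun x hx => ?_
  obtain ⟨⟨U, hU⟩, e⟩ := i
  obtain ⟨⟨U', hU'⟩, e'⟩ := j
  obtain ⟨D, hD, hUD, hUD', hxD⟩ := RelProj11.exists_common_basic hU hU' (f x)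
    ⟨gl_le (G.s U hU e) (hi hx), gl_le (G.s U' hU' e') (hj hx)⟩
  let V' := V ⊓ f ⁻¹ᵁ D
  refine ⟨V', inf_le_left, ⟨hx, hxD⟩, ?_⟩
  have h1 : V' ≤ gl (G.s D hD (resOne 𝒮 hU hD hUD.le e)) := by
    rw [G.gl_s_res hU hD hUD.le e]; exact inf_le_inf_right _ hi
  have h2 : V' ≤ gl (G.s D hD (resOne 𝒮 hU' hD hUD'.le e')) := by
    rw [G.gl_s_res hU' hD hUD'.le e']; exact inf_le_inf_right _ hj
  rw [homOfLE_loc, homOfLE_loc, loc, loc, G.pmap_res hgen hP hU hD hUD e _ h1,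
    G.pmap_res hgen hP hU' hD hUD' e' _ h2, G.pmap_eq hgen D hD _ _ h1 h2]

include hgen hP in
theorem exists_morphism : ∃ r : X ⟶ P, ∀ i, (G.opn i).ι ≫ r = G.loc p chart i le_rfl := by
  let C := X.openCoverOfIsOpenCover G.opn G.iSup_opn
  refine ⟨C.glueMorphisms (fun i => G.loc p chart i le_rfl) fun i j => ?_,
    fun i => Scheme.Cover.ι_glueMorphisms C _ _ i⟩
  refine (cancel_epi (isPullback_opens_inf (G.opn i) (G.opn j)).isoPullback.hom).mp ?_
  change _ ≫ pullback.fst (G.opn i).ι (G.opn j).ι ≫ _ = _ ≫ pullback.snd (G.opn i).ι (G.opn j).ι ≫ _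
  rw [IsPullback.isoPullback_hom_fst_assoc, IsPullback.isoPullback_hom_snd_assoc, homOfLE_loc, homOfLE_loc]
  exact G.loc_eq hgen hP i j _ _

/-- The morphism given by the data. -/
def toP : X ⟶ P := (G.exists_morphism hgen hP).choose

theorem ι_toP (i : Idx 𝒮) : (G.opn i).ι ≫ G.toP hgen hP = G.loc p chart i le_rfl :=
  (G.exists_morphism hgen hP).choose_spec i

theorem toP_comp : G.toP hgen hP ≫ p = f := by
  refine Scheme.Cover.hom_ext (X.openCoverOfIsOpenCover G.opn G.iSup_opn) _ _ fun i => ?_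
  show (G.opn i).ι ≫ G.toP hgen hP ≫ p = (G.opn i).ι ≫ f
  obtain ⟨⟨U, hU⟩, e⟩ := i
  have hle : G.opn ⟨⟨U, hU⟩, e⟩ ≤ f ⁻¹ᵁ U := gl_le _
  rw [← Category.assoc, ι_toP, loc, Category.assoc,
    show RelProj.emb p chart U hU ≫ p = Proj.toSpecZero (𝒮.deg U hU) ≫ Spec.map (𝒮.strZero U hU) ≫ hU.fromSpec from by
      rw [RelProj.emb, Category.assoc, ← hP.chart_over U hU, Iso.inv_hom_id_assoc],
    pmap, ← Category.assoc, ← Category.assoc, Category.assoc (pm _ _ _ _ _),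
    pm_toSpecZero (𝒮.deg U hU) e.2 one_pos _ _ (𝒮.strZero U hU) (f.appLE U _ hle) (fun r => by
      refine Eq.trans (ores_id _ _) ?_
      exact G.psi_str U hU e r),
    Scheme.Opens.toSpecΓ_SpecMap_appLE, Category.assoc, IsAffineOpen.toSpecΓ_fromSpec,
    Scheme.Hom.resLE_comp_ι]

theorem toP_appLE (U : S.Opens) (hU : IsAffineOpen U) (e : 𝒮.deg U hU 1)
    (h : gl (G.s U hU e) ≤ G.toP hgen hP ⁻¹ᵁ dd p chart U hU e.1) (a : 𝒮.presheaf.obj (op U)) :
    (G.toP hgen hP).appLE (dd p chart U hU e.1) (gl (G.s U hU e)) h (rat p chart U hU e.2 a) =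
      G.psi U hU e a := by
  let W := gl (G.s U hU e)
  let B := Proj.basicOpen (𝒮.deg U hU) e.1
  have hW : (⊤ : (W : Scheme.{u}).Opens) ≤ W.ι ⁻¹ᵁ W := W.ι_preimage_self.ge
  have hB : B ≤ RelProj.emb p chart U hU ⁻¹ᵁ dd p chart U hU e.1 := (preimage_dd U hU e.1).ge
  have ht : (⊤ : (W : Scheme.{u}).Opens) ≤ G.pmap U hU e le_rfl ⁻¹ᵁ B := range_pm_le _ _ _ _ _
  refine (ConcreteCategory.bijective_of_isIso W.topIso.inv).1 ?_
  have e1 : (G.toP hgen hP).appLE _ W h ≫ W.ι.appLE W ⊤ hW =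
      (RelProj.emb p chart U hU).appLE (dd p chart U hU e.1) B hB ≫ (G.pmap U hU e le_rfl).appLE B ⊤ ht := by
    rw [Scheme.Hom.appLE_comp_appLE, Scheme.Hom.appLE_comp_appLE]
    congr 1
    exact G.ι_toP hgen hP ⟨⟨U, hU⟩, e⟩
  have e2 : W.ι.appLE W ⊤ hW = W.topIso.inv := by
    simp; rfl
  have e3 := ConcreteCategory.congr_hom e1 (rat p chart U hU e.2 a)
  rw [ConcreteCategory.comp_apply, ConcreteCategory.comp_apply, e2] at e3
  refine e3.trans ?_
  have e4 : (RelProj.emb p chart U hU).appLE (dd p chart U hU e.1) B hB (rat p chart U hU e.2 a) =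
      Proj.awayToSection (𝒮.deg U hU) e.1 (dh (𝒮.deg U hU) e.2 a) := by
    rw [Scheme.Hom.appLE, ConcreteCategory.comp_apply, app_rat]
    exact (ores_ores _ _ _).trans (ores_id _ _)
  rw [e4]
  refine (pm_appLE _ _ _ _ _ _).trans ?_
  congr 1
  have h3 := chartUnit_dh (𝒮.deg U hU) ((ores (le_refl W)).hom.comp (G.psi U hU e)) e.2
    (by rw [RingHom.comp_apply, G.psi_self]; exact map_one _) a
  refine h3.trans ?_
  exact ores_id _ _

theorem preimage_dd_toP (U : S.Opens) (hU : IsAffineOpen U) (a : 𝒮.deg U hU 1) :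
    G.toP hgen hP ⁻¹ᵁ dd p chart U hU a.1 = gl (G.s U hU a) := by
  let r := G.toP hgen hP
  have hrp := G.toP_comp hgen hP
  have hsub : ∀ (U : S.Opens) (hU : IsAffineOpen U) (e : 𝒮.deg U hU 1),
      gl (G.s U hU e) ≤ r ⁻¹ᵁ dd p chart U hU e.1 := fun U hU e x hx => by
    have h1 := congrArg (fun m : (G.opn ⟨⟨U, hU⟩, e⟩ : Scheme.{u}) ⟶ P => m ⟨x, hx⟩) (G.ι_toP hgen hP ⟨⟨U, hU⟩, e⟩)
    simp only [loc, Scheme.Hom.comp_apply] at h1
    show r x ∈ dd p chart U hU e.1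
    refine ⟨G.pmap U hU e le_rfl ⟨x, hx⟩, ?_, h1.symm⟩
    have hm : (⊤ : (gl (G.s U hU e) : Scheme.{u}).Opens) ≤
        G.pmap U hU e le_rfl ⁻¹ᵁ Proj.basicOpen (𝒮.deg U hU) e.1 := range_pm_le _ _ _ _ _
    exact hm (trivial : (⟨x, hx⟩ : gl (G.s U hU e)) ∈ (⊤ : (gl (G.s U hU e) : Scheme.{u}).Opens))
  refine le_antisymm (fun x hx => ?_) (hsub U hU a)
  have hxU : x ∈ f ⁻¹ᵁ U := by
    rw [← hrp, Scheme.Hom.comp_preimage]
    exact dd_le (p := p) (chart := chart) U hU a.1 hx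
  obtain ⟨e, he⟩ := G.cov U hU x hxU
  have h1 : r x ∈ dd p chart U hU e.1 ⊓ dd p chart U hU a.1 := ⟨hsub U hU e he, hx⟩
  have h2 : r x ∈ P.basicOpen (rat p chart U hU e.2 a.1) := by
    obtain ⟨⟨y, hy, hyx⟩, ⟨y', hy', hyx'⟩⟩ := h1
    obtain rfl : y = y' := (RelProj.emb p chart U hU).isOpenEmbedding.injective (hyx.trans hyx'.symm)
    rw [← hyx]
    show y ∈ RelProj.emb p chart U hU ⁻¹ᵁ P.basicOpen (rat p chart U hU e.2 a.1)
    rw [Scheme.preimage_basicOpen, app_rat, basicOpen_ores, dh_of_mem _ e.2 a.2]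
    refine ⟨(preimage_dd U hU e.1).ge hy, ?_⟩
    rw [GrTw11.basicOpen_awayToSection _ one_pos e.2 (b := a.1) (j := 1) (by simpa using a.2), Proj.basicOpen_mul]
    exact ⟨hy, hy'⟩
  have h3 : x ∈ gl (G.s U hU e) ⊓ r ⁻¹ᵁ P.basicOpen (rat p chart U hU e.2 a.1) := ⟨he, h2⟩
  rw [Scheme.preimage_basicOpen, ← basicOpen_ores (hsub U hU e)] at h3
  have h4 : ores (hsub U hU e) (r.app _ (rat p chart U hU e.2 a.1)) = cf (G.s U hU e) (G.s U hU a) := by
    refine Eq.trans ?_ (G.psi_one U hU e a)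
    refine Eq.trans ?_ (G.toP_appLE hgen hP U hU e (hsub U hU e) a.1)
    rw [Scheme.Hom.appLE, ConcreteCategory.comp_apply]
  rw [h4, ← gl_inf_gl] at h3
  exact h3.2

theorem app_rat_toP (U : S.Opens) (hU : IsAffineOpen U) (e : 𝒮.deg U hU 1) (a : 𝒮.presheaf.obj (op U)) :
    ores (G.preimage_dd_toP hgen hP U hU e).ge ((G.toP hgen hP).app _ (rat p chart U hU e.2 a)) =
      G.psi U hU e a := by
  rw [← G.toP_appLE hgen hP U hU e (G.preimage_dd_toP hgen hP U hU e).ge a, Scheme.Hom.appLE,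
    ConcreteCategory.comp_apply]

section twist

variable {O1 : P.Modules}
  {lam : ∀ (U : S.Opens) (hU : IsAffineOpen U),
    O1 ⟶ (Scheme.Modules.pushforward (RelProj.emb p chart U hU)).obj (GrTwist.twist (𝒮.deg U hU) 1)}
  (hL : RelProj.IsRelTwist 𝒮 p chart 1 O1 lam)

/-- The inverse image of the section given by a degree one element. -/
def pgen (i : Idx 𝒮) : Γ((Scheme.Modules.pullback (G.toP hgen hP)).obj O1, G.opn i) :=
  mres _ (G.preimage_dd_toP hgen hP i.1.1 i.1.2 i.2).ge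
    (M2.pullSec (G.toP hgen hP) O1 (mres O1 (dd_le i.1.1 i.1.2 i.2.1) (phi hL i.1.1 i.1.2 i.2.1 i.2.2)))

theorem isGen_pgen (i : Idx 𝒮) : Twist.IsGen _ (G.opn i) (G.pgen hgen hP hL i) :=
  (Twist.IsGen.pullback _ (isGen_phi hL i.1.1 i.1.2 i.2.2)).mres _

theorem sameTransition : Twist.SameTransition (G.opn) (G.pgen hgen hP hL)
    (fun i => mres L (gl_le (G.s i.1.1 i.1.2 i.2)) (G.s i.1.1 i.1.2 i.2)) := by
  intro i j V hi hj t ht
  obtain ⟨⟨U, hU⟩, e⟩ := i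
  obtain ⟨⟨U', hU'⟩, e'⟩ := j
  let r := G.toP hgen hP
  choose D hD hUD hUD' hxD using fun x : V => RelProj11.exists_common_basic hU hU' (f x.1)
    ⟨gl_le (G.s U hU e) (hi x.2), gl_le (G.s U' hU' e') (hj x.2)⟩
  refine modules_eq_of_locally_eq L V (fun x : V => V ⊓ f ⁻¹ᵁ D x) (fun x => inf_le_left)
    (fun z hz => Opens.mem_iSup.2 ⟨⟨z, hz⟩, hz, hxD ⟨z, hz⟩⟩) _ _ fun x => ?_
  let W := V ⊓ f ⁻¹ᵁ D x
  let ed : 𝒮.deg (D x) (hD x) 1 := resOne 𝒮 hU (hD x) (hUD x).le e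
  let ed' : 𝒮.deg (D x) (hD x) 1 := resOne 𝒮 hU' (hD x) (hUD' x).le e'
  have hW : W ≤ gl (G.s (D x) (hD x) ed) := by
    rw [G.gl_s_res hU (hD x) (hUD x).le e]; exact inf_le_inf_right _ hi
  have hW' : W ≤ gl (G.s (D x) (hD x) ed') := by
    rw [G.gl_s_res hU' (hD x) (hUD' x).le e']; exact inf_le_inf_right _ hj
  have hpre : W ≤ r ⁻¹ᵁ (p ⁻¹ᵁ D x) := by
    rw [← Scheme.Hom.comp_preimage, G.toP_comp hgen hP]; exact inf_le_right
  have hrew : ∀ (U : S.Opens) (hU : IsAffineOpen U) (e : 𝒮.deg U hU 1) (hUD : RelProj11.IsBasic U (D x))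
      (h1 : W ≤ G.opn ⟨⟨U, hU⟩, e⟩),
      mres _ h1 (G.pgen hgen hP hL ⟨⟨U, hU⟩, e⟩) = mres _ hpre (M2.pullSec r O1
        (phi hL (D x) (hD x) (resOne 𝒮 hU (hD x) hUD.le e).1 (resOne 𝒮 hU (hD x) hUD.le e).2)) := by
    intro U hU e hUD h1
    simp only [resOne_coe]
    rw [← phi_res_basic hL hP hU (hD x) hUD e.2, pgen, ← mres_pullSec r, ← mres_pullSec r, mres_mres, mres_mres,
      mres_mres]
  have h1 : W ≤ G.opn ⟨⟨U, hU⟩, e⟩ := inf_le_left.trans hi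
  have h2 : W ≤ G.opn ⟨⟨U', hU'⟩, e'⟩ := inf_le_left.trans hj
  have ht' := congrArg (mres _ (inf_le_left : W ≤ V)) ht
  rw [mres_smul, mres_mres, mres_mres, hrew U' hU' e' (hUD' x) h2, hrew U hU e (hUD x) h1] at ht'
  have hdd : W ≤ r ⁻¹ᵁ dd p chart (D x) (hD x) ed.1 := hW.trans (G.preimage_dd_toP hgen hP _ _ ed).ge
  have hkey := congrArg (fun z => mres ((Scheme.Modules.pullback r).obj O1) hdd (M2.pullSec r O1 z))
    (phi_eq_rat_smul (p := p) (chart := chart) hL (D x) (hD x) ed.2 ed'.2)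
  simp only [M2.pullSec_smul, ← mres_pullSec r, mres_smul, mres_mres] at hkey
  have hc : ores hdd (r.app _ (rat p chart (D x) (hD x) ed.2 ed'.1)) =
      ores hW (cf (G.s (D x) (hD x) ed) (G.s (D x) (hD x) ed')) := by
    have := congrArg (ores hW) (G.app_rat_toP hgen hP (D x) (hD x) ed ed'.1)
    rwa [ores_ores, G.psi_one] at this
  have hgW : Twist.IsGen ((Scheme.Modules.pullback r).obj O1) W
      (mres _ hpre (M2.pullSec r O1 (phi hL (D x) (hD x) ed.1 ed.2))) := by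
    rw [← hrew U hU e (hUD x) h1]; exact (G.isGen_pgen hgen hP hL _).mres h1
  have htc : ores (inf_le_left : W ≤ V) t = ores hW (cf (G.s (D x) (hD x) ed) (G.s (D x) (hD x) ed')) := by
    refine (hgW W le_rfl).1 ?_
    show _ • mres _ le_rfl _ = _ • mres _ le_rfl _
    rw [mres_id, ← ht', hkey, hc]
  rw [mres_smul, mres_mres, mres_mres, mres_mres, mres_mres]
  have hsU := congrArg (mres L (inf_le_right : W ≤ f ⁻¹ᵁ D x)) (G.s_res hU (hD x) (hUD x).le e)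
  have hsU' := congrArg (mres L (inf_le_right : W ≤ f ⁻¹ᵁ D x)) (G.s_res hU' (hD x) (hUD' x).le e')
  rw [mres_mres] at hsU hsU'
  rw [hsU, hsU', htc]
  exact (cf_smul_res _ _ hW).symm

theorem exists_iso : ∃ τ : (Scheme.Modules.pullback (G.toP hgen hP)).obj O1 ≅ L,
    ∀ i, τ.hom.app (G.opn i) (G.pgen hgen hP hL i) = mres L (gl_le _) (G.s i.1.1 i.1.2 i.2) :=
  Twist.exists_iso_of_gen G.opn G.iSup_opn _ _ (G.isGen_pgen hgen hP hL) (fun _ => isGen_gl _)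
    (G.sameTransition hgen hP hL)

end twist

/-- The criterion makes the morphism an immersion. -/
theorem isImmersion_toP
    (hVA : ∀ x : X, ∃ (U : S.Opens) (hU : IsAffineOpen U), VAat (f.app U).hom (G.s U hU) x) :
    IsImmersion (G.toP hgen hP) := by
  let r := G.toP hgen hP
  have key : ∀ x : X, ∃ O : P.Opens, x ∈ r ⁻¹ᵁ O ∧ IsClosedImmersion (r ∣_ O) := by
    intro x
    obtain ⟨U, hU, e, b, hb, hxb, hA, hfr⟩ := hVA x
    have hrange : ∀ c ∈ ratSub (f.app U).hom (G.s U hU) e, ∃ a, G.psi U hU e a = c := fun c hc =>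
      map_ratSub_le (RingHom.id _) (G.psi U hU e).range
        (fun r => ⟨(𝒮.str.app (op U)).hom r, G.psi_str U hU e r⟩)
        (fun k => ⟨k.1, G.psi_one U hU e k⟩) hc
    obtain ⟨a, rfl⟩ := hrange b hb
    let D := dd p chart U hU e.1
    let ρ := rat p chart U hU e.2 a
    have hgl := G.preimage_dd_toP hgen hP U hU e
    have hD : IsAffineOpen D :=
      (Proj.isAffineOpen_basicOpen (𝒮.deg U hU) e.1 e.2 one_pos).image_of_isOpenImmersion _
    have : IsAffine (P.basicOpen ρ : Scheme.{u}) := hD.basicOpen ρ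
    have hpre : r ⁻¹ᵁ P.basicOpen ρ = X.basicOpen (G.psi U hU e a) := by
      rw [Scheme.preimage_basicOpen, ← G.app_rat_toP hgen hP U hU e a, basicOpen_ores, inf_eq_right.2]
      exact (X.basicOpen_le _).trans hgl.le
    refine ⟨P.basicOpen ρ, hpre.ge hxb, ?_⟩
    have : IsAffine (r ⁻¹ᵁ P.basicOpen ρ : Scheme.{u}) := hpre ▸ hA
    refine IsClosedImmersion.of_surjective_of_isAffine _ ?_
    have hsurj : Function.Surjective (r.appLE (P.basicOpen ρ) (X.basicOpen (G.psi U hU e a)) hpre.ge) := by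
      intro t
      obtain ⟨k, a', ha', hk⟩ : t ∈ fracs (ores (X.basicOpen_le (G.psi U hU e a))).hom
          (ratSub (f.app U).hom (G.s U hU) e) (G.psi U hU e a) hb := hfr ▸ Subring.mem_top t
      obtain ⟨c, rfl⟩ := hrange a' ha'
      have hu : IsUnit (ores (P.basicOpen_le ρ) ρ) := P.toRingedSpace.isUnit_res_basicOpen ρ
      obtain ⟨w, hw⟩ := hu
      have hnat : ∀ z : 𝒮.presheaf.obj (op U),
          r.appLE (P.basicOpen ρ) (X.basicOpen (G.psi U hU e a)) hpre.ge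
            (ores (P.basicOpen_le ρ) (rat p chart U hU e.2 z)) =
          ores (X.basicOpen_le (G.psi U hU e a)) (G.psi U hU e z) := fun z => by
        rw [← G.app_rat_toP hgen hP U hU e z, ores_ores, ← ConcreteCategory.comp_apply, Scheme.Hom.map_appLE]
        rfl
      refine ⟨ores (P.basicOpen_le ρ) (rat p chart U hU e.2 c) * (↑w⁻¹ : Γ(P, P.basicOpen ρ)) ^ k, ?_⟩
      have h1 : r.appLE _ _ hpre.ge (↑w : Γ(P, P.basicOpen ρ)) =
          ores (X.basicOpen_le (G.psi U hU e a)) (G.psi U hU e a) := by rw [hw]; exact hnat a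
      rw [map_mul, map_pow, hnat]
      show ores _ (G.psi U hU e c) * _ = t
      rw [← show t * _ = ores _ (G.psi U hU e c) from hk]
      show t * ores _ (G.psi U hU e a) ^ k * _ = t
      rw [← h1, mul_assoc, ← mul_pow, ← map_mul, Units.mul_inv, map_one, one_pow, mul_one]
    rw [morphismRestrict_appTop, Scheme.Hom.app_eq_appLE, Scheme.Hom.appLE_map]
    have key : ∀ (E : P.Opens) (D : X.Opens) (h₀ : D ≤ r ⁻¹ᵁ E) (E' : P.Opens) (D' : X.Opens)
        (h₁ : D' ≤ r ⁻¹ᵁ E'), E = E' → D = D' → Function.Surjective (r.appLE E D h₀) →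
        Function.Surjective (r.appLE E' D' h₁) := fun E D h₀ E' D' h₁ e1 e2 h => by subst e1 e2; exact h
    exact key _ _ _ _ _ _ (Scheme.Opens.ι_image_top _).symm
      (hpre.symm.trans (Scheme.Opens.ι_image_top _).symm) hsurj
  choose O hxO hO using key
  exact QAffImm12.isImmersion_of_opens r O
    (top_le_iff.1 fun x _ => Opens.mem_iSup.2 ⟨x, hxO x⟩) hO

end morphism

end GenData

end Groth.Agent.VA11
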