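import Groth.Agent.Lib.VeryAmple11.QMapEval
import Groth.Agent.Lib.RelProj11.TwistPullback
import Groth.Agent.Lib.SymAlg11.LinePow

/-!
The inverse image of `O(n)` under the morphism attached to an ample module is its `n`-th power.
-/

set_option autoImplicit false

universe u

open CategoryTheory Limits AlgebraicGeometry TopologicalSpace Opposite HomogeneousLocalization
open scoped HomogeneousIdeal

set_option backward.isDefEq.respectTransparency false

noncomputable section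

namespace Groth.Agent.VA11

open Groth.Agent.M1

section twist

variable {S P : Scheme.{u}} {𝒮 : RelProj.QCGrAlg S} {p : P ⟶ S}
  {chart : ∀ (U : S.Opens) (hU : IsAffineOpen U), ((p ⁻¹ᵁ U : P.Opens) : Scheme.{u}) ≅ Proj (𝒮.deg U hU)}
  {n : ℤ} {On : P.Modules}
  {lam : ∀ (U : S.Opens) (hU : IsAffineOpen U),
    On ⟶ (Scheme.Modules.pushforward (RelProj.emb p chart U hU)).obj (GrTwist.twist (𝒮.deg U hU) n)}
  (hO : RelProj.IsRelTwist 𝒮 p chart n On lam) (hP : RelProj.IsRelProj 𝒮 p chart)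

/-- The value of a section of `O(n)` at a point of a chart. -/
abbrev nval (lam : ∀ (U : S.Opens) (hU : IsAffineOpen U),
    On ⟶ (Scheme.Modules.pushforward (RelProj.emb p chart U hU)).obj (GrTwist.twist (𝒮.deg U hU) n))
    (U : S.Opens) (hU : IsAffineOpen U) {W : P.Opens} (s : Γ(On, W)) (y : Proj (𝒮.deg U hU))
    (hy : y ∈ RelProj.emb p chart U hU ⁻¹ᵁ W) : GrTwist.Loc (𝒮.deg U hU) y :=
  GrTw11.val (n := n) (U := RelProj.emb p chart U hU ⁻¹ᵁ W) ((lam U hU).app W s) y hy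

theorem nval_mres (U : S.Opens) (hU : IsAffineOpen U) {W W' : P.Opens} (h : W' ≤ W) (s : Γ(On, W))
    (y : Proj (𝒮.deg U hU)) (hy : y ∈ RelProj.emb p chart U hU ⁻¹ᵁ W') :
    nval lam U hU (mres On h s) y hy = nval lam U hU s y (Scheme.Hom.preimage_mono _ h hy) := by
  rw [nval, nval, app_mres]
  rfl

include hO in
/-- A fraction is a section. -/
theorem exists_nval_frac (U : S.Opens) (hU : IsAffineOpen U) {W : P.Opens} (hW : W ≤ p ⁻¹ᵁ U) {i k : ℕ}
    {a s : 𝒮.presheaf.obj (op U)} (ha : a ∈ 𝒮.deg U hU i) (hs : s ∈ 𝒮.deg U hU k) (hd : (i : ℤ) = k + n)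
    (hWs : RelProj.emb p chart U hU ⁻¹ᵁ W ≤ Proj.basicOpen (𝒮.deg U hU) s) :
    ∃ σ : Γ(On, W), ∀ y hy, nval lam U hU σ y hy = Localization.mk a ⟨s, hWs hy⟩ := by
  obtain ⟨σ, hσ⟩ := (hO.bijective U hU W hW).2 (GrTw11.frac (𝒮.deg U hU) (n := n) _ ha hs hd hWs)
  refine ⟨σ, fun y hy => ?_⟩
  rw [nval, hσ]
  exact GrTw11.val_frac y hy

include hO hP in
/-- A fraction restricts to the fraction of the restrictions. -/
theorem nval_res {U D : S.Opens} (hU : IsAffineOpen U) (hD : IsAffineOpen D) (h : RelProj11.IsBasic U D)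
    {W W' : P.Opens} (hW' : W' ≤ W) (hW'D : W' ≤ p ⁻¹ᵁ D) (σ : Γ(On, W)) {a s : 𝒮.presheaf.obj (op U)}
    (hWs : RelProj.emb p chart U hU ⁻¹ᵁ W ≤ Proj.basicOpen (𝒮.deg U hU) s)
    (hσ : ∀ y hy, nval lam U hU σ y hy = Localization.mk a ⟨s, hWs hy⟩)
    (y : Proj (𝒮.deg D hD)) (hy : y ∈ RelProj.emb p chart D hD ⁻¹ᵁ W')
    (hys : 𝒮.res hU hD h.le s ∉ y.asHomogeneousIdeal) :
    nval lam D hD (mres On hW' σ) y hy = Localization.mk (𝒮.res hU hD h.le a) ⟨𝒮.res hU hD h.le s, hys⟩ := by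
  obtain ⟨r, rfl⟩ := h
  rw [nval_mres]
  have hy' := RelProj11.comap_mem (W := W) hU hD ⟨r, rfl⟩ (Scheme.Hom.preimage_mono _ hW' hy) hP
  have h1 := hO.compat U hU r W σ y (hW' hy) hy'
  refine h1.trans ?_
  refine (congrArg _ (hσ _ hy')).trans ?_
  exact GrTw11.locMap_frac _ _ y a s _

end twist

variable {Y X P PL : Scheme.{u}} {L : X.Modules} {𝒜 : RelProj.QCGrAlg Y}
  {𝒮L : RelProj.QCGrAlg X} {jL : L ⟶ 𝒮L.toModule}
  (hLq : Coh.IsQCoh L) (hjL : RelProj.IsGrSymAlg L 𝒮L jL) (hL : PicF.IsInvertible L)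

/-- A section which is a unit times a power of a generator. -/
def IsNZ (jL : L ⟶ 𝒮L.toModule) (V : X.Opens) (e : Γ(L, V)) (c : 𝒮L.presheaf.obj (op V)) : Prop :=
  ∃ (α : Γ(X, V)) (N : ℕ), IsUnit α ∧ c = (𝒮L.str.app (op V)).hom α * SymAlg11.tgen jL V e ^ N

theorem IsNZ.mul {V : X.Opens} {e : Γ(L, V)} {c d : 𝒮L.presheaf.obj (op V)} (hc : IsNZ jL V e c)
    (hd : IsNZ jL V e d) : IsNZ jL V e (c * d) := by
  obtain ⟨α, N, hα, rfl⟩ := hc
  obtain ⟨β, M, hβ, rfl⟩ := hd
  exact ⟨α * β, N + M, hα.mul hβ, by rw [map_mul, pow_add, mul_mul_mul_comm]⟩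

theorem IsNZ.pow {V : X.Opens} {e : Γ(L, V)} {c : 𝒮L.presheaf.obj (op V)} (hc : IsNZ jL V e c) (k : ℕ) :
    IsNZ jL V e (c ^ k) := by
  obtain ⟨α, N, hα, rfl⟩ := hc
  exact ⟨α ^ k, N * k, hα.pow k, by rw [map_pow, mul_pow, pow_mul]⟩

theorem isNZ_tgen {V : X.Opens} (e : Γ(L, V)) (N : ℕ) :
    IsNZ jL V e (SymAlg11.tgen jL V e ^ N) := ⟨1, N, isUnit_one, by rw [map_one, one_mul]⟩

include hLq hjL in
theorem IsNZ.cancel {V : X.Opens} (hV : IsAffineOpen V) {e : Γ(L, V)} (he : M2.IsGenerator e)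
    {c : 𝒮L.presheaf.obj (op V)} (hc : IsNZ jL V e c) {m : ℕ} {x y : 𝒮L.presheaf.obj (op V)}
    (hx : x ∈ 𝒮L.deg V hV m) (hy : y ∈ 𝒮L.deg V hV m) (h : x * c = y * c) : x = y := by
  obtain ⟨α, N, hα, rfl⟩ := hc
  obtain ⟨b, rfl⟩ := SymAlg11.exists_eq_of_mem hLq hjL hV he hx
  obtain ⟨d, rfl⟩ := SymAlg11.exists_eq_of_mem hLq hjL hV he hy
  rw [mul_mul_mul_comm, mul_mul_mul_comm ((𝒮L.str.app (op V)).hom d), ← map_mul, ← map_mul, ← pow_add] at h
  rw [hα.mul_left_inj.1 (SymAlg11.str_mul_pow_inj hLq hjL hV he h)]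

include hLq hjL in
theorem isNZ_of_le_nv {W V : X.Opens} (hV : IsAffineOpen V) {e : Γ(L, V)} (he : M2.IsGenerator e)
    {m : ℕ} {c : 𝒮L.presheaf.obj (op W)} (hc : SymAlg11.IsHom 𝒮L W m c)
    (h : V ≤ SymAlg11.nv 𝒮L W m c) (hVW : V ≤ W) : IsNZ jL V e (SymAlg11.gres 𝒮L hVW c) := by
  obtain ⟨a, ha⟩ := SymAlg11.exists_eq_of_mem hLq hjL hV he (hc V hV hVW)
  refine ⟨a, m, RingedSpace.isUnit_of_isUnit_germ X.toRingedSpace V a fun x hx => ?_, ha⟩
  exact (Scheme.mem_basicOpen X a x hx).1 ((SymAlg11.mem_nv_iff hLq hjL hV hVW he ha hx).1 (h hx))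

variable {p : P ⟶ Y}
  {chart : ∀ (U : Y.Opens) (hU : IsAffineOpen U), (((p ⁻¹ᵁ U : P.Opens) : Scheme.{u}) ≅ Proj (𝒜.deg U hU))}
  (hP : RelProj.IsRelProj 𝒜 p chart)
  {pL : PL ⟶ X}
  {chartL : ∀ (U : X.Opens) (hU : IsAffineOpen U), (((pL ⁻¹ᵁ U : PL.Opens) : Scheme.{u}) ≅ Proj (𝒮L.deg U hU))}
  (hPL : RelProj.IsRelProj 𝒮L pL chartL) (g : X ⟶ P) (u : RelProj.QGrHom (g ≫ p) 𝒜 𝒮L)
  {r : (RelProj.domQ u pL chartL).toScheme ⟶ P}
  (hr : RelProj.IsProjQMapOn u p chart pL chartL (RelProj.domQ u pL chartL) r)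
  (hm : ((RelProj.domQ u pL chartL).ι ≫ pL) ≫ g = r)

include hLq hjL hL hPL hP hr hm in
theorem preimage_dd_eq [Surjective ((RelProj.domQ u pL chartL).ι ≫ pL)] {U : Y.Opens} (hU : IsAffineOpen U)
    {m : ℕ} (hm0 : 0 < m) {s : 𝒜.presheaf.obj (op U)} (hs : s ∈ 𝒜.deg U hU m) :
    g ⁻¹ᵁ dd p chart U hU s = SymAlg11.locU u m s := by
  refine SetLike.ext fun x => ?_
  obtain ⟨z, rfl⟩ := ((RelProj.domQ u pL chartL).ι ≫ pL).surjective x
  have h1 : g (((RelProj.domQ u pL chartL).ι ≫ pL) z) = r z := by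
    rw [← Scheme.Hom.comp_apply, hm]
  show g (((RelProj.domQ u pL chartL).ι ≫ pL) z) ∈ dd p chart U hU s ↔ pL z.1 ∈ _
  rw [h1]
  exact SymAlg11.mem_preimage_iff' hLq hjL hL u hP hPL hr hU hm0 hs z

include hLq hjL hL hPL hP hr hm in
/-- The inverse image of `O(n)` is the `n`-th power. -/
theorem nonempty_pullback_iso [Surjective ((RelProj.domQ u pL chartL).ι ≫ pL)]
    (hu : ∀ (U : Y.Opens), IsAffineOpen U → Function.Bijective (u.app U).hom)
    (h : RelAmple.IsRelAmple (g ≫ p) L) (n : ℕ) {On : P.Modules}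
    {lamn : ∀ (U : Y.Opens) (hU : IsAffineOpen U),
      On ⟶ (Scheme.Modules.pushforward (RelProj.emb p chart U hU)).obj (GrTwist.twist (𝒜.deg U hU) (n : ℤ))}
    (hO : RelProj.IsRelTwist 𝒜 p chart (n : ℤ) On lamn) :
    Nonempty ((Scheme.Modules.pullback g).obj On ≅ CohB1.tensorPow L n) := by
  classical
  have hpre := fun {U : Y.Opens} (hU : IsAffineOpen U) {m : ℕ} (hm0 : 0 < m) {s : 𝒜.presheaf.obj (op U)}
    (hs : s ∈ 𝒜.deg U hU m) => preimage_dd_eq hLq hjL hL hP hPL g u hr hm hU hm0 hs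
  have hdata : ∀ x : X, ∃ (U : Y.Opens) (hU : IsAffineOpen U) (m k : ℕ) (_ : 0 < m)
      (s t : 𝒜.presheaf.obj (op U)) (hs : s ∈ 𝒜.deg U hU m) (ht : t ∈ 𝒜.deg U hU (n + k * m))
      (e : Γ(L, SymAlg11.locU u m s)) (σ : Γ(On, dd p chart U hU (s * t))),
      M2.IsGenerator e ∧
      SymAlg11.gres 𝒮L (SymAlg11.nv_le _ m ((u.app U).hom s)) ((u.app U).hom t) =
        SymAlg11.tgen jL _ e ^ n * SymAlg11.gres 𝒮L (SymAlg11.nv_le _ m ((u.app U).hom s)) ((u.app U).hom s) ^ k ∧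
      x ∈ g ⁻¹ᵁ dd p chart U hU (s * t) ∧
      ∃ hb : RelProj.emb p chart U hU ⁻¹ᵁ dd p chart U hU (s * t) ≤ Proj.basicOpen (𝒜.deg U hU) (s ^ k),
        ∀ y hy, nval lamn U hU σ y hy = Localization.mk t ⟨s ^ k, hb hy⟩ := by
    intro x
    obtain ⟨U, hU, hxU, -⟩ := exists_isAffineOpen_mem_and_subset (U := (⊤ : Y.Opens)) (x := (g ≫ p) x) trivial
    let W := (g ≫ p) ⁻¹ᵁ U
    obtain ⟨V₀, e₀, hxV₀, hV₀W, -, he₀⟩ := Amp.exists_isGenerator hL (V := W) (x := x) hxU
    obtain ⟨m, G, hG, hxG, hGV, -⟩ := Amp.exists_hasSec_le (h.2 ⟨U, hU⟩) (x := ⟨x, hxU⟩)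
      (V := W.ι ⁻¹ᵁ V₀) hxV₀
    obtain ⟨c, hc, hcG⟩ := SymAlg11.exists_sec_of_hasSec hLq hjL hL W hG
    obtain ⟨s, hs, rfl⟩ := SymAlg11.exists_mem_of_isHom u hU (hu U hU) hc
    have hN : SymAlg11.nv 𝒮L W (m + 1) ((u.app U).hom s) ≤ V₀ := by
      rw [hcG]
      exact fun y ⟨z, hz, e⟩ => e ▸ hGV hz
    let e := mres L hN e₀
    have he : M2.IsGenerator e := SymAlg11.isGenerator_mres he₀ hN
    have hW := h.2 ⟨U, hU⟩
    have hτ : SymAlg11.IsHom 𝒮L (SymAlg11.nv 𝒮L W (m + 1) ((u.app U).hom s)) n (SymAlg11.tgen jL _ e ^ n) := by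
      intro V hV hle
      rw [map_pow, SymAlg11.gres_tgen]
      simpa using SetLike.pow_mem_graded n (SymAlg11.tgen_mem hjL hV (mres L hle e))
    obtain ⟨k, d, hd, hdt⟩ := SymAlg11.exists_pow_extend_isHom hLq hjL hL (isCompact_iff_compactSpace.2 hW.2.1)
      ((isQuasiSeparated_iff_quasiSeparatedSpace _ W.2).2 (Amp.quasiSeparatedSpace_of_isAmple hW)) hc hτ
    obtain ⟨t, ht, rfl⟩ := SymAlg11.exists_mem_of_isHom u hU (hu U hU) hd
    have hst : s * t ∈ 𝒜.deg U hU (m + 1 + (n + k * (m + 1))) := SetLike.mul_mem_graded hs ht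
    have hb : RelProj.emb p chart U hU ⁻¹ᵁ dd p chart U hU (s * t) ≤ Proj.basicOpen (𝒜.deg U hU) (s ^ k) := by
      rw [preimage_dd, Proj.basicOpen_mul]
      intro y hy
      exact GrTw11.pow_notMem _ hy.1 k
    obtain ⟨σ, hσ⟩ := exists_nval_frac hO U hU (dd_le U hU _) ht
      (show s ^ k ∈ 𝒜.deg U hU (k * (m + 1)) by simpa using SetLike.pow_mem_graded k hs)
      (by push_cast; ring) hb
    refine ⟨U, hU, m + 1, k, Nat.succ_pos _, s, t, hs, ht, e, σ, he, hdt, ?_, hb, hσ⟩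
    rw [hpre hU (by omega) hst]
    have hxN : x ∈ SymAlg11.nv 𝒮L W (m + 1) ((u.app U).hom s) := by
      rw [hcG]; exact ⟨_, hxG, rfl⟩
    obtain ⟨V, hV, hxV, hVN⟩ := exists_isAffineOpen_mem_and_subset hxN
    have hVW : V ≤ W := hVN.trans (SymAlg11.nv_le _ _ _)
    have heV : M2.IsGenerator (mres L hVN e) := SymAlg11.isGenerator_mres he hVN
    obtain ⟨α, N, hα, hst'⟩ := ((isNZ_of_le_nv hLq hjL hV heV hc hVN hVW).mul
      ((isNZ_tgen (jL := jL) (mres L hVN e) n).mul ((isNZ_of_le_nv hLq hjL hV heV hc hVN hVW).pow k)))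
    have h1 : SymAlg11.gres 𝒮L hVW ((u.app U).hom (s * t)) =
        (𝒮L.str.app (op V)).hom α * SymAlg11.tgen jL V (mres L hVN e) ^ N := by
      rw [← hst', map_mul, map_mul, ← SymAlg11.gres_gres (SymAlg11.nv_le _ _ _) hVN ((u.app U).hom t), hdt,
        map_mul, map_pow, map_pow, SymAlg11.gres_tgen, SymAlg11.gres_gres]
    obtain ⟨β, hβ⟩ := SymAlg11.exists_eq_of_mem hLq hjL hV heV (u.map_mem U hU V hV hVW hst)
    refine (SymAlg11.mem_nv_iff hLq hjL hV hVW heV (hβ : SymAlg11.gres 𝒮L hVW _ = _) hxV).2 ?_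
    have hu' : IsUnit β := by
      have h2 : SymAlg11.Gens 𝒮L hV (m + 1 + (n + k * (m + 1))) (SymAlg11.gres 𝒮L hVW ((u.app U).hom (s * t))) := by
        intro y hy
        obtain ⟨c', rfl⟩ := SymAlg11.exists_eq_of_mem hLq hjL hV heV hy
        obtain ⟨α', hα'⟩ := isUnit_iff_exists_inv'.1 hα
        refine Ideal.mem_span_singleton'.2 ⟨(𝒮L.str.app (op V)).hom (c' * α'), ?_⟩
        rw [h1]
        have hN' : ∀ q, (𝒮L.str.app (op V)).hom q * SymAlg11.tgen jL V (mres L hVN e) ^ N ∈ 𝒮L.deg V hV N :=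
          fun q => SymAlg11.str_mul_pow_mem hjL hV _ q N
        by_cases hne : (𝒮L.str.app (op V)).hom α * SymAlg11.tgen jL V (mres L hVN e) ^ N = 0
        · have : α = 0 := SymAlg11.str_mul_pow_inj hLq hjL hV heV (b := 0) (n := N)
            (hne.trans (by rw [map_zero, zero_mul]))
          subst this
          have h01 : (0 : Γ(X, V)) = 1 := by simpa using hα'
          rw [← mul_one c', ← h01]
          simp
        · have hdeg := DirectSum.degree_eq_of_mem_mem (𝒮L.deg V hV) (h1 ▸ u.map_mem U hU V hV hVW hst) (hN' α) hne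
          rw [hdeg, ← mul_assoc, ← map_mul, mul_assoc, hα', mul_one]
      exact (SymAlg11.gens_iff_isUnit hLq hjL hV heV hβ).1 h2
    rw [Scheme.basicOpen_of_isUnit _ hu']
    exact hxV
  choose U hU m k hm0 s t hs ht e σ he hte hx hb hσ using hdata
  let O : X → X.Opens := fun x => g ⁻¹ᵁ dd p chart (U x) (hU x) (s x * t x)
  have hON : ∀ x, O x ≤ SymAlg11.locU u (m x) (s x) := fun x => by
    rw [← hpre (hU x) (hm0 x) (hs x)]
    refine g.preimage_mono (Scheme.Hom.image_mono _ ?_)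
    rw [Proj.basicOpen_mul]
    exact inf_le_left
  let pp : ∀ x, Γ((Scheme.Modules.pullback g).obj On, O x) := fun x => M2.pullSec g On (σ x)
  let qq : ∀ x, Γ(CohB1.tensorPow L n, O x) := fun x => Amp.pw (mres L (hON x) (e x)) n
  have hp : ∀ x, Twist.IsGen _ (O x) (pp x) := fun x => by
    refine Twist.IsGen.pullback g (RelProj11.isGen_of_lam hO (dd_le (U x) (hU x) _) (σ x)
      (GrTw11.frac (𝒜.deg (U x) (hU x)) _
        (show s x ^ k x ∈ 𝒜.deg (U x) (hU x) (k x * m x) by simpa using SetLike.pow_mem_graded (k x) (hs x))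
        (ht x) (by push_cast; ring) (by
          rw [preimage_dd, Proj.basicOpen_mul]
          exact inf_le_right)) fun y hy => ?_)
    refine Eq.trans (congrArg (fun z => z * _) (hσ x y hy)) ?_
    rw [GrTw11.val_frac]
    exact GrTw11.mk_mul_mk_eq_one _ _ (hb x hy)
  have hq : ∀ x, Twist.IsGen (CohB1.tensorPow L n) (O x) (qq x) := fun x =>
    SymAlg11.isGen_pw hL (SymAlg11.isGenerator_mres (he x) (hON x)) n
  have hpq : Twist.SameTransition O pp qq := by
    intro i j V hi hj τ hτ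
    have hloc : ∀ x : V, ∃ V' : X.Opens, ∃ hV' : V' ≤ V, x.1 ∈ V' ∧
        mres (CohB1.tensorPow L n) (hV'.trans hj) (qq j) =
          ores hV' τ • mres (CohB1.tensorPow L n) (hV'.trans hi) (qq i) := by
      rintro ⟨x, hx⟩
      have hxi : g x ∈ dd p chart (U i) (hU i) (s i * t i) := hi hx
      have hxj : g x ∈ dd p chart (U j) (hU j) (s j * t j) := hj hx
      obtain ⟨D, hD, hiD, hjD, hxD⟩ := RelProj11.exists_common_basic (hU i) (hU j) (p (g x))
        ⟨dd_le _ _ _ hxi, dd_le _ _ _ hxj⟩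
      let si := 𝒜.res (hU i) hD hiD.le (s i)
      let ti := 𝒜.res (hU i) hD hiD.le (t i)
      let sj := 𝒜.res (hU j) hD hjD.le (s j)
      let tj := 𝒜.res (hU j) hD hjD.le (t j)
      let f := si * ti * (sj * tj)
      let d := m i + (n + k i * m i) + (m j + (n + k j * m j))
      have hf : f ∈ 𝒜.deg D hD d := SetLike.mul_mem_graded
        (SetLike.mul_mem_graded ((𝒜.res (hU i) hD hiD.le).map_mem (hs i)) ((𝒜.res (hU i) hD hiD.le).map_mem (ht i)))
        (SetLike.mul_mem_graded ((𝒜.res (hU j) hD hjD.le).map_mem (hs j)) ((𝒜.res (hU j) hD hjD.le).map_mem (ht j)))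
      have hd : 0 < d := by have := hm0 i; omega
      have hddres : ∀ (U₀ : Y.Opens) (hU₀ : IsAffineOpen U₀) (hUD : RelProj11.IsBasic U₀ D)
          (a : 𝒜.presheaf.obj (op U₀)),
          dd p chart D hD (𝒜.res hU₀ hD hUD.le a) = dd p chart U₀ hU₀ a ⊓ p ⁻¹ᵁ D := by
        intro U₀ hU₀ hUD a
        obtain ⟨r₀, hr₀⟩ := id hUD
        have hemb := RelProj11.map_res_emb_eq (q := p) (ch := chart) hP hU₀ hD hUD.le r₀ hr₀
        refine le_antisymm ?_ ?_
        · rintro _ ⟨w, hw, rfl⟩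
          refine ⟨⟨Proj.map (𝒜.res hU₀ hD hUD.le) (hUD.irrelevant hU₀ hD) w, ?_, ?_⟩, dd_le D hD _ ⟨w, hw, rfl⟩⟩
          · show Proj.map _ _ w ∈ Proj.basicOpen _ a
            rw [← Scheme.Hom.mem_preimage, Proj.map_preimage_basicOpen]
            exact hw
          · show (Proj.map _ _ ≫ RelProj.emb p chart U₀ hU₀) w = RelProj.emb p chart D hD w
            rw [hemb]
        · rintro z ⟨⟨w, hw, rfl⟩, hzD⟩
          obtain ⟨v, hv⟩ : RelProj.emb p chart U₀ hU₀ w ∈ Set.range (RelProj.emb p chart D hD) := by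
            rw [RelProj11.range_emb (𝒮' := 𝒜) p chart D hD]
            exact hzD
          refine ⟨v, ?_, hv⟩
          rw [← hemb, Scheme.Hom.comp_apply] at hv
          have h1 := (RelProj.emb p chart U₀ hU₀).isOpenEmbedding.injective hv
          show v ∈ Proj.basicOpen _ _
          rw [← Proj.map_preimage_basicOpen (𝒜.res hU₀ hD hUD.le) (hUD.irrelevant hU₀ hD), Scheme.Hom.mem_preimage, h1]
          exact hw
      let W' := dd p chart D hD f
      have hW'D : W' ≤ p ⁻¹ᵁ D := dd_le D hD f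
      have hfi : W' ≤ dd p chart D hD (si * ti) := Scheme.Hom.image_mono _ (by
        show Proj.basicOpen _ (si * ti * (sj * tj)) ≤ _
        rw [Proj.basicOpen_mul]; exact inf_le_left)
      have hfj : W' ≤ dd p chart D hD (sj * tj) := Scheme.Hom.image_mono _ (by
        show Proj.basicOpen _ (si * ti * (sj * tj)) ≤ _
        rw [Proj.basicOpen_mul]; exact inf_le_right)
      have hWi : W' ≤ dd p chart (U i) (hU i) (s i * t i) := fun z hz => by
        have := hfi hz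
        rw [show si * ti = 𝒜.res (hU i) hD hiD.le (s i * t i) from (map_mul _ _ _).symm, hddres _ _ hiD] at this
        exact this.1
      have hWj : W' ≤ dd p chart (U j) (hU j) (s j * t j) := fun z hz => by
        have := hfj hz
        rw [show sj * tj = 𝒜.res (hU j) hD hjD.le (s j * t j) from (map_mul _ _ _).symm, hddres _ _ hjD] at this
        exact this.1
      have hxW : g x ∈ W' := by
        obtain ⟨w, hw, hwx⟩ : g x ∈ dd p chart D hD (si * ti) := by
          rw [show si * ti = 𝒜.res (hU i) hD hiD.le (s i * t i) from (map_mul _ _ _).symm, hddres _ _ hiD]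
          exact ⟨hxi, hxD⟩
        obtain ⟨w', hw', hwx'⟩ : g x ∈ dd p chart D hD (sj * tj) := by
          rw [show sj * tj = 𝒜.res (hU j) hD hjD.le (s j * t j) from (map_mul _ _ _).symm, hddres _ _ hjD]
          exact ⟨hxj, hxD⟩
        obtain rfl : w = w' := (RelProj.emb p chart D hD).isOpenEmbedding.injective (hwx.trans hwx'.symm)
        refine ⟨w, ?_, hwx⟩
        show w ∈ Proj.basicOpen _ (si * ti * (sj * tj))
        rw [Proj.basicOpen_mul]
        exact ⟨hw, hw'⟩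
      let R := ti ^ k j * si ^ (k j + 1) * tj ^ (k j + 1) * sj
      let a := tj * si ^ k i * R
      have ha : a ∈ 𝒜.deg D hD ((k j + 1) • d) := by
        have h1 := SetLike.mul_mem_graded
          (SetLike.mul_mem_graded ((𝒜.res (hU j) hD hjD.le).map_mem (ht j))
            (SetLike.pow_mem_graded (k i) ((𝒜.res (hU i) hD hiD.le).map_mem (hs i))))
          (SetLike.mul_mem_graded (SetLike.mul_mem_graded (SetLike.mul_mem_graded
            (SetLike.pow_mem_graded (k j) ((𝒜.res (hU i) hD hiD.le).map_mem (ht i)))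
            (SetLike.pow_mem_graded (k j + 1) ((𝒜.res (hU i) hD hiD.le).map_mem (hs i))))
            (SetLike.pow_mem_graded (k j + 1) ((𝒜.res (hU j) hD hjD.le).map_mem (ht j))))
            ((𝒜.res (hU j) hD hjD.le).map_mem (hs j)))
        convert h1 using 2
        all_goals first | rfl | (simp only [smul_eq_mul, d]; ring)
      let z := Away.mk (𝒜.deg D hD) hf (k j + 1) a ha
      have hmem : ∀ y ∈ RelProj.emb p chart D hD ⁻¹ᵁ W', si ∉ y.asHomogeneousIdeal ∧
          sj ∉ y.asHomogeneousIdeal ∧ f ∉ y.asHomogeneousIdeal := fun y hy => by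
        have h1 : y ∈ Proj.basicOpen (𝒜.deg D hD) f := (preimage_dd D hD f).le hy
        have h2 := h1
        simp only [f, Proj.basicOpen_mul] at h2
        exact ⟨h2.1.1, h2.2.1, h1⟩
      have hrel : mres On hWj (σ j) = asec p chart D hD f z • mres On hWi (σ i) := by
        refine (hO.bijective D hD W' hW'D).1 (GrTw11.sec_ext fun y hy => ?_)
        obtain ⟨hyi, hyj, hyf⟩ := hmem y hy
        have hyi' : 𝒜.res (hU i) hD hiD.le (s i ^ k i) ∉ y.asHomogeneousIdeal := by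
          rw [map_pow]; exact GrTw11.pow_notMem _ hyi _
        have hyj' : 𝒜.res (hU j) hD hjD.le (s j ^ k j) ∉ y.asHomogeneousIdeal := by
          rw [map_pow]; exact GrTw11.pow_notMem _ hyj _
        show nval lamn D hD (mres On hWj (σ j)) y hy = nval lamn D hD (asec p chart D hD f z • mres On hWi (σ i)) y hy
        have e1 : nval lamn D hD (asec p chart D hD f z • mres On hWi (σ i)) y hy =
            GrTw11.valO ((RelProj.emb p chart D hD).app W' (asec p chart D hD f z)) y hy *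
              nval lamn D hD (mres On hWi (σ i)) y hy := by
          rw [nval, Scheme.Modules.Hom.app_smul]
          exact GrTw11.val_smul _ _ y hy
        rw [e1, app_asec, GrTw11.valO_map, nval_res hO hP (hU i) hD hiD hWi hW'D (σ i) (hb i) (hσ i) y hy hyi',
          nval_res hO hP (hU j) hD hjD hWj hW'D (σ j) (hb j) (hσ j) y hy hyj']
        erw [GrTw11.valO_awayToSection _ hf ha y hyf (GrTw11.pow_notMem _ hyf (k j + 1))]
        rw [Localization.mk_mul, Localization.mk_eq_mk_iff, Localization.r_iff_exists]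
        refine ⟨1, ?_⟩
        simp only [OneMemClass.coe_one, one_mul, Submonoid.coe_mul, map_pow, a, R, f]
        ring
      obtain ⟨V', hV', hxV', hV'le⟩ := exists_isAffineOpen_mem_and_subset
        (show x ∈ V ⊓ g ⁻¹ᵁ W' from ⟨hx, hxW⟩)
      have hV'V : V' ≤ V := hV'le.trans inf_le_left
      have hV'W : V' ≤ g ⁻¹ᵁ W' := hV'le.trans inf_le_right
      have hV'D : V' ≤ (g ≫ p) ⁻¹ᵁ D := fun y hy => hW'D (hV'W hy)
      let ψ := u.gradedAt D hD V' hV' hV'D
      have hNi : V' ≤ SymAlg11.locU u (m i) (s i) := hV'V.trans (hi.trans (hON i))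
      have hNj : V' ≤ SymAlg11.locU u (m j) (s j) := hV'V.trans (hj.trans (hON j))
      let εi := mres L hNi (e i)
      let εj := mres L hNj (e j)
      have hgi : M2.IsGenerator εi := SymAlg11.isGenerator_mres (he i) hNi
      obtain ⟨β, hβ'⟩ := (hgi V' le_rfl).2 εj
      have hβ : β • εi = εj := by
        refine Eq.trans ?_ hβ'
        show β • εi = β • mres L le_rfl εi
        rw [mres_id]
      have hψ : ∀ (U₀ : Y.Opens) (hU₀ : IsAffineOpen U₀) (hUD : RelProj11.IsBasic U₀ D)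
          (hle : V' ≤ (g ≫ p) ⁻¹ᵁ U₀) (b : 𝒜.presheaf.obj (op U₀)),
          ψ (𝒜.res hU₀ hD hUD.le b) = SymAlg11.gres 𝒮L hle ((u.app U₀).hom b) := by
        intro U₀ hU₀ hUD hle b
        exact congrArg (fun φ : _ →+*ᵍ _ => φ b) (RelProj11.gradedAt_res_source (u := u) hU₀ hD hUD.le hV' hV'D)
      have hlei := hNi.trans (SymAlg11.nv_le _ _ _)
      have hlej := hNj.trans (SymAlg11.nv_le _ _ _)
      have hTi : ψ ti = SymAlg11.tgen jL V' εi ^ n * ψ si ^ k i := by
        rw [hψ _ _ hiD hlei (s i), hψ _ _ hiD hlei (t i),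
          ← SymAlg11.gres_gres (SymAlg11.nv_le _ (m i) ((u.app (U i)).hom (s i))) hNi, hte i, map_mul, map_pow,
          map_pow, SymAlg11.gres_tgen, SymAlg11.gres_gres]
      have hTj : ψ tj = SymAlg11.tgen jL V' εj ^ n * ψ sj ^ k j := by
        rw [hψ _ _ hjD hlej (s j), hψ _ _ hjD hlej (t j),
          ← SymAlg11.gres_gres (SymAlg11.nv_le _ (m j) ((u.app (U j)).hom (s j))) hNj, hte j, map_mul, map_pow,
          map_pow, SymAlg11.gres_tgen, SymAlg11.gres_gres]
      have hSi : IsNZ jL V' εi (ψ si) := by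
        rw [hψ _ _ hiD hlei (s i)]
        exact isNZ_of_le_nv hLq hjL hV' hgi (SymAlg11.isHom_app u (hU i) (hs i)) hNi _
      have hSj : IsNZ jL V' εi (ψ sj) := by
        rw [hψ _ _ hjD hlej (s j)]
        exact isNZ_of_le_nv hLq hjL hV' hgi (SymAlg11.isHom_app u (hU j) (hs j)) hNj _
      have hεj : SymAlg11.tgen jL V' εj = (𝒮L.str.app (op V')).hom β * SymAlg11.tgen jL V' εi :=
        (congrArg (jL.app V') hβ.symm).trans (jL.app_smul β εi)
      have hβu : IsUnit β := by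
        obtain ⟨γ, hγ⟩ := (SymAlg11.isGenerator_mres (he j) hNj V' le_rfl).2 εi
        have hγ' : γ • εj = εi := by
          refine Eq.trans ?_ hγ
          show γ • εj = γ • mres L le_rfl εj
          rw [mres_id]
        refine isUnit_iff_exists_inv'.2 ⟨γ, (hgi V' le_rfl).1 ?_⟩
        show (γ * β) • mres L le_rfl εi = (1 : Γ(X, V')) • mres L le_rfl εi
        rw [mres_id, mul_smul, hβ, hγ', one_smul]
      have hEj : IsNZ jL V' εi (SymAlg11.tgen jL V' εj) := ⟨β, 1, hβu, by rw [pow_one, hεj]⟩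
      obtain ⟨M, hM⟩ := exists_pow_mul_app_asec hPL g u hr hm D hD hV' hV'D hd hf hV'W ha
      let b := ores hV'W (g.app W' (asec p chart D hD f z))
      change ψ f ^ M * ψ a = ψ f ^ M * (ψ f ^ (k j + 1) * (𝒮L.str.app (op V')).hom b) at hM
      have hkey : b = β ^ n := by
        refine SymAlg11.str_mul_pow_inj hLq hjL hV' hgi (n := n) ?_
        have hTi' : IsNZ jL V' εi (ψ ti) := hTi ▸ (isNZ_tgen εi n).mul (hSi.pow _)
        have hTj' : IsNZ jL V' εi (ψ tj) := hTj ▸ (hEj.pow n).mul (hSj.pow _)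
        have hf' : IsNZ jL V' εi (ψ f) := by
          simp only [f, map_mul]
          exact (hSi.mul hTi').mul (hSj.mul hTj')
        have hU' : IsNZ jL V' εi (ψ f ^ M * ψ sj ^ k j * ψ si ^ k i * ψ R) := by
          refine ((hf'.pow M).mul (hSj.pow _)).mul (hSi.pow _) |>.mul ?_
          simp only [R, map_mul, map_pow]
          exact (((hTi'.pow _).mul (hSi.pow _)).mul (hTj'.pow _)).mul hSj
        refine hU'.cancel hLq hjL hV' hgi (SymAlg11.str_mul_pow_mem hjL hV' εi b n)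
          (SymAlg11.str_mul_pow_mem hjL hV' εi _ n) ?_
        rw [map_pow, ← mul_pow, ← hεj]
        have hfR : ψ f ^ (k j + 1) = ψ ti * ψ sj ^ k j * ψ R := by
          simp only [f, R, map_mul, map_pow]
          ring
        have haR : ψ a = ψ tj * ψ si ^ k i * ψ R := by simp only [a, map_mul, map_pow]
        rw [hfR, haR, hTi, hTj] at hM
        linear_combination (-1 : 𝒮L.presheaf.obj (op V')) * hM
      have hrel' := congrArg (fun w => mres ((Scheme.Modules.pullback g).obj On) hV'W (M2.pullSec g On w)) hrel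
      simp only [M2.pullSec_smul, mres_smul, ← mres_pullSec g, mres_mres] at hrel'
      have hτ' := congrArg (mres ((Scheme.Modules.pullback g).obj On) hV'V) hτ
      rw [mres_smul, mres_mres, mres_mres] at hτ'
      have hτb : ores hV'V τ = b := (hp i V' (hV'V.trans hi)).1 (hτ'.symm.trans hrel')
      refine ⟨V', hV'V, hxV', ?_⟩
      rw [hτb, hkey]
      simp only [qq]
      rw [show mres (CohB1.tensorPow L n) (hV'V.trans hj) (Amp.pw (mres L (hON j) (e j)) n) = Amp.pw εj n from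
          (Amp.res_pw (hV'V.trans hj) _ n).trans (congrArg (fun w => Amp.pw w n) (mres_mres L (hON j) (hV'V.trans hj) (e j))),
        show mres (CohB1.tensorPow L n) (hV'V.trans hi) (Amp.pw (mres L (hON i) (e i)) n) = Amp.pw εi n from
          (Amp.res_pw (hV'V.trans hi) _ n).trans (congrArg (fun w => Amp.pw w n) (mres_mres L (hON i) (hV'V.trans hi) (e i))),
        ← hβ, Amp.pw_smul]
    choose V' hV' hxV' hq' using hloc
    refine modules_eq_of_locally_eq (CohB1.tensorPow L n) V V' hV'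
      (fun y hy => Opens.mem_iSup.2 ⟨⟨y, hy⟩, hxV' ⟨y, hy⟩⟩) _ _ fun y => ?_
    rw [mres_smul, mres_mres, mres_mres]
    exact hq' y
  obtain ⟨φ, -⟩ := Twist.exists_iso_of_gen O
    (top_le_iff.1 fun x _ => Opens.mem_iSup.2 ⟨x, hx x⟩) pp qq hp hq hpq
  exact ⟨φ⟩

end Groth.Agent.VA11
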