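import Groth.Agent.Lib.VeryAmple11.Univ

/-!
The projective bundle of an inverse image module.
-/

set_option autoImplicit false

universe u

open CategoryTheory Limits AlgebraicGeometry TopologicalSpace Opposite
open scoped HomogeneousIdeal

set_option backward.isDefEq.respectTransparency false

noncomputable section

namespace Groth.Agent.VA11

open Groth.Agent.M1

variable {S X P : Scheme.{u}} {E : S.Modules} {𝒮 : RelProj.QCGrAlg S} {j : E ⟶ 𝒮.toModule} {p : P ⟶ S}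
  {chart : ∀ (U : S.Opens) (hU : IsAffineOpen U), ((p ⁻¹ᵁ U : P.Opens) : Scheme.{u}) ≅ Proj (𝒮.deg U hU)}
  {O1 : P.Modules}
  {lam : ∀ (U : S.Opens) (hU : IsAffineOpen U),
    O1 ⟶ (Scheme.Modules.pushforward (RelProj.emb p chart U hU)).obj (GrTwist.twist (𝒮.deg U hU) 1)}
  (hE : Coh.IsQCoh E) (hj : RelProj.IsGrSymAlg E 𝒮 j) (hP : RelProj.IsRelProj 𝒮 p chart)
  (hO : RelProj.IsRelTwist 𝒮 p chart 1 O1 lam)

/-- The canonical map `E ⟶ p_* O(1)`, by its values. -/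
def IsCan (φ : E ⟶ (Scheme.Modules.pushforward p).obj O1) : Prop :=
  ∀ (U : S.Opens) (hU : IsAffineOpen U) (e : Γ(E, U)),
    φ.app U e = phi hO U hU (j.app U e) (hj.2 U hU e)

include hE hP in
theorem exists_can : ∃ φ : E ⟶ (Scheme.Modules.pushforward p).obj O1, IsCan hj hO φ := by
  have hgen := isGenDegOne_of_isGrSymAlg hE hj
  exact exists_hom_of_affine E ((Scheme.Modules.pushforward p).obj O1)
    (fun U hU => AddMonoidHom.mk' (fun e => phi hO U hU (j.app U e) (hj.2 U hU e)) fun e e' => by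
      simp only [map_add]
      exact phi_add hO U hU (hj.2 U hU e) (hj.2 U hU e'))
    (fun U hU r m => by
      show phi hO U hU _ _ = p.app U r • (phi hO U hU _ _ : Γ(O1, p ⁻¹ᵁ U))
      have e1 : j.app U (r • m) = (𝒮.str.app (op U)).hom r * (show 𝒮.presheaf.obj (op U) from j.app U m) :=
        j.app_smul r m
      simp only [e1]
      exact phi_str_mul hP hO hgen U hU r (hj.2 U hU m) _)
    (fun {U V} hU hV hle m => by
      show mres O1 (p.preimage_mono hle) (phi hO U hU _ _) = phi hO V hV _ _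
      rw [phi_res hO hP hU hV hle]
      congr 1
      exact (app_mres j hle m).symm)

/-- Composing a morphism with a given map of sections. -/
theorem exists_comp_unit {T : Scheme.{u}} {M : S.Modules} {N : P.Modules}
    (φ : M ⟶ (Scheme.Modules.pushforward p).obj N) (r : T ⟶ P) {L : T.Modules}
    (τ : (Scheme.Modules.pullback r).obj N ≅ L) {f : T ⟶ S} (hr : r ≫ p = f) :
    ∃ ω : M ⟶ (Scheme.Modules.pushforward f).obj L, ∀ (U : S.Opens) (e : Γ(M, U)),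
      ω.app U e = mres L (show f ⁻¹ᵁ U ≤ r ⁻¹ᵁ (p ⁻¹ᵁ U) by rw [← hr]; rfl)
        (τ.hom.app (r ⁻¹ᵁ (p ⁻¹ᵁ U)) (M2.pullSec r N (φ.app U e))) := by
  subst hr
  exact ⟨φ ≫ (Scheme.Modules.pushforward p).map ((Scheme.Modules.pullbackPushforwardAdjunction r).unit.app N ≫
    (Scheme.Modules.pushforward r).map τ.hom) ≫ (Scheme.Modules.pushforwardComp r p).hom.app L,
    fun U e => (mres_id L _ _).symm⟩

/-- Maps out of an inverse image agreeing on inverse images of sections agree. -/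
theorem hom_ext_pullSec {T : Scheme.{u}} (ψ : T ⟶ S) {M : S.Modules} {N : T.Modules}
    (u v : (Scheme.Modules.pullback ψ).obj M ⟶ N)
    (h : ∀ (U : S.Opens), IsAffineOpen U → ∀ e : Γ(M, U),
      u.app (ψ ⁻¹ᵁ U) (M2.pullSec ψ M e) = v.app (ψ ⁻¹ᵁ U) (M2.pullSec ψ M e)) : u = v := by
  let adj := Scheme.Modules.pullbackPushforwardAdjunction ψ
  refine (adj.homEquiv M N).injective (hom_ext_affine _ _ fun U hU e => ?_)
  rw [adj.homEquiv_unit, adj.homEquiv_unit]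
  exact h U hU e

include hE in
theorem gens_can {φ : E ⟶ (Scheme.Modules.pushforward p).obj O1} (h : IsCan hj hO φ) : Gens φ :=
  gens_of_eq_phi hE hj hO h

include hE hj hP in
/-- Generating sections give a morphism, inducing them on every open. -/
theorem exists_morphism_can {φ : E ⟶ (Scheme.Modules.pushforward p).obj O1} (hφ : IsCan hj hO φ) {f : X ⟶ S}
    {L : X.Modules} {σ : E ⟶ (Scheme.Modules.pushforward f).obj L} (hσ : Gens σ) :
    ∃ (r : X ⟶ P) (hr : r ≫ p = f) (τ : (Scheme.Modules.pullback r).obj O1 ≅ L),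
      ∀ (U : S.Opens) (e : Γ(E, U)),
        τ.hom.app (r ⁻¹ᵁ (p ⁻¹ᵁ U)) (M2.pullSec r O1 (φ.app U e)) =
          mres L (show r ⁻¹ᵁ (p ⁻¹ᵁ U) ≤ f ⁻¹ᵁ U by rw [← hr]; rfl) (σ.app U e) := by
  obtain ⟨r, hr, τ, h⟩ := exists_morphism_of_gens hE hj hP hO hσ
  obtain ⟨ω, hω⟩ := exists_comp_unit φ r τ hr
  have e : ω = σ := by
    refine hom_ext_affine _ _ fun U hU e => ?_
    have h1 := h U hU e
    rw [hω, hφ U hU e]
    refine (congrArg (mres L (show f ⁻¹ᵁ U ≤ r ⁻¹ᵁ (p ⁻¹ᵁ U) by rw [← hr]; rfl)) h1).trans ?_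
    exact (mres_mres L _ _ _).trans (mres_id L _ _)
  refine ⟨r, hr, τ, fun U e' => ?_⟩
  subst e
  rw [hω]
  exact ((mres_mres L _ _ _).trans (mres_id L _ _)).symm

include hE hj hP in
/-- A morphism is determined by what it induces. -/
theorem eq_of_can {φ : E ⟶ (Scheme.Modules.pushforward p).obj O1} (hφ : IsCan hj hO φ) {f : X ⟶ S}
    {L : X.Modules} {r₁ r₂ : X ⟶ P} (h₁ : r₁ ≫ p = f) (h₂ : r₂ ≫ p = f)
    (τ₁ : (Scheme.Modules.pullback r₁).obj O1 ≅ L) (τ₂ : (Scheme.Modules.pullback r₂).obj O1 ≅ L)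
    (σ : E ⟶ (Scheme.Modules.pushforward f).obj L)
    (hs₁ : ∀ (U : S.Opens), IsAffineOpen U → ∀ e : Γ(E, U),
      τ₁.hom.app (r₁ ⁻¹ᵁ (p ⁻¹ᵁ U)) (M2.pullSec r₁ O1 (φ.app U e)) =
        mres L (show r₁ ⁻¹ᵁ (p ⁻¹ᵁ U) ≤ f ⁻¹ᵁ U by rw [← h₁]; rfl) (σ.app U e))
    (hs₂ : ∀ (U : S.Opens), IsAffineOpen U → ∀ e : Γ(E, U),
      τ₂.hom.app (r₂ ⁻¹ᵁ (p ⁻¹ᵁ U)) (M2.pullSec r₂ O1 (φ.app U e)) =
        mres L (show r₂ ⁻¹ᵁ (p ⁻¹ᵁ U) ≤ f ⁻¹ᵁ U by rw [← h₂]; rfl) (σ.app U e)) :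
    r₁ = r₂ :=
  eq_of_sig hE hj hP hO h₁ h₂ τ₁ τ₂ (fun U _ e => σ.app U e)
    (fun U hU e => by rw [sig, ← hφ U hU e]; exact hs₁ U hU e)
    (fun U hU e => by rw [sig, ← hφ U hU e]; exact hs₂ U hU e)

/-- The projective bundle of an inverse image is the base change. -/
theorem exists_isPullback_bundle {S' P' : Scheme.{u}} (ψ : S' ⟶ S) {𝒮' : RelProj.QCGrAlg S'}
    {j' : (Scheme.Modules.pullback ψ).obj E ⟶ 𝒮'.toModule}
    (hE : Coh.IsQCoh E) (hE' : Coh.IsQCoh ((Scheme.Modules.pullback ψ).obj E))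
    (hj : RelProj.IsGrSymAlg E 𝒮 j)
    (hj' : RelProj.IsGrSymAlg ((Scheme.Modules.pullback ψ).obj E) 𝒮' j')
    (hP : RelProj.IsRelProj 𝒮 p chart) {p' : P' ⟶ S'}
    {chart' : ∀ (U' : S'.Opens) (hU' : IsAffineOpen U'), ((p' ⁻¹ᵁ U' : P'.Opens) : Scheme.{u}) ≅ Proj (𝒮'.deg U' hU')}
    (hP' : RelProj.IsRelProj 𝒮' p' chart') : ∃ g : P' ⟶ P, IsPullback g p' p ψ := by
  obtain ⟨O1, lam, hO⟩ := RelProj11.exists_isRelTwist hP 1
  obtain ⟨O1', lam', hO'⟩ := RelProj11.exists_isRelTwist hP' 1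
  obtain ⟨φ, hφ⟩ := exists_can hE hj hP hO
  obtain ⟨φ', hφ'⟩ := exists_can hE' hj' hP' hO'
  have hg' := gens_can hE' hj' hO' hφ'
  have hI := RelProj11.isInvertible_relTwist (isGenDegOne_of_isGrSymAlg hE hj) hO
  have hI' := RelProj11.isInvertible_relTwist (isGenDegOne_of_isGrSymAlg hE' hj') hO'
  let adjψ := Scheme.Modules.pullbackPushforwardAdjunction ψ
  let θ : (Scheme.Modules.pullback (p' ≫ ψ)).obj E ⟶ O1' :=
    (Scheme.Modules.pullbackComp p' ψ).inv.app E ≫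
      ((Scheme.Modules.pullbackPushforwardAdjunction p').homEquiv _ O1').symm φ'
  haveI : Epi (((Scheme.Modules.pullbackPushforwardAdjunction p').homEquiv _ O1').symm φ') := epi_of_gens hI' hg'
  haveI : Epi θ := epi_comp _ _
  have hθv : ∀ (U : S.Opens) (e : Γ(E, U)),
      ((Scheme.Modules.pullbackPushforwardAdjunction (p' ≫ ψ)).homEquiv E O1' θ).app U e =
        φ'.app (ψ ⁻¹ᵁ U) (M2.pullSec ψ E e) := by
    intro U e
    refine (congrArg (fun χ : E ⟶ (Scheme.Modules.pushforward (p' ≫ ψ)).obj O1' => χ.app U e)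
      ((Scheme.Modules.pullbackPushforwardAdjunction (p' ≫ ψ)).homEquiv_unit _ _ _)).trans ?_
    show θ.app ((p' ≫ ψ) ⁻¹ᵁ U) (M2.pullSec (p' ≫ ψ) E e) = _
    rw [comp_app_apply, pullbackComp_inv_pullSec]
    exact congrArg (fun χ : _ ⟶ (Scheme.Modules.pushforward p').obj O1' => χ.app (ψ ⁻¹ᵁ U) (M2.pullSec ψ E e))
      (((Scheme.Modules.pullbackPushforwardAdjunction p').homEquiv_unit _ _ _).symm.trans
        (Equiv.apply_symm_apply _ φ'))
  obtain ⟨g, hg, τg, hτg⟩ := exists_morphism_can hE hj hP hO hφ (gens_of_epi hI' θ)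
  have key : ∀ {T : Scheme.{u}} (h : T ⟶ P') (q : T ⟶ S') (k : T ⟶ P) (hq : h ≫ p' = q) (hk : h ≫ g = k),
      ∃ (τ : (Scheme.Modules.pullback h).obj O1' ≅ (Scheme.Modules.pullback k).obj O1)
        (ω : (Scheme.Modules.pullback ψ).obj E ⟶
          (Scheme.Modules.pushforward q).obj ((Scheme.Modules.pullback k).obj O1)),
        (∀ (U' : S'.Opens) (m : Γ((Scheme.Modules.pullback ψ).obj E, U')),
          τ.hom.app (h ⁻¹ᵁ (p' ⁻¹ᵁ U')) (M2.pullSec h O1' (φ'.app U' m)) =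
            mres _ (show h ⁻¹ᵁ (p' ⁻¹ᵁ U') ≤ q ⁻¹ᵁ U' by rw [← hq]; rfl) (ω.app U' m)) ∧
        ∀ (U : S.Opens) (e : Γ(E, U)), ω.app (ψ ⁻¹ᵁ U) (M2.pullSec ψ E e) =
          mres _ (show q ⁻¹ᵁ (ψ ⁻¹ᵁ U) ≤ k ⁻¹ᵁ (p ⁻¹ᵁ U) by
            rw [← hq, ← hk, Scheme.Hom.comp_preimage, Scheme.Hom.comp_preimage]
            exact h.preimage_mono (by rw [← Scheme.Hom.comp_preimage g p, hg]; rfl))
            (M2.pullSec k O1 (φ.app U e)) := by
    intro T h q k hq hk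
    subst hk
    let τ : (Scheme.Modules.pullback h).obj O1' ≅ (Scheme.Modules.pullback (h ≫ g)).obj O1 :=
      (Scheme.Modules.pullback h).mapIso τg.symm ≪≫ (Scheme.Modules.pullbackComp h g).app O1
    obtain ⟨ω, hω⟩ := exists_comp_unit φ' h τ hq
    refine ⟨τ, ω, fun U' m => ?_, fun U e => ?_⟩
    · rw [hω]
      exact ((mres_mres _ _ _ _).trans (mres_id _ _ _)).symm
    · subst hq
      rw [hω]
      refine (mres_id _ _ _).trans ?_
      rw [← hθv]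
      have hle : g ⁻¹ᵁ (p ⁻¹ᵁ U) ≤ (p' ≫ ψ) ⁻¹ᵁ U := by rw [← hg]; rfl
      have hge : (p' ≫ ψ) ⁻¹ᵁ U ≤ g ⁻¹ᵁ (p ⁻¹ᵁ U) := by rw [← hg]; rfl
      have h1 := congrArg (mres O1' hge) (hτg U e)
      rw [mres_mres, mres_id] at h1
      rw [← h1]
      have h3 : ∀ (W : P'.Opens) (hW : W ≤ g ⁻¹ᵁ (p ⁻¹ᵁ U)),
          τ.hom.app (h ⁻¹ᵁ W) (M2.pullSec h O1' (mres O1' hW
            (τg.hom.app (g ⁻¹ᵁ (p ⁻¹ᵁ U)) (M2.pullSec g O1 (φ.app U e))))) =
          mres _ (h.preimage_mono hW) (M2.pullSec (h ≫ g) O1 (φ.app U e)) := by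
        intro W hW
        rw [← mres_pullSec h hW, app_mres]
        refine congrArg (mres _ (h.preimage_mono hW)) ?_
        show ((Scheme.Modules.pullback h).map τg.inv ≫ (Scheme.Modules.pullbackComp h g).hom.app O1).app _ _ = _
        rw [comp_app_apply]
        have h4 : ((Scheme.Modules.pullback h).map τg.inv).app _
            (M2.pullSec h O1' (τg.hom.app (g ⁻¹ᵁ (p ⁻¹ᵁ U)) (M2.pullSec g O1 (φ.app U e)))) =
            M2.pullSec h _ (M2.pullSec g O1 (φ.app U e)) := by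
          refine (congrArg (fun χ => χ.app (g ⁻¹ᵁ (p ⁻¹ᵁ U)) (τg.hom.app _ (M2.pullSec g O1 (φ.app U e))))
            ((Scheme.Modules.pullbackPushforwardAdjunction h).unit.naturality τg.inv)).symm.trans ?_
          show M2.pullSec h _ (τg.inv.app _ (τg.hom.app _ (M2.pullSec g O1 (φ.app U e)))) = _
          rw [← comp_app_apply, τg.hom_inv_id]
          rfl
        erw [h4, ← pullbackComp_inv_pullSec h g O1 (φ.app U e), ← comp_app_apply, Iso.inv_hom_id_app]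
        rfl
      exact h3 _ hge
  let a := pullback.fst p ψ
  let b := pullback.snd p ψ
  have wab : a ≫ p = b ≫ ψ := pullback.condition
  obtain ⟨σ₀, hσ₀⟩ := exists_comp_unit φ a (Iso.refl _) wab
  let σr : (Scheme.Modules.pullback ψ).obj E ⟶ (Scheme.Modules.pushforward b).obj ((Scheme.Modules.pullback a).obj O1) :=
    (adjψ.homEquiv E _).symm (σ₀ ≫ (Scheme.Modules.pushforwardComp b ψ).inv.app _)
  have hσr : ∀ (U : S.Opens) (e : Γ(E, U)), σr.app (ψ ⁻¹ᵁ U) (M2.pullSec ψ E e) =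
      mres _ (show b ⁻¹ᵁ (ψ ⁻¹ᵁ U) ≤ a ⁻¹ᵁ (p ⁻¹ᵁ U) by
        rw [← Scheme.Hom.comp_preimage a p, wab]; rfl) (M2.pullSec a O1 (φ.app U e)) := fun U e =>
    (congrArg (fun χ : E ⟶ (Scheme.Modules.pushforward ψ).obj _ => χ.app U e)
      ((adjψ.homEquiv_unit _ _ _).symm.trans (Equiv.apply_symm_apply _ _))).trans (hσ₀ U e)
  have hgr : Gens σr := fun x => by
    obtain ⟨U, e, he⟩ := gens_can hE hj hO hφ (a x)
    refine ⟨ψ ⁻¹ᵁ U, M2.pullSec ψ E e, ?_⟩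
    show x ∈ gl (secs σr (ψ ⁻¹ᵁ U) (M2.pullSec ψ E e))
    rw [secs, hσr, gl_mres, gl_pullSec a hI]
    refine ⟨he, ?_⟩
    have h0 : (a ≫ p) ⁻¹ᵁ U = (b ≫ ψ) ⁻¹ᵁ U := by rw [wab]
    exact h0.le (gl_le (secs φ U e) he)
  obtain ⟨r, hr, τr, hτr⟩ := exists_morphism_can hE' hj' hP' hO' hφ' hgr
  have hrg : r ≫ g = a := by
    obtain ⟨τ, ω, hτω, hω⟩ := key r b (r ≫ g) hr rfl
    obtain ⟨σ, hσ⟩ := exists_comp_unit φ (r ≫ g) (τ.symm ≪≫ τr)
      (show (r ≫ g) ≫ p = b ≫ ψ by rw [Category.assoc, hg, ← hr, Category.assoc])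
    refine eq_of_can hE hj hP hO hφ (show (r ≫ g) ≫ p = b ≫ ψ by rw [Category.assoc, hg, ← hr, Category.assoc])
      wab (τ.symm ≪≫ τr) (Iso.refl _) σ₀ (fun U hU e => ?_) fun U hU e => ?_
    · have hge : (r ≫ g) ⁻¹ᵁ (p ⁻¹ᵁ U) ≤ r ⁻¹ᵁ (p' ⁻¹ᵁ (ψ ⁻¹ᵁ U)) := by
        rw [Scheme.Hom.comp_preimage]
        exact r.preimage_mono (by rw [← Scheme.Hom.comp_preimage g p, hg]; rfl)
      have h1 := congrArg ((τ.symm ≪≫ τr).hom.app _) (hτω (ψ ⁻¹ᵁ U) (M2.pullSec ψ E e))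
      rw [← comp_app_apply] at h1
      simp only [Iso.trans_hom, Iso.symm_hom, Iso.hom_inv_id_assoc] at h1
      rw [hτr, hσr, hω, app_mres, app_mres] at h1
      have h2 := congrArg (mres ((Scheme.Modules.pullback a).obj O1) hge) h1
      rw [mres_mres, mres_mres, mres_mres, mres_mres] at h2
      rw [hσ₀, mres_mres]
      exact (h2.trans (mres_id _ _ _)).symm
    · rw [hσ₀, mres_mres, mres_id]
  let c : P' ⟶ pullback p ψ := pullback.lift g p' hg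
  have hrc : r ≫ c = 𝟙 _ := by
    apply pullback.hom_ext
    · rw [Category.assoc, pullback.lift_fst, hrg, Category.id_comp]
    · rw [Category.assoc, pullback.lift_snd, hr, Category.id_comp]
  have hcr : c ≫ r = 𝟙 _ := by
    have e1 : (c ≫ r) ≫ p' = p' := by rw [Category.assoc, hr, pullback.lift_snd]
    have e2 : (c ≫ r) ≫ g = g := by rw [Category.assoc, hrg, pullback.lift_fst]
    obtain ⟨τ₁, ω₁, hτ₁, hω₁⟩ := key (c ≫ r) p' g e1 e2
    obtain ⟨τ₂, ω₂, hτ₂, hω₂⟩ := key (𝟙 P') p' g (Category.id_comp _) (Category.id_comp _)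
    have he : ω₁ = ω₂ := hom_ext_pullSec ψ _ _ fun U _ e => (hω₁ U e).trans (hω₂ U e).symm
    subst he
    exact eq_of_can hE' hj' hP' hO' hφ' e1 (Category.id_comp _) τ₁ τ₂ ω₁ (fun U _ m => hτ₁ U m) (fun U _ m => hτ₂ U m)
  haveI : IsIso c := ⟨r, hcr, hrc⟩
  exact ⟨g, IsPullback.of_iso_pullback ⟨hg⟩ (asIso c) (pullback.lift_fst _ _ _) (pullback.lift_snd _ _ _)⟩

end Groth.Agent.VA11
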